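import Groth.Agent.KoszulCone.Basic

/-!
Elements of the ideal generated by the sequence act on `CohIII.koszulCx` by null-homotopic maps.
-/

universe u

open CategoryTheory CategoryTheory.Limits CochainComplex CochainComplex.HomComplex

namespace Groth.KoszulCone

variable {A : Type u} [CommRing A]

section

variable {K L : CochainComplex (ModuleCat.{u} A) ℤ}

lemma ofHom_smul_id (a : A) :
    Cochain.ofHom (a • 𝟙 K) = a • Cochain.ofHom (𝟙 K) := by
  ext p; simp

lemma ofHom_smul' (a : A) (g : K ⟶ L) : Cochain.ofHom (a • g) = a • Cochain.ofHom g := by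
  ext p; simp

/-- `a • 𝟙 K = δ z` exhibits a null homotopy -/
lemma homotopy_iff (a : A) :
    Nonempty (Homotopy (a • 𝟙 K) 0) ↔
      ∃ z : Cochain K K (-1), δ (-1) 0 z = a • Cochain.ofHom (𝟙 K) := by
  constructor
  · rintro ⟨h⟩
    exact ⟨Cochain.ofHomotopy h, by rw [δ_ofHomotopy, Cochain.ofHom_zero, sub_zero, ofHom_smul_id]⟩
  · rintro ⟨z, hz⟩
    exact ⟨(Cochain.equivHomotopy (a • 𝟙 K) 0).symm
      ⟨z, by rw [hz, Cochain.ofHom_zero, add_zero, ofHom_smul_id]⟩⟩

lemma δ_cone_self (f : A) :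
    δ (-1) 0 ((mappingCone.snd (f • 𝟙 K)).comp (mappingCone.inl (f • 𝟙 K)) (zero_add (-1))) =
      f • Cochain.ofHom (𝟙 (mappingCone (f • 𝟙 K))) := by
  rw [δ_zero_cochain_comp _ _ 0 (neg_add_cancel 1), mappingCone.δ_inl, mappingCone.δ_snd,
    mappingCone.ext_cochain_from_iff _ (-1) 0 (neg_add_cancel 1)]
  simp [ofHom_smul_id, ofHom_smul']

lemma δ_cone_of (a f : A) (z : Cochain K K (-1)) (hz : δ (-1) 0 z = a • Cochain.ofHom (𝟙 K)) :
    δ (-1) 0
        (-(mappingCone.fst (f • 𝟙 K)).1.comp (z.comp (mappingCone.inl (f • 𝟙 K))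
            (show (-1 : ℤ) + -1 = -2 by norm_num)) (show (1 : ℤ) + -2 = -1 by norm_num) +
          (mappingCone.snd (f • 𝟙 K)).comp (z.comp (Cochain.ofHom (mappingCone.inr (f • 𝟙 K)))
            (add_zero (-1))) (zero_add (-1))) =
      a • Cochain.ofHom (𝟙 (mappingCone (f • 𝟙 K))) := by
  rw [δ_add, δ_neg, δ_comp _ _ _ 2 (-1) 0 (neg_add_cancel 1) (by norm_num) (by norm_num),
    δ_zero_cochain_comp _ _ 0 (neg_add_cancel 1),
    δ_comp z (mappingCone.inl (f • 𝟙 K)) _ 0 0 (-1) (by norm_num) (neg_add_cancel 1) (neg_add_cancel 1),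
    mappingCone.δ_inl, mappingCone.δ_snd, δ_comp_ofHom, hz, Cocycle.δ_eq_zero,
    mappingCone.ext_cochain_from_iff _ (-1) 0 (neg_add_cancel 1)]
  simp [ofHom_smul_id, ofHom_smul']

end

lemma nonempty_homotopy : ∀ (fs : List A) (M : ModuleCat.{u} A) (a : A), a ∈ Ideal.ofList fs →
    Nonempty (Homotopy (a • 𝟙 (CohIII.koszulCx M fs)) 0)
  | [], M, a, ha => by
      rw [Ideal.ofList_nil, Ideal.mem_bot] at ha
      exact ⟨Homotopy.ofEq (by rw [ha, zero_smul])⟩
  | f :: fs, M, a, ha => by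
      let φ := f • 𝟙 (CohIII.koszulCx M fs)
      let I : Ideal A :=
        { carrier := {a | ∃ z : Cochain (mappingCone φ) (mappingCone φ) (-1),
            δ (-1) 0 z = a • Cochain.ofHom (𝟙 (mappingCone φ))}
          add_mem' := by
            rintro a b ⟨z, hz⟩ ⟨w, hw⟩
            exact ⟨z + w, by rw [δ_add, hz, hw, add_smul]⟩
          zero_mem' := ⟨0, by simp⟩
          smul_mem' := by
            rintro r a ⟨z, hz⟩
            exact ⟨r • z, by rw [δ_smul, hz, smul_smul, smul_eq_mul]⟩ }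
      refine (homotopy_iff (K := mappingCone φ) a).2 ?_
      suffices h : Ideal.ofList (f :: fs) ≤ I from h ha
      rw [Ideal.ofList_cons, sup_le_iff, Ideal.span_le, Set.singleton_subset_iff]
      refine ⟨⟨_, δ_cone_self f⟩, fun b hb => ?_⟩
      obtain ⟨z, hz⟩ := (homotopy_iff b).1 (nonempty_homotopy fs M b hb)
      exact ⟨_, δ_cone_of b f z hz⟩

lemma smul_homology_eq_zero (fs : List A) (M : ModuleCat.{u} A) (a : A) (ha : a ∈ Ideal.ofList fs)
    (n : ℤ) (x : (CohIII.koszulCx M fs).homology n) : a • x = 0 := by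
  obtain ⟨h⟩ := nonempty_homotopy fs M a ha
  rw [← homologyMap_smul_id_apply, h.homologyMap_eq n, HomologicalComplex.homologyMap_zero]
  rfl

end Groth.KoszulCone
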