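import Groth.Agent.KoszulCone.Cohomology
import Groth.Agent.KoszulCone.NullHomotopy
import Groth.Prelude.Def_CAlg

/-!
Koszul cohomology and depth.
-/

universe u

open CategoryTheory CategoryTheory.Limits

namespace Groth.KoszulCone

variable {A : Type u} [CommRing A]

/-- iterated quotient by a sequence -/
noncomputable def iterQuot : List A → ModuleCat.{u} A → ModuleCat.{u} A
  | [], M => M
  | a :: rs, M => iterQuot rs (ModuleCat.of A (QuotSMulTop a M))

lemma isWeaklyRegular_concat : ∀ (rs : List A) (M : ModuleCat.{u} A) (b : A),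
    RingTheory.Sequence.IsWeaklyRegular M rs → IsSMulRegular (iterQuot rs M) b →
    RingTheory.Sequence.IsWeaklyRegular M (rs ++ [b])
  | [], M, b, _, h =>
    (RingTheory.Sequence.isWeaklyRegular_cons_iff M b []).2 ⟨h, RingTheory.Sequence.IsWeaklyRegular.nil _ _⟩
  | a :: rs, M, b, h, hb => by
      obtain ⟨h1, h2⟩ := (RingTheory.Sequence.isWeaklyRegular_cons_iff M a rs).1 h
      exact (RingTheory.Sequence.isWeaklyRegular_cons_iff M a (rs ++ [b])).2
        ⟨h1, isWeaklyRegular_concat rs _ b h2 hb⟩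

lemma iterQuot_nontrivial_finite [IsLocalRing A] : ∀ (rs : List A) (M : ModuleCat.{u} A),
    Module.Finite A M → Nontrivial M → (∀ r ∈ rs, r ∈ IsLocalRing.maximalIdeal A) →
    Module.Finite A (iterQuot rs M) ∧ Nontrivial (iterQuot rs M)
  | [], M, hf, hn, _ => ⟨hf, hn⟩
  | a :: rs, M, hf, hn, h => by
      refine iterQuot_nontrivial_finite rs _ inferInstance ?_
        fun r hr => h r (List.mem_cons_of_mem _ hr)
      exact Submodule.Quotient.nontrivial_iff.2 fun e =>
        Submodule.top_ne_pointwise_smul_of_mem_jacobson_annihilator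
          ((IsLocalRing.maximalIdeal_le_jacobson _) (h a List.mem_cons_self)) e.symm

lemma mul_les {a : A} {M : ModuleCat.{u} A} (h1 : IsSMulRegular M a) (fs : List A)
    (ha : a ∈ Ideal.ofList fs) (m : ℤ) :
    ∃ δ : (CohIII.koszulCx (ModuleCat.of A (QuotSMulTop a M)) fs).homology m →ₗ[A]
        (CohIII.koszulCx M fs).homology (m + 1),
      Function.Surjective δ ∧
        (Subsingleton ((CohIII.koszulCx M fs).homology m) → Function.Injective δ) := by
  have hS := mulSC_shortExact (M := M) h1 fs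
  have hr : (ComplexShape.up ℤ).Rel m (m + 1) := rfl
  have e1 := (ShortComplex.ShortExact.moduleCat_exact_iff_function_exact _).1
    (hS.homology_exact₁ m (m + 1) hr)
  have e3 := (ShortComplex.ShortExact.moduleCat_exact_iff_function_exact _).1
    (hS.homology_exact₃ m (m + 1) hr)
  refine ⟨(hS.δ m (m + 1) hr).hom, fun y => (e1 y).1 ?_, fun hsub => ?_⟩
  · have hf : (mulSC a M fs).f = a • 𝟙 (CohIII.koszulCx M fs) := koszulMap_smul_id a fs
    have hy : HomologicalComplex.homologyMap (a • 𝟙 (CohIII.koszulCx M fs)) (m + 1) y = 0 := by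
      rw [homologyMap_smul_id_apply]; exact smul_homology_eq_zero fs M a ha _ y
    rw [← hf] at hy
    exact hy
  · refine (injective_iff_map_eq_zero _).2 fun y hy => ?_
    obtain ⟨w, hw⟩ := (e3 y).1 hy
    have hw0 : w = 0 := @Subsingleton.elim _ hsub w 0
    subst hw0
    exact hw.symm.trans (map_zero _)

lemma vanish_and_lift (fs : List A) : ∀ (rs : List A) (M : ModuleCat.{u} A),
    RingTheory.Sequence.IsWeaklyRegular M rs → (∀ r ∈ rs, r ∈ Ideal.ofList fs) →
    (∀ n : ℤ, n < -fs.length + rs.length → Subsingleton ((CohIII.koszulCx M fs).homology n)) ∧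
    (Nontrivial ((CohIII.koszulCx (iterQuot rs M) fs).homology (-fs.length : ℤ)) →
      ∀ n : ℤ, n = -fs.length + rs.length → Nontrivial ((CohIII.koszulCx M fs).homology n))
  | [], M, _, _ => ⟨fun n hn => subsingleton_homology_out M fs n (Or.inl (by simpa using hn)),
      fun h n hn => by
        obtain rfl : n = -fs.length := by simpa using hn
        exact h⟩
  | a :: rs, M, h, hI => by
      obtain ⟨h1, h2⟩ := (RingTheory.Sequence.isWeaklyRegular_cons_iff M a rs).1 h
      obtain ⟨ihv, ihl⟩ := vanish_and_lift fs rs (ModuleCat.of A (QuotSMulTop a M)) h2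
        fun r hr => hI r (List.mem_cons_of_mem _ hr)
      have hv : ∀ n : ℤ, n < -fs.length + (a :: rs).length →
          Subsingleton ((CohIII.koszulCx M fs).homology n) := fun n hn => by
        obtain ⟨m, rfl⟩ : ∃ m, n = m + 1 := ⟨n - 1, by omega⟩
        have := ihv m (by simp only [List.length_cons, Nat.cast_add, Nat.cast_one] at hn; omega)
        obtain ⟨δ, hsurj, -⟩ := mul_les h1 fs (hI a List.mem_cons_self) m
        exact hsurj.subsingleton
      refine ⟨hv, fun hN n hn => ?_⟩
      obtain ⟨m, rfl⟩ : ∃ m, n = m + 1 := ⟨n - 1, by omega⟩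
      simp only [List.length_cons, Nat.cast_add, Nat.cast_one] at hn
      have hnt := ihl hN m (by omega)
      have hsub := hv m (by simp only [List.length_cons, Nat.cast_add, Nat.cast_one]; omega)
      obtain ⟨δ, -, hinj⟩ := mul_les h1 fs (hI a List.mem_cons_self) m
      exact (hinj hsub).nontrivial

lemma nontrivial_bottom [IsNoetherianRing A] (fs : List A) (N : ModuleCat.{u} A)
    (hf : Module.Finite A N) (hn : Nontrivial N)
    (hz : ∀ b ∈ Ideal.ofList fs, ¬ IsSMulRegular N b) :
    Nontrivial ((CohIII.koszulCx N fs).homology (-fs.length : ℤ)) := by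
  obtain ⟨q, hq, hrange⟩ := exists_bottom fs N _ rfl
  have hsub : (Ideal.ofList fs : Set A) ⊆ ⋃ p ∈ associatedPrimes A N, (p : Set A) := by
    intro b hb
    rw [biUnion_associatedPrimes_eq_zero_divisors]
    have := hz b hb
    rw [isSMulRegular_iff_right_eq_zero_of_smul] at this
    push Not at this
    obtain ⟨m, hm, hm0⟩ := this
    exact ⟨m, hm0, hm⟩
  obtain ⟨p, hp, hle⟩ := (Ideal.subset_union_prime_finite (associatedPrimes.finite A N) ⊥ ⊥
    fun p hp _ _ => IsAssociatedPrime.isPrime hp).1 hsub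
  obtain ⟨hprime, m, hm⟩ := isAssociatedPrime_iff.1 hp
  obtain ⟨z, hzm⟩ := (hrange m).2 fun x hx => by
    have : x ∈ p := hle (Ideal.subset_span hx)
    rw [hm, Submodule.mem_colon_singleton, Submodule.mem_bot] at this
    exact this
  refine ⟨⟨z, 0, fun e => ?_⟩⟩
  rw [e, map_zero] at hzm
  refine hprime.ne_top ((Ideal.eq_top_iff_one _).2 ?_)
  rw [hm, Submodule.mem_colon_singleton, Submodule.mem_bot, ← hzm, smul_zero]

lemma depth_main [IsNoetherianRing A] [IsLocalRing A] (fs : List A) (M : ModuleCat.{u} A)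
    (hf : Module.Finite A M) (hn : Nontrivial M)
    (hfs : ∀ x ∈ fs, x ∈ IsLocalRing.maximalIdeal A) :
    LocCoh.idealDepth (Ideal.ofList fs) M ≤ fs.length ∧
    (∀ p : ℕ, (p : ℕ∞) < LocCoh.idealDepth (Ideal.ofList fs) M →
      Subsingleton ((CohIII.koszulCx M fs).homology ((p : ℤ) - fs.length))) ∧
    (∀ r : ℕ, LocCoh.idealDepth (Ideal.ofList fs) M = r →
      Nontrivial ((CohIII.koszulCx M fs).homology ((r : ℤ) - fs.length))) := by
  classical
  have hIm : Ideal.ofList fs ≤ IsLocalRing.maximalIdeal A := Ideal.span_le.2 hfs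
  have hne : Ideal.ofList fs • (⊤ : Submodule A M) ≠ ⊤ := fun e =>
    Submodule.top_ne_ideal_smul_of_le_jacobson_annihilator
      (hIm.trans (IsLocalRing.maximalIdeal_le_jacobson _)) e.symm
  have hdef : LocCoh.idealDepth (Ideal.ofList fs) M =
      ⨆ (rs : List A) (_ : RingTheory.Sequence.IsWeaklyRegular M rs ∧ ∀ r ∈ rs, r ∈ Ideal.ofList fs),
        (rs.length : ℕ∞) := by
    rw [LocCoh.idealDepth, if_neg hne]
  have hlen : ∀ rs : List A, RingTheory.Sequence.IsWeaklyRegular M rs →
      (∀ r ∈ rs, r ∈ Ideal.ofList fs) → rs.length ≤ fs.length := by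
    intro rs h hI
    by_contra hlt
    obtain ⟨q, hq, hker⟩ := exists_top fs M
    have := (vanish_and_lift fs rs M h hI).1 0 (by omega)
    exact hne (by rw [← hker, LinearMap.ker_eq_top]; exact LinearMap.ext fun x => Subsingleton.elim _ _)
  refine ⟨?_, ?_, ?_⟩
  · rw [hdef]
    exact iSup₂_le fun rs h => by exact_mod_cast hlen rs h.1 h.2
  · intro p hp
    rw [hdef] at hp
    obtain ⟨rs, hlt⟩ := lt_iSup_iff.1 hp
    obtain ⟨⟨h1, h2⟩, hlt⟩ := lt_iSup_iff.1 hlt
    exact (vanish_and_lift fs rs M h1 h2).1 _ (by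
      have : p < rs.length := by exact_mod_cast hlt
      omega)
  · intro r hr
    rw [hdef] at hr
    obtain ⟨rs, h1, h2, h3⟩ : ∃ rs : List A, RingTheory.Sequence.IsWeaklyRegular M rs ∧
        (∀ x ∈ rs, x ∈ Ideal.ofList fs) ∧ rs.length = r := by
      have hle : ∀ rs : List A, RingTheory.Sequence.IsWeaklyRegular M rs →
          (∀ x ∈ rs, x ∈ Ideal.ofList fs) → rs.length ≤ r := fun rs h1 h2 => by
        have : (rs.length : ℕ∞) ≤ r := hr ▸ le_iSup₂_of_le rs ⟨h1, h2⟩ le_rfl
        exact_mod_cast this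
      rcases r with - | r
      · exact ⟨[], RingTheory.Sequence.IsWeaklyRegular.nil _ _, by simp, rfl⟩
      by_contra hno
      have hle' : ∀ rs : List A, RingTheory.Sequence.IsWeaklyRegular M rs →
          (∀ x ∈ rs, x ∈ Ideal.ofList fs) → rs.length ≤ r := fun rs h1 h2 => by
        have := hle rs h1 h2
        rcases this.lt_or_eq with h | h
        · omega
        · exact absurd ⟨rs, h1, h2, h⟩ hno
      have hc : ((r + 1 : ℕ) : ℕ∞) ≤ (r : ℕ∞) := hr ▸ iSup₂_le fun rs h => by
        exact_mod_cast hle' rs h.1 h.2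
      have : r + 1 ≤ r := by exact_mod_cast hc
      omega
    subst h3
    obtain ⟨hNf, hNn⟩ := iterQuot_nontrivial_finite rs M hf hn fun x hx => hIm (h2 x hx)
    refine (vanish_and_lift fs rs M h1 h2).2
      (nontrivial_bottom fs _ hNf hNn fun b hb hreg => ?_) _ (by omega)
    have hle : ((rs ++ [b]).length : ℕ∞) ≤ rs.length :=
      hr ▸ le_iSup₂_of_le (rs ++ [b]) ⟨isWeaklyRegular_concat rs M b h1 hreg, fun x hx => by
        rcases List.mem_append.1 hx with hx | hx
        · exact h2 x hx
        · rw [List.mem_singleton.1 hx]; exact hb⟩ le_rfl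
    have : (rs ++ [b]).length ≤ rs.length := by exact_mod_cast hle
    simp at this

end Groth.KoszulCone
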