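import Groth.Agent.KoszulCone.Basic

/-!
Vanishing and extreme degrees of the cohomology of `CohIII.koszulCx`.
-/

universe u

open CategoryTheory CategoryTheory.Limits

namespace Groth.KoszulCone

variable {A : Type u} [CommRing A]

/-- `M → M` -/
noncomputable abbrev smulHom (f : A) (M : ModuleCat.{u} A) : M ⟶ M := f • 𝟙 M

/-- `M → M/fM` -/
noncomputable abbrev projHom (f : A) (M : ModuleCat.{u} A) : M ⟶ ModuleCat.of A (QuotSMulTop f M) :=
  ModuleCat.ofHom (Submodule.mkQ _)

lemma smul_proj (f : A) (M : ModuleCat.{u} A) : smulHom f M ≫ projHom f M = 0 := by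
  refine ModuleCat.hom_ext (LinearMap.ext fun x => ?_)
  exact (Submodule.Quotient.mk_eq_zero _).2 (Submodule.smul_mem_pointwise_smul x f ⊤ Submodule.mem_top)

/-- the short exact sequence of Koszul complexes of multiplication by a regular element -/
noncomputable abbrev mulSC (f : A) (M : ModuleCat.{u} A) (fs : List A) :
    ShortComplex (CochainComplex (ModuleCat.{u} A) ℤ) :=
  koszulSC (smulHom f M) (projHom f M) (smul_proj f M) fs

lemma mulSC_shortExact {f : A} {M : ModuleCat.{u} A} (hf : IsSMulRegular M f) (fs : List A) :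
    (mulSC f M fs).ShortExact := by
  refine koszulSC_shortExact _ _ _ (fun x y h => hf h) (fun y => ⟨fun hy => ?_, ?_⟩)
    (Submodule.mkQ_surjective _) fs
  · obtain ⟨x, -, hx⟩ := (Submodule.mem_smul_pointwise_iff_exists _ _ _).1
      ((Submodule.Quotient.mk_eq_zero _).1 hy)
    exact ⟨x, hx⟩
  · rintro ⟨x, rfl⟩
    exact (Submodule.Quotient.mk_eq_zero _).2
      (Submodule.smul_mem_pointwise_smul x f ⊤ Submodule.mem_top)

/-- for `f` regular on `M`, `K(f :: fs; M)` has the cohomology of `K(fs; M/fM)` -/
lemma nonempty_iso_cons {f : A} {M : ModuleCat.{u} A} (hf : IsSMulRegular M f) (fs : List A)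
    (n : ℤ) : Nonempty ((CohIII.koszulCx M (f :: fs)).homology n ≅
      (CohIII.koszulCx (ModuleCat.of A (QuotSMulTop f M)) fs).homology n) := by
  have := CochainComplex.mappingCone.quasiIso_descShortComplex (mulSC_shortExact hf fs)
  have hiso : IsIso (HomologicalComplex.homologyMap
      (CochainComplex.mappingCone.descShortComplex (mulSC f M fs)) n) :=
    (quasiIsoAt_iff_isIso_homologyMap _ _).1 (QuasiIso.quasiIsoAt n)
  have e : (CochainComplex.mappingCone (mulSC f M fs).f).homology n ≅
      (CohIII.koszulCx (ModuleCat.of A (QuotSMulTop f M)) fs).homology n :=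
    @asIso _ _ _ _ (HomologicalComplex.homologyMap
      (CochainComplex.mappingCone.descShortComplex (mulSC f M fs)) n) hiso
  have h : (mulSC f M fs).f = f • 𝟙 (CohIII.koszulCx M fs) := koszulMap_smul_id f fs
  rw [h] at e
  exact ⟨e⟩

lemma subsingleton_of_isWeaklyRegular : ∀ (fs : List A) (M : ModuleCat.{u} A),
    RingTheory.Sequence.IsWeaklyRegular M fs → ∀ n : ℤ, n ≠ 0 →
    Subsingleton ((CohIII.koszulCx M fs).homology n)
  | [], M, _, n, hn => subsingleton_homology_out M [] n (by
      simp only [List.length_nil, Nat.cast_zero, neg_zero]; omega)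
  | f :: fs, M, h, n, hn => by
      obtain ⟨h1, h2⟩ := (RingTheory.Sequence.isWeaklyRegular_cons_iff M f fs).1 h
      obtain ⟨e⟩ := nonempty_iso_cons h1 fs n
      have := subsingleton_of_isWeaklyRegular fs (ModuleCat.of A (QuotSMulTop f M)) h2 n hn
      exact e.toLinearEquiv.injective.subsingleton

lemma ofList_cons_smul_top (f : A) (fs : List A) (M : Type u) [AddCommGroup M] [Module A M] :
    Ideal.ofList (f :: fs) • (⊤ : Submodule A M) =
      Ideal.ofList fs • (⊤ : Submodule A M) ⊔ Ideal.span {f} • (⊤ : Submodule A M) := by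
  rw [Ideal.ofList_cons, Submodule.sup_smul, sup_comm]

lemma exists_top : ∀ (fs : List A) (M : ModuleCat.{u} A),
    ∃ q : M →ₗ[A] (CohIII.koszulCx M fs).homology 0, Function.Surjective q ∧
      LinearMap.ker q = Ideal.ofList fs • (⊤ : Submodule A M)
  | [], M => by
      refine ⟨(HomologicalComplex.singleObjHomologySelfIso (ComplexShape.up ℤ) 0 M).symm.toLinearEquiv.toLinearMap,
        (HomologicalComplex.singleObjHomologySelfIso (ComplexShape.up ℤ) 0 M).symm.toLinearEquiv.surjective, ?_⟩
      rw [Ideal.ofList_nil, Submodule.bot_smul]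
      exact LinearEquiv.ker _
  | f :: fs, M => by
      obtain ⟨q, hq, hker⟩ := exists_top fs M
      set φ := f • 𝟙 (CohIII.koszulCx M fs)
      let ι := (HomologicalComplex.homologyMap (CochainComplex.mappingCone.inr φ) 0).hom
      obtain ⟨δ, hδ, -⟩ := cone_exact_delta φ 0 1 rfl
      have := subsingleton_homology_out M fs 1 (Or.inr (by norm_num))
      have hι : Function.Surjective ι := fun y => (hδ y).1 (Subsingleton.elim _ _)
      refine ⟨ι ∘ₗ q, hι.comp hq, ?_⟩
      ext x
      rw [LinearMap.mem_ker]
      show ι (q x) = 0 ↔ _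
      refine ((cone_exact₂ φ 0) (q x)).trans ?_
      rw [ofList_cons_smul_top, ← hker, Submodule.mem_sup]
      constructor
      · rintro ⟨y, hy⟩
        obtain ⟨y, rfl⟩ := hq y
        rw [homologyMap_smul_id_apply, ← map_smul] at hy
        refine ⟨x - f • y, ?_, f • y, ?_, by abel⟩
        · rw [LinearMap.mem_ker, map_sub, hy, sub_self]
        · exact Submodule.smul_mem_smul (Ideal.mem_span_singleton_self f) Submodule.mem_top
      · rintro ⟨a, ha, b, hb, rfl⟩
        rw [Submodule.ideal_span_singleton_smul, Submodule.mem_smul_pointwise_iff_exists] at hb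
        obtain ⟨y, -, rfl⟩ := hb
        refine ⟨q y, ?_⟩
        rw [homologyMap_smul_id_apply, map_add, LinearMap.mem_ker.1 ha, zero_add, map_smul]

lemma exists_bottom : ∀ (fs : List A) (M : ModuleCat.{u} A) (n : ℤ), n = -fs.length →
    ∃ q : (CohIII.koszulCx M fs).homology n →ₗ[A] M, Function.Injective q ∧
      ∀ m : M, (∃ z, q z = m) ↔ ∀ x ∈ fs, x • m = 0
  | [], M, n, hn => by
      obtain rfl : n = 0 := by simpa using hn
      refine ⟨(HomologicalComplex.singleObjHomologySelfIso (ComplexShape.up ℤ) 0 M).toLinearEquiv.toLinearMap,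
        (HomologicalComplex.singleObjHomologySelfIso (ComplexShape.up ℤ) 0 M).toLinearEquiv.injective,
        fun m => ⟨fun _ x hx => absurd hx List.not_mem_nil, fun _ => ?_⟩⟩
      exact (HomologicalComplex.singleObjHomologySelfIso (ComplexShape.up ℤ) 0 M).toLinearEquiv.surjective m
  | f :: fs, M, n, hn => by
      obtain ⟨q, hq, hrange⟩ := exists_bottom fs M (n + 1) (by
        simp only [List.length_cons, Nat.cast_add, Nat.cast_one] at hn; omega)
      set φ := f • 𝟙 (CohIII.koszulCx M fs)
      obtain ⟨δ, hδ₁, hδ₂⟩ := cone_exact_delta φ n (n + 1) rfl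
      have := subsingleton_homology_out M fs n (Or.inl (by
        simp only [List.length_cons, Nat.cast_add, Nat.cast_one] at hn; omega))
      have hinj : Function.Injective δ := by
        rw [injective_iff_map_eq_zero]
        intro y hy
        obtain ⟨w, rfl⟩ := (hδ₁ y).1 hy
        rw [Subsingleton.elim w 0, map_zero]
      refine ⟨q ∘ₗ δ, hq.comp hinj, fun m => ⟨?_, fun h => ?_⟩⟩
      · rintro ⟨z, rfl⟩ x hx
        rcases List.mem_cons.1 hx with rfl | hx
        · have := hδ₂.apply_apply_eq_zero z
          rw [homologyMap_smul_id_apply] at this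
          show x • q (δ z) = 0
          rw [← map_smul, this, map_zero]
        · exact (hrange _).1 ⟨δ z, rfl⟩ x hx
      · obtain ⟨w, hw⟩ := (hrange m).2 fun x hx => h x (List.mem_cons_of_mem _ hx)
        have hfw : HomologicalComplex.homologyMap φ (n + 1) w = 0 := by
          rw [homologyMap_smul_id_apply]
          exact hq (by rw [map_smul, hw, h f List.mem_cons_self, map_zero])
        obtain ⟨z, hz⟩ := (hδ₂ w).1 hfw
        exact ⟨z, by rw [← hw, ← hz]; rfl⟩

end Groth.KoszulCone
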