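import Groth.Agent.KoszulCone.Basic

/-!
Elements of mapping cones of cochain complexes of modules, and elementwise quasi-isomorphisms.
-/

set_option linter.unusedSectionVars false

universe u

open CategoryTheory CategoryTheory.Limits CochainComplex CochainComplex.HomComplex

namespace Groth.KoszulCone

variable {A : Type u} [CommRing A]
variable {K L : CochainComplex (ModuleCat.{u} A) ℤ} (φ : K ⟶ L)

/-- first coordinate on the cone -/
noncomputable def cfst (i j : ℤ) (hij : i + 1 = j) : (mappingCone φ).X i →ₗ[A] K.X j :=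
  ((mappingCone.fst φ).1.v i j hij).hom

/-- second coordinate on the cone -/
noncomputable def csnd (i : ℤ) : (mappingCone φ).X i →ₗ[A] L.X i :=
  ((mappingCone.snd φ).v i i (add_zero i)).hom

/-- pairing -/
noncomputable def cmk (i j : ℤ) (hij : i + 1 = j) (a : K.X j) (b : L.X i) :
    (mappingCone φ).X i :=
  (mappingCone.inl φ).v j i (by omega) a + (mappingCone.inr φ).f i b

@[simp] lemma cfst_cmk (i j : ℤ) (hij : i + 1 = j) (a : K.X j) (b : L.X i) :
    cfst φ i j hij (cmk φ i j hij a b) = a := by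
  show ((mappingCone.fst φ).1.v i j hij) (_ + _) = a
  rw [map_add, ← ConcreteCategory.comp_apply, ← ConcreteCategory.comp_apply]
  simp

@[simp] lemma csnd_cmk (i j : ℤ) (hij : i + 1 = j) (a : K.X j) (b : L.X i) :
    csnd φ i (cmk φ i j hij a b) = b := by
  show ((mappingCone.snd φ).v i i (add_zero i)) (_ + _) = b
  rw [map_add, ← ConcreteCategory.comp_apply, ← ConcreteCategory.comp_apply]
  simp

lemma cmk_cfst_csnd (i j : ℤ) (hij : i + 1 = j) (x : (mappingCone φ).X i) :
    cmk φ i j hij (cfst φ i j hij x) (csnd φ i x) = x :=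
  LinearMap.congr_fun (congrArg ModuleCat.Hom.hom (mappingCone.id_X φ i j hij)) x

lemma cone_ext {i j : ℤ} (hij : i + 1 = j) {x y : (mappingCone φ).X i}
    (h1 : cfst φ i j hij x = cfst φ i j hij y) (h2 : csnd φ i x = csnd φ i y) : x = y := by
  rw [← cmk_cfst_csnd φ i j hij x, ← cmk_cfst_csnd φ i j hij y, h1, h2]

lemma cfst_d (i j k : ℤ) (hij : i + 1 = j) (hjk : j + 1 = k) (x : (mappingCone φ).X i) :
    cfst φ j k hjk ((mappingCone φ).d i j x) = - K.d j k (cfst φ i j hij x) :=
  LinearMap.congr_fun (congrArg ModuleCat.Hom.hom (mappingCone.d_fst_v φ i j k hij hjk)) x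

lemma csnd_d (i j : ℤ) (hij : i + 1 = j) (x : (mappingCone φ).X i) :
    csnd φ j ((mappingCone φ).d i j x) = φ.f j (cfst φ i j hij x) + L.d i j (csnd φ i x) :=
  LinearMap.congr_fun (congrArg ModuleCat.Hom.hom (mappingCone.d_snd_v φ i j hij)) x

variable {φ} {K' L' : CochainComplex (ModuleCat.{u} A) ℤ} {φ' : K' ⟶ L'}
  {a : K ⟶ K'} {b : L ⟶ L'} (hc : φ ≫ b = a ≫ φ')

lemma cfst_map (i j : ℤ) (hij : i + 1 = j) (x : (mappingCone φ).X i) :
    cfst φ' i j hij ((mappingCone.map φ φ' a b hc).f i x) = a.f j (cfst φ i j hij x) := by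
  subst hij
  exact LinearMap.congr_fun (congrArg ModuleCat.Hom.hom (cone_map_fst φ φ' a b hc i)) x

lemma csnd_map (i : ℤ) (x : (mappingCone φ).X i) :
    csnd φ' i ((mappingCone.map φ φ' a b hc).f i x) = b.f i (csnd φ i x) :=
  LinearMap.congr_fun (congrArg ModuleCat.Hom.hom (cone_map_snd φ φ' a b hc i)) x

lemma comm_apply (hc : φ ≫ b = a ≫ φ') (i : ℤ) (x : K.X i) : b.f i (φ.f i x) = φ'.f i (a.f i x) :=
  LinearMap.congr_fun (congrArg ModuleCat.Hom.hom (congrArg (fun h => HomologicalComplex.Hom.f h i) hc)) x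

lemma hom_d (g : K ⟶ L) (i j : ℤ) (x : K.X i) : g.f j (K.d i j x) = L.d i j (g.f i x) :=
  (LinearMap.congr_fun (congrArg ModuleCat.Hom.hom (g.comm i j)) x).symm

lemma d_d (i j k : ℤ) (x : K.X i) : K.d j k (K.d i j x) = 0 :=
  LinearMap.congr_fun (congrArg ModuleCat.Hom.hom (K.d_comp_d i j k)) x

/-- elementwise quasi-isomorphism -/
structure EQI (g : K ⟶ L) : Prop where
  surj : ∀ i j k : ℤ, i + 1 = j → j + 1 = k → ∀ y : L.X j, L.d j k y = 0 →
    ∃ (x : K.X j) (w : L.X i), K.d j k x = 0 ∧ g.f j x + L.d i j w = y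
  inj : ∀ i j k : ℤ, i + 1 = j → j + 1 = k → ∀ x : K.X j, K.d j k x = 0 → ∀ w : L.X i,
    g.f j x = L.d i j w → ∃ v : K.X i, K.d i j v = x

lemma EQI.comp {M : CochainComplex (ModuleCat.{u} A) ℤ} {g : K ⟶ L} {h : L ⟶ M}
    (hg : EQI g) (hh : EQI h) : EQI (g ≫ h) where
  surj i j k hij hjk y hy := by
    obtain ⟨x, w, hx, rfl⟩ := hh.surj i j k hij hjk y hy
    obtain ⟨x', w', hx', rfl⟩ := hg.surj i j k hij hjk x hx
    refine ⟨x', h.f i w' + w, hx', ?_⟩
    rw [map_add, map_add, HomologicalComplex.comp_f, ConcreteCategory.comp_apply, hom_d]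
    abel
  inj i j k hij hjk x hx w hw := by
    rw [HomologicalComplex.comp_f, ConcreteCategory.comp_apply] at hw
    obtain ⟨v, hv⟩ := hh.inj i j k hij hjk (g.f j x) (by rw [← hom_d, hx, map_zero]) w hw
    exact hg.inj i j k hij hjk x hx v hv.symm

lemma EQI.of_iso (g : K ⟶ L) [IsIso g] : EQI g where
  surj i j k _ _ y hy := by
    refine ⟨(inv g).f j y, 0, by rw [← hom_d, hy, map_zero], ?_⟩
    rw [map_zero, add_zero, ← ConcreteCategory.comp_apply, ← HomologicalComplex.comp_f,
      IsIso.inv_hom_id]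
    rfl
  inj i j k _ _ x _ w hw := by
    refine ⟨(inv g).f i w, ?_⟩
    rw [← hom_d, ← hw, ← ConcreteCategory.comp_apply, ← HomologicalComplex.comp_f,
      IsIso.hom_inv_id]
    rfl

lemma EQI.isIso_homologyMap {g : K ⟶ L} (h : EQI g) (n : ℤ) :
    IsIso (HomologicalComplex.homologyMap g n) := by
  have hac : ∀ j, Subsingleton ((mappingCone g).homology j) := by
    intro j
    obtain ⟨i, rfl⟩ : ∃ i, j = i + 1 := ⟨j - 1, by omega⟩
    refine ModuleCat.subsingleton_of_isZero ((HomologicalComplex.exactAt_iff_isZero_homology _ _).1 ?_)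
    rw [HomologicalComplex.exactAt_iff' _ i (i + 1) (i + 1 + 1) (by simp) (by simp),
      ShortComplex.moduleCat_exact_iff]
    intro z hz
    replace hz : (mappingCone g).d (i + 1) (i + 1 + 1) z = 0 := hz
    obtain ⟨i', hi'⟩ : ∃ i', i' + 1 = i + 1 := ⟨i, rfl⟩
    set x := cfst g (i + 1) (i + 1 + 1) rfl z
    set y := csnd g (i + 1) z
    have hx : K.d (i + 1 + 1) (i + 1 + 1 + 1) x = 0 := by
      have := cfst_d g (i + 1) (i + 1 + 1) (i + 1 + 1 + 1) rfl rfl z
      rw [hz, map_zero, eq_comm, neg_eq_zero] at this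
      exact this
    have hy : g.f (i + 1 + 1) x + L.d (i + 1) (i + 1 + 1) y = 0 := by
      have := csnd_d g (i + 1) (i + 1 + 1) rfl z
      rw [hz, map_zero] at this
      exact this.symm
    obtain ⟨v, hv⟩ := h.inj (i + 1) (i + 1 + 1) _ rfl rfl x hx (-y)
      (by rw [map_neg]; exact eq_neg_of_add_eq_zero_left hy)
    obtain ⟨u, w, hu, huw⟩ := h.surj i (i + 1) (i + 1 + 1) rfl rfl (y + g.f (i + 1) v)
      (by rw [map_add, ← hom_d, hv, add_comm (L.d _ _ y)]; exact hy)
    refine ⟨cmk g i (i + 1) rfl (-v + u) w, ?_⟩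
    show (mappingCone g).d i (i + 1) _ = z
    refine cone_ext g (rfl : i + 1 + 1 = _) ?_ ?_
    · rw [cfst_d g i (i + 1) (i + 1 + 1) rfl rfl, cfst_cmk, map_add, map_neg, hu, hv, add_zero,
        neg_neg]
    · rw [csnd_d g i (i + 1) rfl, cfst_cmk, csnd_cmk, map_add, map_neg, add_assoc, huw]
      abel
  have hinj : Function.Injective (HomologicalComplex.homologyMap g n) := by
    obtain ⟨δ, -, hδ⟩ := cone_exact_delta g (n - 1) n (by omega)
    rw [injective_iff_map_eq_zero]
    intro x hx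
    obtain ⟨z, rfl⟩ := (hδ x).1 hx
    rw [@Subsingleton.elim _ (hac (n - 1)) z 0, map_zero]
  have hsurj : Function.Surjective (HomologicalComplex.homologyMap g n) := fun y =>
    (cone_exact₂ g n y).1 (@Subsingleton.elim _ (hac n) _ _)
  have := (ModuleCat.mono_iff_injective _).2 hinj
  have := (ModuleCat.epi_iff_surjective _).2 hsurj
  exact isIso_of_mono_of_epi _

lemma EQI.cone_map (ha : EQI a) (hb : EQI b) : EQI (mappingCone.map φ φ' a b hc) where
  surj i j k hij hjk z hz := by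
    obtain ⟨l, hl⟩ : ∃ l, k + 1 = l := ⟨_, rfl⟩
    set x := cfst φ' j k hjk z
    set y := csnd φ' j z
    have hx : K'.d k l x = 0 := by
      have := cfst_d φ' j k l hjk hl z
      rw [hz, map_zero, eq_comm, neg_eq_zero] at this
      exact this
    have hy : φ'.f k x + L'.d j k y = 0 := by
      have := csnd_d φ' j k hjk z
      rw [hz, map_zero] at this
      exact this.symm
    obtain ⟨x₀, w₀, hx₀, hxw⟩ := ha.surj j k l hjk hl x hx
    obtain ⟨v, hv⟩ := hb.inj j k l hjk hl (φ.f k x₀) (by rw [← hom_d, hx₀, map_zero])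
      (-y - φ'.f j w₀) (by
        rw [comm_apply hc, map_sub, map_neg, ← hom_d, eq_neg_of_add_eq_zero_right hy, neg_neg,
          ← map_sub]
        congr 1
        rw [← hxw]; abel)
    obtain ⟨u, t, hu, hut⟩ := hb.surj i j k hij hjk (y + φ'.f j w₀ + b.f j v) (by
      rw [map_add, map_add, ← hom_d, ← hom_d, hv, comm_apply hc,
        eq_neg_of_add_eq_zero_right hy, ← hxw, map_add]
      abel)
    refine ⟨cmk φ j k hjk x₀ (u - v), cmk φ' i j hij (-w₀) t, ?_, ?_⟩
    · refine cone_ext φ hl ?_ ?_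
      · rw [cfst_d φ j k l hjk hl, cfst_cmk, hx₀, neg_zero, map_zero]
      · rw [csnd_d φ j k hjk, cfst_cmk, csnd_cmk, map_sub, hu, hv, map_zero]
        abel
    · refine cone_ext φ' hjk ?_ ?_
      · rw [map_add, cfst_map, cfst_cmk, cfst_d φ' i j k hij hjk, cfst_cmk, map_neg, neg_neg]
        exact hxw
      · rw [map_add, csnd_map, csnd_cmk, csnd_d φ' i j hij, cfst_cmk, csnd_cmk, map_sub, map_neg]
        have : y = b.f j u + L'.d i j t - φ'.f j w₀ - b.f j v := by rw [hut]; abel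
        show _ = y
        rw [this]; abel
  inj i j k hij hjk z hz w hw := by
    obtain ⟨h, hh⟩ : ∃ h, h + 1 = i := ⟨i - 1, by omega⟩
    obtain ⟨l, hl⟩ : ∃ l, k + 1 = l := ⟨_, rfl⟩
    set x := cfst φ j k hjk z
    set y := csnd φ j z
    have hx : K.d k l x = 0 := by
      have := cfst_d φ j k l hjk hl z
      rw [hz, map_zero, eq_comm, neg_eq_zero] at this
      exact this
    have hy : φ.f k x + L.d j k y = 0 := by
      have := csnd_d φ j k hjk z
      rw [hz, map_zero] at this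
      exact this.symm
    set p := cfst φ' i j hij w
    set q := csnd φ' i w
    have hxp : a.f k x = - K'.d j k p := by
      rw [← cfst_d φ' i j k hij hjk w, ← hw, cfst_map]
    have hyq : b.f j y = φ'.f j p + L'.d i j q := by
      rw [← csnd_d φ' i j hij w, ← hw, csnd_map]
    obtain ⟨p₀, hp₀⟩ := ha.inj j k l hjk hl x hx (-p) (by rw [hxp, map_neg])
    obtain ⟨u, t, hu, hut⟩ := ha.surj i j k hij hjk (a.f j p₀ + p) (by
      rw [map_add, ← hom_d, hp₀, hxp, neg_add_cancel])
    obtain ⟨v, hv⟩ := hb.inj i j k hij hjk (y + φ.f j p₀ - φ.f j u) (by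
      rw [map_sub, map_add, ← hom_d, ← hom_d, hp₀, hu, map_zero, add_comm, hy, sub_zero])
      (φ'.f i t + q) (by
        rw [map_sub, map_add, comm_apply hc, comm_apply hc, hyq, map_add, ← hom_d]
        have e : φ'.f j (K'.d i j t) = φ'.f j (a.f j p₀) + φ'.f j p - φ'.f j (a.f j u) := by
          rw [← map_add, ← map_sub]
          congr 1
          rw [← hut]; abel
        rw [e]; abel)
    refine ⟨cmk φ i j hij (-p₀ + u) v, cone_ext φ hjk ?_ ?_⟩
    · rw [cfst_d φ i j k hij hjk, cfst_cmk, map_add, map_neg, hu, hp₀, add_zero, neg_neg]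
    · rw [csnd_d φ i j hij, cfst_cmk, csnd_cmk, hv, map_add, map_neg]
      show _ = y
      abel

end Groth.KoszulCone
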