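import Groth.Prelude.Def_ega3
import Mathlib

/-!
The iterated-cone Koszul complex `CohIII.koszulCx`: cone sequences, functoriality in the module.
-/

universe u

open CategoryTheory CategoryTheory.Limits CochainComplex.HomComplex

namespace Groth.KoszulCone

variable {A : Type u} [CommRing A]

section cone

open HomologicalComplex

variable {K L : CochainComplex (ModuleCat.{u} A) ℤ}

lemma exact_transfer {X Y Z X' Y' Z' : ModuleCat.{u} A} {f : X ⟶ Y} {g : Y ⟶ Z} {w : f ≫ g = 0}
    (h : (ShortComplex.mk f g w).Exact) (eX : X ≅ X') (eY : Y ≅ Y') (eZ : Z ≅ Z')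
    (f' : X' ⟶ Y') (g' : Y' ⟶ Z') (hf : f ≫ eY.hom = eX.hom ≫ f') (hg : g ≫ eZ.hom = eY.hom ≫ g') :
    Function.Exact f' g' := by
  have w' : f' ≫ g' = 0 := by
    rw [← cancel_epi eX.hom, ← reassoc_of% hf, ← hg, reassoc_of% w]; simp
  have := (ShortComplex.exact_iff_of_iso
    (ShortComplex.isoMk eX eY eZ hf.symm hg.symm : ShortComplex.mk f g w ≅ ShortComplex.mk f' g' w')).1 h
  exact (ShortComplex.ShortExact.moduleCat_exact_iff_function_exact _).1 this

/-- comparison of homology in the homotopy category -/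
noncomputable def hIso (n : ℤ) (X : CochainComplex (ModuleCat.{u} A) ℤ) :
    ((HomotopyCategory.homologyFunctor (ModuleCat.{u} A) (ComplexShape.up ℤ) 0).shift n).obj
      ((HomotopyCategory.quotient (ModuleCat.{u} A) (ComplexShape.up ℤ)).obj X) ≅ X.homology n :=
  (HomotopyCategory.homologyFunctorFactors (ModuleCat.{u} A) (ComplexShape.up ℤ) n).app X

lemma hIso_nat (n : ℤ) {X Y : CochainComplex (ModuleCat.{u} A) ℤ} (g : X ⟶ Y) :
    ((HomotopyCategory.homologyFunctor (ModuleCat.{u} A) (ComplexShape.up ℤ) 0).shift n).map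
      ((HomotopyCategory.quotient (ModuleCat.{u} A) (ComplexShape.up ℤ)).map g) ≫ (hIso n Y).hom =
      (hIso n X).hom ≫ homologyMap g n :=
  (HomotopyCategory.homologyFunctorFactors (ModuleCat.{u} A) (ComplexShape.up ℤ) n).hom.naturality g

lemma cone_exact₂ (φ : K ⟶ L) (n : ℤ) :
    Function.Exact (homologyMap φ n)
      (homologyMap (CochainComplex.mappingCone.inr φ) n) :=
  exact_transfer
    ((HomotopyCategory.homologyFunctor (ModuleCat.{u} A) (ComplexShape.up ℤ) 0).homologySequence_exact₂
      (CochainComplex.mappingCone.triangleh φ)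
      (HomotopyCategory.mappingCone_triangleh_distinguished φ) n)
    (hIso n K) (hIso n L) (hIso n _) _ _ (hIso_nat n φ) (hIso_nat n _)

lemma cone_exact_delta (φ : K ⟶ L) (n m : ℤ) (h : n + 1 = m) :
    ∃ δ : (CochainComplex.mappingCone φ).homology n →ₗ[A] K.homology m,
      Function.Exact (homologyMap (CochainComplex.mappingCone.inr φ) n) δ ∧
        Function.Exact δ (homologyMap φ m) :=
  ⟨((hIso n (CochainComplex.mappingCone φ)).inv ≫
      (HomotopyCategory.homologyFunctor (ModuleCat.{u} A) (ComplexShape.up ℤ) 0).homologySequenceδ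
        (CochainComplex.mappingCone.triangleh φ) n m h ≫ (hIso m K).hom).hom,
    exact_transfer
      ((HomotopyCategory.homologyFunctor (ModuleCat.{u} A) (ComplexShape.up ℤ) 0).homologySequence_exact₃
        (CochainComplex.mappingCone.triangleh φ)
        (HomotopyCategory.mappingCone_triangleh_distinguished φ) n m h)
      (hIso n L) (hIso n _) (hIso m K) _ _ (hIso_nat n _) (Iso.hom_inv_id_assoc _ _).symm,
    exact_transfer
      ((HomotopyCategory.homologyFunctor (ModuleCat.{u} A) (ComplexShape.up ℤ) 0).homologySequence_exact₁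
        (CochainComplex.mappingCone.triangleh φ)
        (HomotopyCategory.mappingCone_triangleh_distinguished φ) n m h)
      (hIso n _) (hIso m K) (hIso m L) _ _ (Iso.hom_inv_id_assoc _ _).symm (hIso_nat m φ)⟩

lemma homologyMap_smul' (a : A) (g : K ⟶ L) (n : ℤ) :
    homologyMap (a • g) n = a • homologyMap g n :=
  ShortComplex.homologyMap_smul ((shortComplexFunctor (ModuleCat.{u} A) (ComplexShape.up ℤ) n).map g) a

lemma homologyMap_smul_id_apply (a : A) (n : ℤ) (x : K.homology n) :
    homologyMap (a • 𝟙 K) n x = a • x := by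
  rw [homologyMap_smul', HomologicalComplex.homologyMap_id]
  rfl

/-- degreewise description of maps of cones -/
lemma cone_map_fst {K' L' : CochainComplex (ModuleCat.{u} A) ℤ} (φ : K ⟶ L) (φ' : K' ⟶ L')
    (a : K ⟶ K') (b : L ⟶ L') (comm : φ ≫ b = a ≫ φ') (i : ℤ) :
    (CochainComplex.mappingCone.map φ φ' a b comm).f i ≫
        (CochainComplex.mappingCone.fst φ').1.v i (i + 1) rfl =
      (CochainComplex.mappingCone.fst φ).1.v i (i + 1) rfl ≫ a.f (i + 1) := by
  refine CochainComplex.mappingCone.ext_from _ (i + 1) i rfl ?_ ?_ <;>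
    simp [CochainComplex.mappingCone.map]

lemma cone_map_snd {K' L' : CochainComplex (ModuleCat.{u} A) ℤ} (φ : K ⟶ L) (φ' : K' ⟶ L')
    (a : K ⟶ K') (b : L ⟶ L') (comm : φ ≫ b = a ≫ φ') (i : ℤ) :
    (CochainComplex.mappingCone.map φ φ' a b comm).f i ≫
        (CochainComplex.mappingCone.snd φ').v i i (add_zero i) =
      (CochainComplex.mappingCone.snd φ).v i i (add_zero i) ≫ b.f i := by
  refine CochainComplex.mappingCone.ext_from _ (i + 1) i rfl ?_ ?_ <;>
    simp [CochainComplex.mappingCone.map]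

lemma cone_map_shortExact {K₂ L₂ K₃ L₃ : CochainComplex (ModuleCat.{u} A) ℤ}
    (φ : K ⟶ L) (φ₂ : K₂ ⟶ L₂) (φ₃ : K₃ ⟶ L₃) (a : K ⟶ K₂) (b : L ⟶ L₂) (c : φ ≫ b = a ≫ φ₂)
    (a' : K₂ ⟶ K₃) (b' : L₂ ⟶ L₃) (c' : φ₂ ≫ b' = a' ≫ φ₃) (i : ℤ)
    (ha : Function.Injective (a.f (i + 1)) ∧ Function.Exact (a.f (i + 1)) (a'.f (i + 1)) ∧
      Function.Surjective (a'.f (i + 1)))
    (hb : Function.Injective (b.f i) ∧ Function.Exact (b.f i) (b'.f i) ∧
      Function.Surjective (b'.f i)) :
    Function.Injective ((CochainComplex.mappingCone.map φ φ₂ a b c).f i) ∧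
      Function.Exact ((CochainComplex.mappingCone.map φ φ₂ a b c).f i)
        ((CochainComplex.mappingCone.map φ₂ φ₃ a' b' c').f i) ∧
      Function.Surjective ((CochainComplex.mappingCone.map φ₂ φ₃ a' b' c').f i) := by
  obtain ⟨i₁, e₁, s₁⟩ := ha
  obtain ⟨i₀, e₀, s₀⟩ := hb
  have hF : ∀ {K L K' L' : CochainComplex (ModuleCat.{u} A) ℤ} (φ : K ⟶ L) (φ' : K' ⟶ L')
      (a : K ⟶ K') (b : L ⟶ L') (c : φ ≫ b = a ≫ φ') (x),
      (CochainComplex.mappingCone.fst φ').1.v i (i + 1) rfl
          ((CochainComplex.mappingCone.map φ φ' a b c).f i x) =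
        a.f (i + 1) ((CochainComplex.mappingCone.fst φ).1.v i (i + 1) rfl x) :=
    fun φ φ' a b c x => LinearMap.congr_fun (congrArg ModuleCat.Hom.hom (cone_map_fst φ φ' a b c i)) x
  have hS : ∀ {K L K' L' : CochainComplex (ModuleCat.{u} A) ℤ} (φ : K ⟶ L) (φ' : K' ⟶ L')
      (a : K ⟶ K') (b : L ⟶ L') (c : φ ≫ b = a ≫ φ') (x),
      (CochainComplex.mappingCone.snd φ').v i i (add_zero i)
          ((CochainComplex.mappingCone.map φ φ' a b c).f i x) =
        b.f i ((CochainComplex.mappingCone.snd φ).v i i (add_zero i) x) :=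
    fun φ φ' a b c x => LinearMap.congr_fun (congrArg ModuleCat.Hom.hom (cone_map_snd φ φ' a b c i)) x
  have hext : ∀ {K L : CochainComplex (ModuleCat.{u} A) ℤ} (φ : K ⟶ L)
      (x y : (CochainComplex.mappingCone φ).X i),
      (CochainComplex.mappingCone.fst φ).1.v i (i + 1) rfl x =
        (CochainComplex.mappingCone.fst φ).1.v i (i + 1) rfl y →
      (CochainComplex.mappingCone.snd φ).v i i (add_zero i) x =
        (CochainComplex.mappingCone.snd φ).v i i (add_zero i) y → x = y := by
    intro K L φ x y h1 h2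
    have key := fun z => LinearMap.congr_fun
      (congrArg ModuleCat.Hom.hom (CochainComplex.mappingCone.id_X φ i (i + 1) rfl)) z
    rw [← show _ = x from key x, ← show _ = y from key y]
    simp only [ModuleCat.hom_add, ModuleCat.hom_comp, LinearMap.add_apply, LinearMap.comp_apply]
    exact congr_arg₂ _ (congrArg _ h1) (congrArg _ h2)
  have hmk : ∀ {K L : CochainComplex (ModuleCat.{u} A) ℤ} (φ : K ⟶ L)
      (a : K.X (i + 1)) (b : L.X i), ∃ z : (CochainComplex.mappingCone φ).X i,
        (CochainComplex.mappingCone.fst φ).1.v i (i + 1) rfl z = a ∧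
        (CochainComplex.mappingCone.snd φ).v i i (add_zero i) z = b := by
    intro K L φ a b
    refine ⟨(CochainComplex.mappingCone.inl φ).v (i + 1) i (by omega) a +
      (CochainComplex.mappingCone.inr φ).f i b, ?_, ?_⟩ <;>
    · rw [map_add, ← ConcreteCategory.comp_apply, ← ConcreteCategory.comp_apply]
      simp
  refine ⟨fun x y hxy => ?_, fun y => ⟨fun hy => ?_, ?_⟩, fun z => ?_⟩
  · refine hext φ x y (i₁ ?_) (i₀ ?_)
    · rw [← hF φ φ₂ a b c, ← hF φ φ₂ a b c, hxy]
    · rw [← hS φ φ₂ a b c, ← hS φ φ₂ a b c, hxy]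
  · obtain ⟨x, hx⟩ := (e₁ _).1 (by rw [← hF φ₂ φ₃ a' b' c', hy, map_zero])
    obtain ⟨w, hw⟩ := (e₀ _).1 (by rw [← hS φ₂ φ₃ a' b' c', hy, map_zero])
    obtain ⟨z, hz₁, hz₂⟩ := hmk φ x w
    exact ⟨z, hext φ₂ _ y (by rw [hF, hz₁, hx]) (by rw [hS, hz₂, hw])⟩
  · rintro ⟨x, rfl⟩
    exact hext φ₃ _ _ (by rw [hF, hF, (e₁ _).2 ⟨_, rfl⟩, map_zero])
      (by rw [hS, hS, (e₀ _).2 ⟨_, rfl⟩, map_zero])
  · obtain ⟨x, hx⟩ := s₁ ((CochainComplex.mappingCone.fst φ₃).1.v i (i + 1) rfl z)
    obtain ⟨w, hw⟩ := s₀ ((CochainComplex.mappingCone.snd φ₃).v i i (add_zero i) z)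
    obtain ⟨y, hy₁, hy₂⟩ := hmk φ₂ x w
    exact ⟨y, hext φ₃ _ z (by rw [hF, hy₁, hx]) (by rw [hS, hy₂, hw])⟩

lemma cone_map_ext {K' L' : CochainComplex (ModuleCat.{u} A) ℤ} (φ' : K' ⟶ L')
    {X : CochainComplex (ModuleCat.{u} A) ℤ} {g h : X ⟶ CochainComplex.mappingCone φ'}
    (h1 : ∀ i, g.f i ≫ (CochainComplex.mappingCone.fst φ').1.v i (i + 1) rfl =
      h.f i ≫ (CochainComplex.mappingCone.fst φ').1.v i (i + 1) rfl)
    (h2 : ∀ i, g.f i ≫ (CochainComplex.mappingCone.snd φ').v i i (add_zero i) =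
      h.f i ≫ (CochainComplex.mappingCone.snd φ').v i i (add_zero i)) : g = h :=
  HomologicalComplex.hom_ext _ _ fun i =>
    CochainComplex.mappingCone.ext_to φ' i (i + 1) rfl (h1 i) (h2 i)

end cone

section functoriality

variable {M N P : ModuleCat.{u} A}

/-- functoriality of the Koszul complex in the module -/
noncomputable def koszulMap (g : M ⟶ N) : ∀ fs : List A, CohIII.koszulCx M fs ⟶ CohIII.koszulCx N fs
  | [] => (HomologicalComplex.single (ModuleCat.{u} A) (ComplexShape.up ℤ) 0).map g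
  | f :: fs => CochainComplex.mappingCone.map (f • 𝟙 (CohIII.koszulCx M fs))
      (f • 𝟙 (CohIII.koszulCx N fs)) (koszulMap g fs) (koszulMap g fs)
      (by simp only [Linear.smul_comp, Linear.comp_smul, Category.id_comp, Category.comp_id])

lemma koszulMap_comp (g : M ⟶ N) (g' : N ⟶ P) :
    ∀ fs : List A, koszulMap (g ≫ g') fs = koszulMap g fs ≫ koszulMap g' fs
  | [] => Functor.map_comp _ _ _
  | f :: fs => by
      refine cone_map_ext (f • 𝟙 (CohIII.koszulCx P fs)) (fun i => ?_) (fun i => ?_)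
      · refine (cone_map_fst _ _ _ _ _ i).trans ?_
        refine Eq.trans ?_ ((Category.assoc _ _ _).trans (congrArg _ (cone_map_fst _ _ _ _ _ i))).symm
        refine Eq.trans ?_ (Category.assoc _ _ _)
        refine Eq.trans ?_ (congrArg (· ≫ _) (cone_map_fst _ _ _ _ _ i)).symm
        rw [koszulMap_comp g g' fs, HomologicalComplex.comp_f]
        exact (Category.assoc _ _ _).symm
      · refine (cone_map_snd _ _ _ _ _ i).trans ?_
        refine Eq.trans ?_ ((Category.assoc _ _ _).trans (congrArg _ (cone_map_snd _ _ _ _ _ i))).symm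
        refine Eq.trans ?_ (Category.assoc _ _ _)
        refine Eq.trans ?_ (congrArg (· ≫ _) (cone_map_snd _ _ _ _ _ i)).symm
        rw [koszulMap_comp g g' fs, HomologicalComplex.comp_f]
        exact (Category.assoc _ _ _).symm

lemma koszulMap_zero : ∀ fs : List A, koszulMap (0 : M ⟶ N) fs = 0
  | [] => Functor.map_zero _ _ _
  | f :: fs => by
      refine cone_map_ext (f • 𝟙 (CohIII.koszulCx N fs)) (fun i => ?_) (fun i => ?_)
      · refine (cone_map_fst _ _ _ _ _ i).trans ?_
        rw [koszulMap_zero fs]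
        exact Limits.comp_zero.trans Limits.zero_comp.symm
      · refine (cone_map_snd _ _ _ _ _ i).trans ?_
        rw [koszulMap_zero fs]
        exact Limits.comp_zero.trans Limits.zero_comp.symm

lemma koszulMap_smul_id (a : A) :
    ∀ fs : List A, koszulMap (a • 𝟙 M) fs = a • 𝟙 (CohIII.koszulCx M fs)
  | [] => by
      show (HomologicalComplex.single (ModuleCat.{u} A) (ComplexShape.up ℤ) 0).map (a • 𝟙 M) = _
      refine HomologicalComplex.from_single_hom_ext ?_
      rw [HomologicalComplex.single_map_f_self, HomologicalComplex.smul_f_apply,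
        HomologicalComplex.id_f]
      simp [CohIII.koszulCx, Linear.comp_smul, Linear.smul_comp]
      rfl
  | f :: fs => by
      refine cone_map_ext (f • 𝟙 (CohIII.koszulCx M fs)) (fun i => ?_) (fun i => ?_)
      · refine (cone_map_fst _ _ _ _ _ i).trans ?_
        rw [koszulMap_smul_id a fs, HomologicalComplex.smul_f_apply, HomologicalComplex.id_f,
          Linear.comp_smul, Category.comp_id]
        exact ((Linear.smul_comp _ _ _ _ _ _).trans (congrArg (a • ·) (Category.id_comp _))).symm
      · refine (cone_map_snd _ _ _ _ _ i).trans ?_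
        rw [koszulMap_smul_id a fs, HomologicalComplex.smul_f_apply, HomologicalComplex.id_f,
          Linear.comp_smul, Category.comp_id]
        exact ((Linear.smul_comp _ _ _ _ _ _).trans (congrArg (a • ·) (Category.id_comp _))).symm

lemma koszulMap_shortExact (g : M ⟶ N) (g' : N ⟶ P) (hg : Function.Injective g)
    (hex : Function.Exact g g') (hg' : Function.Surjective g') :
    ∀ (fs : List A) (i : ℤ),
      Function.Injective ((koszulMap g fs).f i) ∧
        Function.Exact ((koszulMap g fs).f i) ((koszulMap g' fs).f i) ∧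
        Function.Surjective ((koszulMap g' fs).f i)
  | [], i => by
      by_cases hi : i = 0
      · subst hi
        let e : ∀ X : ModuleCat.{u} A, (CohIII.koszulCx X ([] : List A)).X 0 ≅ X := fun X => HomologicalComplex.singleObjXSelf (ComplexShape.up ℤ) 0 X
        have h1 : ∀ {X Y : ModuleCat.{u} A} (k : X ⟶ Y) (x),
            (e Y).hom ((koszulMap k []).f 0 x) = k ((e X).hom x) := by
          intro X Y k x
          show (((HomologicalComplex.single _ _ _).map k).f 0 ≫ (e Y).hom) x = _
          rw [HomologicalComplex.single_map_f_self]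
          simp [e]
          rfl
        have hb : ∀ X, Function.Bijective ((e X).hom) := fun X => (e X).toLinearEquiv.bijective
        refine ⟨fun x y hxy => ?_, fun y => ⟨fun hy => ?_, ?_⟩, fun z => ?_⟩
        · exact (hb M).1 (hg (by rw [← h1, ← h1, hxy]))
        · have h2 : g' ((e N).hom y) = 0 := by rw [← h1, hy, map_zero]
          obtain ⟨x, hx⟩ := (hex _).1 h2
          obtain ⟨x, rfl⟩ := (hb M).2 x
          exact ⟨x, (hb N).1 (by rw [h1, hx])⟩
        · rintro ⟨x, rfl⟩
          exact (hb P).1 (by rw [h1, h1, (hex _).2 ⟨_, rfl⟩, map_zero])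
        · obtain ⟨y, hy⟩ := hg' ((e P).hom z)
          obtain ⟨y, rfl⟩ := (hb N).2 y
          exact ⟨y, (hb P).1 (by rw [h1, hy])⟩
      · have hs : ∀ X : ModuleCat.{u} A, Subsingleton ((CohIII.koszulCx X ([] : List A)).X i) := fun X =>
          ModuleCat.subsingleton_of_isZero (HomologicalComplex.isZero_single_obj_X _ _ _ _ hi)
        have := hs M; have := hs N; have := hs P
        exact ⟨fun x y _ => Subsingleton.elim x y,
          fun y => ⟨fun _ => ⟨0, Subsingleton.elim _ _⟩, fun _ => Subsingleton.elim _ _⟩,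
          fun z => ⟨0, Subsingleton.elim _ _⟩⟩
  | f :: fs, i =>
      cone_map_shortExact _ _ _ _ _ _ _ _ _ i (koszulMap_shortExact g g' hg hex hg' fs (i + 1))
        (koszulMap_shortExact g g' hg hex hg' fs i)

/-- the short complex of Koszul complexes -/
noncomputable def koszulSC (g : M ⟶ N) (g' : N ⟶ P) (w : g ≫ g' = 0) (fs : List A) :
    ShortComplex (CochainComplex (ModuleCat.{u} A) ℤ) :=
  ShortComplex.mk (koszulMap g fs) (koszulMap g' fs)
    (by rw [← koszulMap_comp, w, koszulMap_zero])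

lemma koszulSC_shortExact (g : M ⟶ N) (g' : N ⟶ P) (w : g ≫ g' = 0) (hg : Function.Injective g)
    (hex : Function.Exact g g') (hg' : Function.Surjective g') (fs : List A) :
    (koszulSC g g' w fs).ShortExact := by
  refine HomologicalComplex.shortExact_of_degreewise_shortExact _ fun i => ?_
  obtain ⟨h1, h2, h3⟩ := koszulMap_shortExact g g' hg hex hg' fs i
  exact { exact := (ShortComplex.ShortExact.moduleCat_exact_iff_function_exact _).2 h2
          mono_f := (ModuleCat.mono_iff_injective _).2 h1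
          epi_g := (ModuleCat.epi_iff_surjective _).2 h3 }

lemma koszulCx_X_isZero (M : ModuleCat.{u} A) : ∀ (fs : List A) (i : ℤ),
    (i < -fs.length ∨ 0 < i) → IsZero ((CohIII.koszulCx M fs).X i)
  | [], i, h => HomologicalComplex.isZero_single_obj_X _ _ _ _ (by
      simp only [List.length_nil, Nat.cast_zero, neg_zero] at h; omega)
  | f :: fs, i, h => by
      refine (CochainComplex.mappingCone.isZero_X_iff (f • 𝟙 (CohIII.koszulCx M fs)) i).2
        ⟨koszulCx_X_isZero M fs _ ?_, koszulCx_X_isZero M fs _ ?_⟩ <;>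
      · simp only [List.length_cons, Nat.cast_add, Nat.cast_one] at h
        omega

lemma subsingleton_homology_out (M : ModuleCat.{u} A) (fs : List A) (i : ℤ)
    (h : i < -fs.length ∨ 0 < i) : Subsingleton ((CohIII.koszulCx M fs).homology i) :=
  ModuleCat.subsingleton_of_isZero
    (HomologicalComplex.ExactAt.isZero_homology
      ((HomologicalComplex.exactAt_iff _ _).2
        (ShortComplex.exact_of_isZero_X₂ _ (koszulCx_X_isZero M fs i h))))

end functoriality

end Groth.KoszulCone
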