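import Groth.Agent.KoszulCone.Top
import Groth.Agent.KoszulCone.Cohomology

/-!
Colimit Koszul cohomology of the variables of a polynomial ring.
-/

set_option linter.unusedSectionVars false

universe u

open CategoryTheory CategoryTheory.Limits MvPolynomial

namespace Groth.KoszulCone

variable (A : Type u) [CommRing A] (ι : Type) [Fintype ι]

lemma mem_span_X_pow_iff (s : Set ι) (n : ℕ) (x : MvPolynomial ι A) :
    x ∈ Ideal.span ((fun j => (X j : MvPolynomial ι A) ^ n) '' s) ↔
      ∀ e ∈ x.support, ∃ j ∈ s, n ≤ e j := by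
  classical
  have : (fun j => (X j : MvPolynomial ι A) ^ n) '' s =
      (fun d => monomial d (1 : A)) '' ((fun j => Finsupp.single j n) '' s) := by
    rw [Set.image_image]
    exact Set.image_congr fun j _ => X_pow_eq_monomial
  rw [this, mem_ideal_span_monomial_image]
  simp only [Set.exists_mem_image, Finsupp.single_le_iff]

variable {A}

/-- the list of variables -/
noncomputable abbrev varList (r : ℕ) : List (MvPolynomial (Fin r) A) := List.ofFn fun j : Fin r => X j

lemma ofList_varList_take (r n i : ℕ) :
    Ideal.ofList (((varList (A := A) r).map (· ^ n)).take i) =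
      Ideal.span ((fun j => (X j : MvPolynomial (Fin r) A) ^ n) '' {j | (j : ℕ) < i}) := by
  rw [Ideal.ofList]
  congr 1
  ext y
  simp only [Set.mem_setOf_eq, List.mem_iff_getElem, List.length_take, List.getElem_take, List.length_map,
    List.getElem_map, List.length_ofFn, List.getElem_ofFn, Set.mem_image, lt_min_iff]
  constructor
  · rintro ⟨k, ⟨hk, hk'⟩, rfl⟩
    exact ⟨⟨k, hk'⟩, hk, rfl⟩
  · rintro ⟨j, hj, rfl⟩
    exact ⟨j, ⟨hj, j.2⟩, rfl⟩

lemma isWeaklyRegular_varList_pow (r n : ℕ) :
    RingTheory.Sequence.IsWeaklyRegular (MvPolynomial (Fin r) A) ((varList (A := A) r).map (· ^ n)) := by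
  classical
  refine ⟨fun i hi => ?_⟩
  have hi' : i < r := by simpa using hi
  rw [ofList_varList_take, isSMulRegular_quotient_iff_mem_of_smul_mem]
  intro x hx
  rw [smul_eq_mul, Ideal.mul_top] at hx ⊢
  rw [List.getElem_map, List.getElem_ofFn] at hx
  rw [smul_eq_mul, X_pow_eq_monomial, mem_span_X_pow_iff] at hx
  rw [mem_span_X_pow_iff]
  intro e he
  obtain ⟨j, hj, hn⟩ := hx (Finsupp.single ⟨i, hi'⟩ n + e) (by
    rw [mem_support_iff, coeff_monomial_mul, one_mul]
    exact mem_support_iff.1 he)
  refine ⟨j, hj, ?_⟩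
  rwa [Finsupp.add_apply, Finsupp.single_eq_of_ne, zero_add] at hn
  rintro rfl
  exact lt_irrefl i hj

lemma subsingleton_koszulHLim_varList (r p : ℕ) (hp : p ≠ r) :
    Subsingleton (CohIII.koszulHLim (varList (A := A) r)
      (ModuleCat.of _ (MvPolynomial (Fin r) A)) p) := by
  refine subsingleton_of_forall_eq 0 fun e => ?_
  obtain ⟨n, z, rfl⟩ := Module.DirectLimit.exists_of
    (R := MvPolynomial (Fin r) A)
    (G := fun n : ℕ => (CohIII.koszulHPow (varList (A := A) r)
      (ModuleCat.of _ (MvPolynomial (Fin r) A)) p n : Type u)) e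
  have := subsingleton_of_isWeaklyRegular _ (ModuleCat.of _ (MvPolynomial (Fin r) A))
    (isWeaklyRegular_varList_pow (A := A) r n) ((p : ℤ) - (varList (A := A) r).length)
    (by rw [List.length_ofFn]; omega)
  rw [show z = 0 from @Subsingleton.elim _ this z 0, map_zero]
  rfl

variable (r : ℕ)

/-- constant exponent -/
noncomputable def cexp (k : ℕ) : Fin r →₀ ℕ := Finsupp.equivFunOnFinite.symm fun _ => k

lemma prod_varList_pow (k : ℕ) :
    (varList (A := A) r).prod ^ k = monomial (cexp r k) 1 := by
  rw [List.prod_ofFn, ← Finset.prod_pow, monomial_eq, C_1, one_mul,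
    Finsupp.prod_fintype _ _ (fun _ => pow_zero _)]
  rfl

/-- free basis of the top colimit cohomology -/
theorem exists_addEquiv_top :
    ∃ e : MvPolynomial (Fin r) A ≃+
        (Kinf (varList (A := A) r) (ModuleCat.of _ (MvPolynomial (Fin r) A))).homology 0,
      ∀ (a : A) x, e (a • x) = (MvPolynomial.C a : MvPolynomial (Fin r) A) • e x := by
  classical
  obtain ⟨c, hsurj, htr, hzero⟩ := exists_topH (ModuleCat.of _ (MvPolynomial (Fin r) A)) (varList (A := A) r)
  let H : Type u := (Kinf (varList (A := A) r) (ModuleCat.of _ (MvPolynomial (Fin r) A))).homology 0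
  letI : Module A H := Module.compHom H (MvPolynomial.C : A →+* MvPolynomial (Fin r) A)
  let N : (Fin r →₀ ℕ) → ℕ := fun d => (Finset.univ.sup fun j => d j) + 1
  let b : (Fin r →₀ ℕ) → H := fun d => c (N d) (monomial (cexp r (N d - 1) - d) (1 : A))
  let Θ : MvPolynomial (Fin r) A →ₗ[A] H := (MvPolynomial.basisMonomials (Fin r) A).constr A b
  have hN : ∀ d j, d j < N d := fun d j =>
    Nat.lt_succ_of_le (Finset.le_sup (f := fun j => d j) (Finset.mem_univ j))
  have hmul : ∀ (m N' : ℕ) (d : Fin r →₀ ℕ) (a : A), N' ≤ m → (∀ j, d j < N') →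
      (varList (A := A) r).prod ^ (m - N') • monomial (cexp r (N' - 1) - d) a =
        monomial (cexp r (m - 1) - d) a := by
    intro m N' d a hm hd
    rw [prod_varList_pow, smul_eq_mul, monomial_mul, one_mul]
    refine congrArg (fun e => monomial e a) (Finsupp.ext fun j => ?_)
    have := hd j
    simp only [cexp, Finsupp.add_apply, Finsupp.tsub_apply, Finsupp.equivFunOnFinite_symm_apply_apply]
    omega
  have hb : ∀ (m : ℕ) (d : Fin r →₀ ℕ) (a : A), (∀ j, d j < m) →
      Θ (monomial d a) = c m (monomial (cexp r (m - 1) - d) a) := by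
    intro m d a hd
    have h1 : Θ (monomial d 1) = b d := by
      have := (MvPolynomial.basisMonomials (Fin r) A).constr_basis A b d
      rwa [MvPolynomial.coe_basisMonomials] at this
    rw [show monomial d a = a • monomial d (1 : A) by rw [smul_monomial, smul_eq_mul, mul_one],
      map_smul, h1]
    change (MvPolynomial.C a : MvPolynomial (Fin r) A) • c (N d) (monomial (cexp r (N d - 1) - d) 1) = _
    rw [← map_smul, smul_eq_mul, C_mul_monomial, mul_one,
      ← htr (N d) (max (N d) m) (le_max_left _ _), ← htr m (max (N d) m) (le_max_right _ _),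
      hmul _ _ d a (le_max_left _ _) (hN d), hmul _ _ d a (le_max_right _ _) hd]
  have hinj : Function.Injective Θ := by
    rw [injective_iff_map_eq_zero]
    intro x hx
    obtain ⟨m, hm⟩ : ∃ m, ∀ d ∈ x.support, ∀ j, d j < m :=
      ⟨x.support.sup N, fun d hd j => (hN d j).trans_le (Finset.le_sup hd)⟩
    have hsum : Θ x = c m (∑ d ∈ x.support, monomial (cexp r (m - 1) - d) (x.coeff d)) := by
      conv_lhs => rw [x.as_sum]
      rw [map_sum, map_sum]
      exact Finset.sum_congr rfl fun d hd => hb m d _ (hm d hd)
    rw [hsum, hzero] at hx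
    obtain ⟨k, hk, hmem⟩ := hx
    rw [Finset.smul_sum, Finset.sum_congr rfl fun d hd => hmul k m d _ hk (hm d hd), smul_eq_mul,
      Ideal.mul_top, ← List.take_length (l := (varList (A := A) r).map (· ^ k)),
      ofList_varList_take, mem_span_X_pow_iff] at hmem
    ext d
    rw [coeff_zero]
    by_contra hne
    have hd : d ∈ x.support := mem_support_iff.2 hne
    obtain ⟨j, -, hj⟩ := hmem (cexp r (k - 1) - d) (by
      rw [mem_support_iff, coeff_sum, Finset.sum_eq_single d, coeff_monomial, if_pos rfl]
      · exact hne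
      · intro d' hd' hdd'
        rw [coeff_monomial, if_neg]
        intro e
        refine hdd' (Finsupp.ext fun j => ?_)
        have := DFunLike.congr_fun e j
        have := hm d hd j
        have := hm d' hd' j
        simp only [cexp, Finsupp.tsub_apply, Finsupp.equivFunOnFinite_symm_apply_apply] at *
        omega
      · exact fun h => absurd hd h)
    have := hm d hd j
    simp only [cexp, Finsupp.tsub_apply, Finsupp.equivFunOnFinite_symm_apply_apply] at hj
    omega
  have hsurj' : Function.Surjective Θ := by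
    intro y
    obtain ⟨n, x, rfl⟩ := hsurj y
    suffices h : (c n x : H) ∈ Submodule.map Θ ⊤ by
      obtain ⟨w, -, hw⟩ := h
      exact ⟨w, hw⟩
    rw [x.as_sum, map_sum]
    refine Submodule.sum_mem _ fun e _ => ?_
    by_cases he : ∀ j, e j < n
    · refine ⟨monomial (cexp r (n - 1) - e) (x.coeff e), Submodule.mem_top, ?_⟩
      rw [hb n _ _ (fun j => ?_)]
      · refine congrArg (fun q => c n (monomial q (x.coeff e))) (Finsupp.ext fun j => ?_)
        have := he j
        simp only [cexp, Finsupp.tsub_apply, Finsupp.equivFunOnFinite_symm_apply_apply]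
        omega
      · have := he j
        simp only [cexp, Finsupp.tsub_apply, Finsupp.equivFunOnFinite_symm_apply_apply]
        omega
    · push Not at he
      obtain ⟨j, hj⟩ := he
      rw [(hzero n _).2 ⟨n, le_rfl, ?_⟩]
      · exact Submodule.zero_mem _
      · rw [Nat.sub_self, pow_zero, one_smul, smul_eq_mul, Ideal.mul_top,
          ← List.take_length (l := (varList (A := A) r).map (· ^ n)), ofList_varList_take,
          mem_span_X_pow_iff]
        intro e' he'
        obtain rfl := Finset.mem_singleton.1 (support_monomial_subset he')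
        refine ⟨j, ?_, hj⟩
        simp
  exact ⟨(LinearEquiv.ofBijective Θ ⟨hinj, hsurj'⟩).toAddEquiv, fun a x => Θ.map_smul a x⟩

end Groth.KoszulCone
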