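import Groth.Agent.KoszulCone.Colim
import Groth.Agent.LocCohTransform.Degree0
import Groth.Agent.LocCohBase.Comparison

/-!
Local cohomology as the colimit of Koszul cohomology.
-/

set_option linter.unusedSectionVars false

universe u

open CategoryTheory CategoryTheory.Limits
open Groth.LocCohBase Groth.LocCohTransform

namespace Groth.KoszulCone

variable {A : Type u} [CommRing A]

/-- two linear surjections with the same kernel -/
noncomputable def linearEquivOfKer {G B C : Type*} [AddCommGroup G] [AddCommGroup B] [AddCommGroup C]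
    [Module A G] [Module A B] [Module A C] (f : G →ₗ[A] B) (g : G →ₗ[A] C)
    (hf : Function.Surjective f) (hg : Function.Surjective g) (h : ∀ x, f x = 0 ↔ g x = 0) :
    B ≃ₗ[A] C :=
  (LinearMap.quotKerEquivOfSurjective f hf).symm.trans
    ((Submodule.quotEquivOfEq _ _ (by ext x; exact h x)).trans
      (LinearMap.quotKerEquivOfSurjective g hg))

lemma mem_torsionSub_span_iff (fs : List A) {M : Type u} [AddCommGroup M] [Module A M] (m : M) :
    m ∈ DRing.torsionSub (Ideal.span {a | a ∈ fs}) M ↔ ∃ n : ℕ, ∀ g ∈ fs, g ^ n • m = 0 := by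
  constructor
  · rintro ⟨n, hn⟩
    exact ⟨n, fun g hg => hn _ (Ideal.pow_mem_pow (Ideal.subset_span (s := {a : A | a ∈ fs}) hg) n)⟩
  · rintro ⟨n, hn⟩
    have hfg : (Ideal.span {a : A | a ∈ fs}).FG :=
      Submodule.fg_def.2 ⟨_, List.finite_toSet fs, rfl⟩
    obtain ⟨N, hN⟩ := Ideal.exists_pow_le_of_le_radical_of_fg
      (I := Ideal.span {a : A | a ∈ fs}) (J := LinearMap.ker (LinearMap.toSpanSingleton A M m))
      (Ideal.span_le.2 fun g hg => ⟨n, hn g hg⟩) hfg
    exact ⟨N, fun a ha => hN ha⟩

variable [IsNoetherianRing A]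

/-- local cohomology as Koszul cohomology -/
theorem nonempty_HH'_equiv_Kinf (fs : List A) (p : ℕ) : ∀ M : ModuleCat.{u} A,
    Nonempty (HH' (Ideal.span {a | a ∈ fs}) p M ≃ₗ[A] (Kinf fs M).homology ((p : ℤ) - fs.length)) := by
  set I := Ideal.span {a : A | a ∈ fs}
  obtain ⟨Φ, hΦi, hΦr, hΦn⟩ := exists_botH (A := A) fs
    (show ((0 : ℕ) : ℤ) - fs.length + fs.length = 0 by simp)
  have h0 : ∀ M : ModuleCat.{u} A, LinearMap.range (h0Val I M) = LinearMap.range (Φ M) := fun M => by
    ext m
    rw [range_h0Val, mem_torsionSub_span_iff, hΦr]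
  have hE : ∀ (E : ModuleCat.{u} A) [Injective E] (q : ℕ), 0 < q →
      Subsingleton ((Kinf fs E).homology ((q : ℤ) - fs.length)) := fun E _ q hq => by
    obtain ⟨e⟩ := nonempty_koszulHLim_equiv_Kinf fs E q
    have := subsingleton_koszulHLim_of_injective
      ((Module.injective_iff_injective_object A E).2 ‹_›) fs q hq
    exact e.symm.toEquiv.subsingleton
  induction p with
  | zero =>
    exact fun M => ⟨(LinearEquiv.ofInjective _ (h0Val_injective I M)).trans
      ((LinearEquiv.ofEq _ _ (h0 M)).trans (LinearEquiv.ofInjective _ (hΦi M)).symm)⟩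
  | succ p ih =>
    intro M
    obtain ⟨E, Q, f, g, w, hS, hinj⟩ := exists_shortExact_injective M
    have := hS.mono_f
    have := hS.epi_g
    have hK := KinfSC_shortExact fs f g w ((ModuleCat.mono_iff_injective f).1 inferInstance)
      ((ShortComplex.ShortExact.moduleCat_exact_iff_function_exact _).1 hS.exact)
      ((ModuleCat.epi_iff_surjective g).1 inferInstance)
    set j : ℤ := (p : ℤ) - fs.length
    have hjk : (ComplexShape.up ℤ).Rel j (((p + 1 : ℕ) : ℤ) - fs.length) := by
      show j + 1 = _
      simp only [j]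
      push_cast
      ring
    let dK : (Kinf fs Q).homology j →ₗ[A] (Kinf fs M).homology (((p + 1 : ℕ) : ℤ) - fs.length) :=
      (hK.δ j _ hjk).hom
    let dL : HH' I p Q →ₗ[A] HH' I (p + 1) M := δ (I := I) hS p
    have exK : Function.Exact (HomologicalComplex.homologyMap (KinfMap fs g) j) dK :=
      (ShortComplex.ShortExact.moduleCat_exact_iff_function_exact _).1 (hK.homology_exact₃ j _ hjk)
    have exK₁ : Function.Exact dK
        (HomologicalComplex.homologyMap (KinfMap fs f) (((p + 1 : ℕ) : ℤ) - fs.length)) :=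
      (ShortComplex.ShortExact.moduleCat_exact_iff_function_exact _).1 (hK.homology_exact₁ j _ hjk)
    have sK : Function.Surjective dK := fun x =>
      (exK₁ x).1 (@Subsingleton.elim _ (hE E (p + 1) (by omega)) _ _)
    have sL : Function.Surjective dL := fun x =>
      (exact₁ (I := I) hS p x).1 (@Subsingleton.elim _ (subsingleton_succ_of_injective p E) _ _)
    rcases Nat.eq_zero_or_pos p with rfl | hp
    · let e : HH' I 0 Q ≃ₗ[A] (Kinf fs Q).homology j :=
        (LinearEquiv.ofInjective _ (h0Val_injective I Q)).trans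
          ((LinearEquiv.ofEq _ _ (h0 Q)).trans (LinearEquiv.ofInjective _ (hΦi Q)).symm)
      have he : ∀ x, Φ Q (e x) = h0Val I Q x := fun x => by
        show ((LinearEquiv.ofInjective _ (hΦi Q)) (e x)).1 = _
        simp only [e, LinearEquiv.trans_apply, LinearEquiv.apply_symm_apply]
        rfl
      refine ⟨linearEquivOfKer dL (dK ∘ₗ e.toLinearMap) sL (sK.comp e.surjective) fun x => ?_⟩
      constructor
      · intro hx
        obtain ⟨y, rfl⟩ := (exact₃ (I := I) hS 0 x).1 hx
        obtain ⟨y', hy'⟩ : h0Val I E y ∈ LinearMap.range (Φ E) := h0 E ▸ LinearMap.mem_range_self _ y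
        refine (exK _).2 ⟨y', hΦi Q ?_⟩
        rw [hΦn, hy']
        exact ((he _).trans (h0Val_naturality I g y)).symm
      · intro hx
        obtain ⟨y', hy'⟩ := (exK _).1 hx
        obtain ⟨y, hy⟩ : Φ E y' ∈ LinearMap.range (h0Val I E) := (h0 E).symm ▸ LinearMap.mem_range_self _ y'
        refine (exact₃ (I := I) hS 0 x).2 ⟨y, h0Val_injective I Q ?_⟩
        have h := congrArg (Φ Q) hy'
        rw [hΦn, ← hy] at h
        exact (h0Val_naturality I g y).trans (h.trans (he x))
    · obtain ⟨e⟩ := ih Q
      have bL : Function.Bijective dL := by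
        refine ⟨(injective_iff_map_eq_zero _).2 fun x hx => ?_, sL⟩
        obtain ⟨y, rfl⟩ := (exact₃ (I := I) hS p x).1 hx
        obtain ⟨q, rfl⟩ : ∃ q, p = q + 1 := ⟨p - 1, by omega⟩
        rw [@Subsingleton.elim _ (subsingleton_succ_of_injective q E) y 0, map_zero]
      have bK : Function.Bijective dK := by
        refine ⟨(injective_iff_map_eq_zero _).2 fun x hx => ?_, sK⟩
        obtain ⟨y, rfl⟩ := (exK x).1 hx
        rw [@Subsingleton.elim _ (hE E p hp) y 0, map_zero]
      exact ⟨(LinearEquiv.ofBijective dL bL).symm.trans (e.trans (LinearEquiv.ofBijective dK bK))⟩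

end Groth.KoszulCone
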