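import Groth.Agent.KoszulCone.Stable

/-!
The augmented Čech complex on lists of indices, and its comparison with the stable Koszul complex.
-/

set_option linter.unusedSectionVars false

universe u w

open CategoryTheory CategoryTheory.Limits CochainComplex TopologicalSpace Opposite

namespace Groth.KoszulCone

variable {A : Type u} [CommRing A] {T : TopCat.{u}} {ι ι' : Type w}

/-- intersection along a list -/
def linter (U : ι → Opens T) : List ι → Opens T
  | [] => ⊤
  | a :: x => U a ⊓ linter U x

lemma linter_le (U : ι → Opens T) : ∀ {x : List ι} {a : ι}, a ∈ x → linter U x ≤ U a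
  | b :: x, a, h => by
      rcases List.mem_cons.1 h with rfl | h
      · exact inf_le_left
      · exact inf_le_right.trans (linter_le U h)

lemma le_linter (U : ι → Opens T) {V : Opens T} : ∀ {x : List ι}, (∀ a ∈ x, V ≤ U a) → V ≤ linter U x
  | [], _ => le_top
  | a :: x, h => le_inf (h a List.mem_cons_self) (le_linter U fun b hb => h b (List.mem_cons_of_mem _ hb))

lemma linter_erase (U : ι → Opens T) (x : List ι) (k : ℕ) : linter U x ≤ linter U (x.eraseIdx k) :=
  le_linter U fun _ ha => linter_le U (List.mem_of_mem_eraseIdx ha)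

lemma linter_map (U : ι → Opens T) (e : ι' → ι) :
    ∀ x : List ι', linter (fun i => U (e i)) x = linter U (x.map e)
  | [] => rfl
  | a :: x => congrArg (U (e a) ⊓ ·) (linter_map U e x)

variable (P : (Opens T)ᵒᵖ ⥤ ModuleCat.{u} A)

/-- sections restricted -/
noncomputable def pr {V W : Opens T} (h : V ≤ W) : P.obj (op W) →ₗ[A] P.obj (op V) :=
  (P.map (homOfLE h).op).hom

@[simp] lemma pr_pr {V W Z : Opens T} (h : V ≤ W) (h' : W ≤ Z) (x : P.obj (op Z)) :
    pr P h (pr P h' x) = pr P (h.trans h') x :=
  (LinearMap.congr_fun (congrArg ModuleCat.Hom.hom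
    (P.map_comp (homOfLE h').op (homOfLE h).op)) x).symm

@[simp] lemma pr_self {V : Opens T} (x : P.obj (op V)) : pr P (le_refl V) x = x :=
  LinearMap.congr_fun (congrArg ModuleCat.Hom.hom (P.map_id (op V))) x

lemma pr_inj {V W : Opens T} (h : V ≤ W) (h' : W ≤ V) : Function.Injective (pr P h) := fun x y e => by
  simpa using congrArg (pr P h') e

/-- augmented cochains -/
abbrev ACoch (U : ι → Opens T) (W : Opens T) : Type (max u w) :=
  ∀ x : List ι, P.obj (op (W ⊓ linter U x))

variable {P}
variable {U : ι → Opens T} {W W' : Opens T}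

lemma acoch_congr (c : ACoch P U W) {x y : List ι} (h : x = y) {V : Opens T}
    (hx : V ≤ W ⊓ linter U x) (hy : V ≤ W ⊓ linter U y) : pr P hx (c x) = pr P hy (c y) := by
  subst h; rfl

/-- supported on lists of length `n` -/
def suppSub (P : (Opens T)ᵒᵖ ⥤ ModuleCat.{u} A) (U : ι → Opens T) (W : Opens T) (n : ℤ) :
    Submodule A (ACoch P U W) where
  carrier := {c | ∀ x, (x.length : ℤ) ≠ n → c x = 0}
  add_mem' ha hb x hx := by simp [ha x hx, hb x hx]
  zero_mem' x hx := rfl
  smul_mem' a c hc x hx := by simp [hc x hx]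

/-- the differential -/
noncomputable def dA (P : (Opens T)ᵒᵖ ⥤ ModuleCat.{u} A) (U : ι → Opens T) (W : Opens T) :
    ACoch P U W →ₗ[A] ACoch P U W where
  toFun c x := ∑ k ∈ Finset.range x.length,
    ((-1 : A) ^ k) • pr P (inf_le_inf_left W (linter_erase U x k)) (c (x.eraseIdx k))
  map_add' c c' := by ext x; simp [Finset.sum_add_distrib]
  map_smul' a c := by ext x; simp [Finset.smul_sum, smul_comm a]

lemma dA_apply (c : ACoch P U W) (x : List ι) : dA P U W c x = ∑ k ∈ Finset.range x.length,
    ((-1 : A) ^ k) • pr P (inf_le_inf_left W (linter_erase U x k)) (c (x.eraseIdx k)) := rfl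

lemma dA_nil (c : ACoch P U W) : dA P U W c [] = 0 := by simp [dA_apply]

lemma dA_supp {n : ℤ} {c : ACoch P U W} (hc : c ∈ suppSub P U W n) :
    dA P U W c ∈ suppSub P U W (n + 1) := fun x hx => by
  rw [dA_apply]
  refine Finset.sum_eq_zero fun k hk => ?_
  rw [hc _ ?_, map_zero, smul_zero]
  rw [List.length_eraseIdx_of_lt (Finset.mem_range.1 hk)]
  have := Finset.mem_range.1 hk
  omega

/-- restriction to a smaller open -/
noncomputable def resW (hW : W' ≤ W) : ACoch P U W →ₗ[A] ACoch P U W' where
  toFun c x := pr P (inf_le_inf_right _ hW) (c x)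
  map_add' c c' := by ext x; simp
  map_smul' a c := by ext x; simp

/-- prepend an index -/
noncomputable def consA (a : ι) (hW : W' ≤ W) (ha : W' ≤ U a) :
    ACoch P U W →ₗ[A] ACoch P U W' where
  toFun c x := pr P (show W' ⊓ linter U x ≤ W ⊓ linter U (a :: x) from
    le_inf (inf_le_left.trans hW) (inf_le_inf_right _ ha)) (c (a :: x))
  map_add' c c' := by ext x; simp
  map_smul' r c := by ext x; simp

lemma resW_apply (hW : W' ≤ W) (c : ACoch P U W) (x : List ι) :
    resW hW c x = pr P (inf_le_inf_right _ hW) (c x) := rfl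

lemma consA_apply (a : ι) (hW : W' ≤ W) (ha : W' ≤ U a) (c : ACoch P U W) (x : List ι) :
    consA a hW ha c x = pr P (show W' ⊓ linter U x ≤ W ⊓ linter U (a :: x) from
    le_inf (inf_le_left.trans hW) (inf_le_inf_right _ ha)) (c (a :: x)) := rfl

lemma resW_supp (hW : W' ≤ W) {n : ℤ} {c : ACoch P U W} (hc : c ∈ suppSub P U W n) :
    resW hW c ∈ suppSub P U W' n := fun x hx => by rw [resW_apply, hc x hx, map_zero]

lemma consA_supp (a : ι) (hW : W' ≤ W) (ha : W' ≤ U a) {n : ℤ} {c : ACoch P U W}
    (hc : c ∈ suppSub P U W n) : consA a hW ha c ∈ suppSub P U W' (n - 1) := fun x hx => by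
  rw [consA_apply, hc (a :: x) ?_, map_zero]
  simp only [List.length_cons, Nat.cast_add, Nat.cast_one]; omega

lemma dA_resW (hW : W' ≤ W) (c : ACoch P U W) :
    dA P U W' (resW hW c) = resW hW (dA P U W c) := by
  ext x
  simp [dA_apply, resW_apply, map_sum]

lemma consA_dA (a : ι) (hW : W' ≤ W) (ha : W' ≤ U a) (c : ACoch P U W) :
    consA a hW ha (dA P U W c) = resW hW c - dA P U W' (consA a hW ha c) := by
  ext x
  rw [consA_apply, dA_apply, map_sum, List.length_cons, Finset.sum_range_succ']
  simp only [Pi.sub_apply, dA_apply, resW_apply, consA_apply, List.eraseIdx_cons_succ,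
    List.eraseIdx_cons_zero, map_smul, pr_pr, pow_zero, one_smul]
  rw [add_comm, sub_eq_add_neg, ← Finset.sum_neg_distrib]
  congr 1
  · exact pr_pr P _ _ _
  refine Finset.sum_congr rfl fun k _ => ?_
  rw [pow_succ, mul_comm, mul_smul, neg_one_smul]
  congr 2
  exact pr_pr P _ _ _

lemma dA_dA_apply : ∀ (x : List ι) (W : Opens T) (c : ACoch P U W), dA P U W (dA P U W c) x = 0
  | [], W, c => dA_nil _
  | a :: x, W, c => by
      have h1 := consA_dA a (W := W) (W' := W ⊓ U a) inf_le_left inf_le_right (dA P U W c)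
      have h3 : (resW (inf_le_left : W ⊓ U a ≤ W) (dA P U W c) -
          dA P U (W ⊓ U a) (consA a inf_le_left inf_le_right (dA P U W c))) x = 0 := by
        rw [← dA_resW, consA_dA, map_sub, Pi.sub_apply, Pi.sub_apply, dA_dA_apply x (W ⊓ U a),
          sub_zero, sub_self]
      have h2 := (congrFun h1 x).trans h3
      refine pr_inj P (show (W ⊓ U a) ⊓ linter U x ≤ W ⊓ linter U (a :: x) from
        le_inf (inf_le_left.trans inf_le_left) (inf_le_inf_right _ inf_le_right))
        (show W ⊓ linter U (a :: x) ≤ (W ⊓ U a) ⊓ linter U x from by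
          show W ⊓ (U a ⊓ linter U x) ≤ _
          rw [inf_assoc]) ?_
      rw [map_zero]
      refine h2.trans ?_
      simp

lemma dA_dA (c : ACoch P U W) : dA P U W (dA P U W c) = 0 :=
  funext fun x => dA_dA_apply x W c

section reindex

variable (e : ι' → ι)

/-- reindexing -/
noncomputable def pullA : ACoch P U W →ₗ[A] ACoch P (fun i => U (e i)) W where
  toFun c x := pr P (le_of_eq (by rw [linter_map])) (c (x.map e))
  map_add' c c' := by ext x; simp
  map_smul' a c := by ext x; simp

lemma pullA_apply (c : ACoch P U W) (x : List ι') :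
    pullA e c x = pr P (le_of_eq (by rw [linter_map])) (c (x.map e)) := rfl

lemma pullA_supp {n : ℤ} {c : ACoch P U W} (hc : c ∈ suppSub P U W n) :
    pullA e c ∈ suppSub P (fun i => U (e i)) W n := fun x hx => by
  rw [pullA_apply, hc _ (by simpa using hx), map_zero]

lemma dA_pullA (c : ACoch P U W) :
    dA P (fun i => U (e i)) W (pullA e c) = pullA e (dA P U W c) := by
  ext x
  simp only [dA_apply, pullA_apply, map_sum, List.length_map, map_smul, pr_pr]
  refine Finset.sum_congr rfl fun k _ => ?_
  congr 1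
  exact acoch_congr c (List.eraseIdx_map e x k).symm _ _

lemma pullA_resW (hW : W' ≤ W) (c : ACoch P U W) :
    pullA e (resW hW c) = resW hW (pullA e c) := by
  ext x; simp [pullA_apply, resW_apply]

end reindex

section step

variable {n : ℕ} {U : Fin (n + 1) → Opens T}

/-- remove the shift from a list avoiding `0` -/
def predList (x : List (Fin (n + 1))) : List (Fin n) :=
  x.filterMap (Fin.cases none some)

lemma map_succ_predList : ∀ {x : List (Fin (n + 1))}, (0 : Fin (n + 1)) ∉ x →
    (predList x).map Fin.succ = x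
  | [], _ => rfl
  | a :: x, h => by
      cases a using Fin.cases with
      | zero => exact absurd List.mem_cons_self h
      | succ a =>
        have := map_succ_predList (x := x) fun hx => h (List.mem_cons_of_mem _ hx)
        simp only [predList, List.filterMap_cons, Fin.cases_succ, List.map_cons] at this ⊢
        rw [this]

lemma zero_notMem_map_succ (x : List (Fin n)) : (0 : Fin (n + 1)) ∉ x.map Fin.succ := by
  simp [Fin.succ_ne_zero]

/-- extension by zero -/
noncomputable def extA : ACoch P (fun i : Fin n => U i.succ) W →ₗ[A] ACoch P U W where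
  toFun c x := if h : (0 : Fin (n + 1)) ∈ x then 0 else
    pr P (le_of_eq (by rw [linter_map U Fin.succ (predList x), map_succ_predList h])) (c (predList x))
  map_add' c c' := by
    ext x; dsimp only [Pi.add_apply]; split_ifs <;> simp
  map_smul' a c := by
    ext x; dsimp only [Pi.smul_apply, RingHom.id_apply]; split_ifs <;> simp

lemma extA_of_not_mem (c : ACoch P (fun i : Fin n => U i.succ) W) {x : List (Fin (n + 1))}
    (h : (0 : Fin (n + 1)) ∉ x) : extA c x =
    pr P (le_of_eq (by rw [linter_map U Fin.succ (predList x), map_succ_predList h])) (c (predList x)) :=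
  dif_neg h

lemma predList_map (x : List (Fin n)) : predList (x.map Fin.succ) = x := by
  induction x with
  | nil => rfl
  | cons a x ih => simp only [predList, List.map_cons, List.filterMap_cons, Fin.cases_succ] at ih ⊢; rw [ih]

lemma pullA_extA (c : ACoch P (fun i : Fin n => U i.succ) W) : pullA Fin.succ (extA c) = c := by
  ext x
  rw [pullA_apply, extA_of_not_mem c (zero_notMem_map_succ x), pr_pr]
  exact (acoch_congr c (predList_map x) _ le_rfl).trans (pr_self P _)

lemma extA_supp {m : ℤ} {c : ACoch P (fun i : Fin n => U i.succ) W}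
    (hc : c ∈ suppSub P (fun i : Fin n => U i.succ) W m) : extA c ∈ suppSub P U W m := fun x hx => by
  by_cases h : (0 : Fin (n + 1)) ∈ x
  · exact dif_pos h
  · rw [extA_of_not_mem c h, hc _ ?_, map_zero]
    rw [← map_succ_predList h, List.length_map] at hx
    exact hx

lemma eq_of_pullA_eq {c c' : ACoch P U W} (h1 : pullA Fin.succ c = pullA Fin.succ c')
    (h2 : ∀ x, (0 : Fin (n + 1)) ∈ x → c x = c' x) : c = c' := by
  funext x
  by_cases h : (0 : Fin (n + 1)) ∈ x
  · exact h2 x h
  · have hle : W ⊓ linter U x ≤ W ⊓ linter (fun i : Fin n => U i.succ) (predList x) :=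
      le_of_eq (by rw [linter_map U Fin.succ, map_succ_predList h])
    have key := congrArg (pr P hle) (congrFun h1 (predList x))
    rw [pullA_apply, pullA_apply, pr_pr, pr_pr] at key
    rw [← pr_self P (c x), ← pr_self P (c' x)]
    exact (acoch_congr c (map_succ_predList h).symm _ _).trans
      (key.trans (acoch_congr c' (map_succ_predList h) _ _))

variable (hW' : W' = W ⊓ U 0)
include hW'

lemma inter_le_of_mem {x : List (Fin (n + 1))} (h : (0 : Fin (n + 1)) ∈ x) :
    W ⊓ linter U x ≤ W' ⊓ linter U x := by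
  subst hW'
  exact le_inf (le_inf inf_le_left (inf_le_right.trans (linter_le U h))) inf_le_right

lemma eq_of_resW_eq {c c' : ACoch P U W} (h1 : pullA Fin.succ c = pullA Fin.succ c')
    (h2 : resW (le_of_eq_of_le hW' inf_le_left) c = resW (le_of_eq_of_le hW' inf_le_left) c') :
    c = c' :=
  eq_of_pullA_eq h1 fun x hx =>
    pr_inj P (inf_le_inf_right _ (le_of_eq_of_le hW' inf_le_left)) (inter_le_of_mem hW' hx)
      (congrFun h2 x)

/-- glue free part and part containing `0` -/
noncomputable def glueA (x : ACoch P (fun i : Fin n => U i.succ) W) (e : ACoch P U W') : ACoch P U W :=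
  fun t => if h : (0 : Fin (n + 1)) ∈ t then pr P (inter_le_of_mem hW' h) (e t) else extA x t

lemma pullA_glueA (x : ACoch P (fun i : Fin n => U i.succ) W) (e : ACoch P U W') :
    pullA Fin.succ (glueA hW' x e) = x := by
  conv_rhs => rw [← pullA_extA x]
  ext t
  rw [pullA_apply, pullA_apply]
  congr 1
  exact dif_neg (zero_notMem_map_succ t)

lemma resW_glueA (x : ACoch P (fun i : Fin n => U i.succ) W) (e : ACoch P U W')
    (h : pullA Fin.succ e = resW (le_of_eq_of_le hW' inf_le_left) x) :
    resW (le_of_eq_of_le hW' inf_le_left) (glueA hW' x e) = e := by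
  refine eq_of_pullA_eq ?_ fun t ht => ?_
  · rw [pullA_resW, pullA_glueA, h]
  · rw [resW_apply, glueA, dif_pos ht, pr_pr, pr_self]

lemma glueA_supp {m : ℤ} {x : ACoch P (fun i : Fin n => U i.succ) W} {e : ACoch P U W'}
    (hx : x ∈ suppSub P (fun i : Fin n => U i.succ) W m) (he : e ∈ suppSub P U W' m) :
    glueA hW' x e ∈ suppSub P U W m := fun t ht => by
  rw [glueA]
  split_ifs with h
  · rw [he t ht, map_zero]
  · exact extA_supp hx t ht

/-- surjectivity part of the step -/
lemma step_surj {m : ℤ} (x : ACoch P (fun i : Fin n => U i.succ) W) (y : ACoch P (fun i : Fin n => U i.succ) W')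
    (hx : x ∈ suppSub P _ W m) (hy : y ∈ suppSub P _ W' (m - 1))
    (hdx : dA P _ W x = 0)
    (hxy : resW (le_of_eq_of_le hW' inf_le_left) x = dA P _ W' y) :
    ∃ (c : ACoch P U W) (z : ACoch P (fun i : Fin n => U i.succ) W'), c ∈ suppSub P U W m ∧
      z ∈ suppSub P _ W' (m - 2) ∧ dA P U W c = 0 ∧ pullA Fin.succ c = x ∧
      pullA Fin.succ (consA 0 (le_of_eq_of_le hW' inf_le_left) (le_of_eq_of_le hW' inf_le_right) c) =
        y + dA P _ W' z := by
  set hle : W' ≤ W := le_of_eq_of_le hW' inf_le_left
  set ha : W' ≤ U 0 := le_of_eq_of_le hW' inf_le_right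
  set e := dA P U W' (extA y) with he
  have hfree : pullA Fin.succ e = resW hle x := by rw [he, ← dA_pullA, pullA_extA, hxy]
  have hcons : ∀ c' : ACoch P U W, resW hle c' = e →
      consA 0 hle ha c' = consA 0 le_rfl ha e := by
    intro c' hc'
    ext t
    rw [← hc']
    simp [consA_apply, resW_apply]
  refine ⟨glueA hW' x e, - pullA Fin.succ (consA 0 le_rfl ha (extA y)),
    glueA_supp hW' hx (by simpa using dA_supp (extA_supp hy)),
    Submodule.neg_mem _ (by
      have := pullA_supp Fin.succ (consA_supp 0 (W := W') (W' := W') le_rfl ha (extA_supp hy))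
      rw [show m - 1 - 1 = m - 2 by ring] at this
      exact this), ?_, pullA_glueA hW' x e, ?_⟩
  · refine eq_of_resW_eq hW' ?_ ?_
    · rw [map_zero, ← dA_pullA, pullA_glueA, hdx]
    · rw [map_zero, ← dA_resW, resW_glueA hW' x e hfree, he, dA_dA]
  · rw [hcons _ (resW_glueA hW' x e hfree), he, consA_dA, map_sub, ← dA_pullA, map_neg,
      sub_eq_add_neg]
    congr 1
    ext t
    simp [pullA_apply, resW_apply, extA_of_not_mem _ (zero_notMem_map_succ t)]
    exact (acoch_congr y (predList_map t) _ le_rfl).trans (pr_self P _)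

/-- injectivity part of the step -/
lemma step_inj {m : ℤ} (c : ACoch P U W) (x : ACoch P (fun i : Fin n => U i.succ) W)
    (y : ACoch P (fun i : Fin n => U i.succ) W') (hc : c ∈ suppSub P U W m)
    (hx : x ∈ suppSub P _ W (m - 1)) (hy : y ∈ suppSub P _ W' (m - 2))
    (hdc : dA P U W c = 0) (h1 : pullA Fin.succ c = dA P _ W x)
    (h2 : pullA Fin.succ (consA 0 (le_of_eq_of_le hW' inf_le_left) (le_of_eq_of_le hW' inf_le_right) c) =
        resW (le_of_eq_of_le hW' inf_le_left) x - dA P _ W' y) :
    ∃ b, b ∈ suppSub P U W (m - 1) ∧ dA P U W b = c := by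
  set hle : W' ≤ W := le_of_eq_of_le hW' inf_le_left
  set ha : W' ≤ U 0 := le_of_eq_of_le hW' inf_le_right
  set c' := c - dA P U W (extA x) with hc'
  have hfree : pullA Fin.succ c' = 0 := by
    rw [hc', map_sub, ← dA_pullA, pullA_extA, h1, sub_self]
  set y' := pullA Fin.succ (consA 0 hle ha (extA x)) - y with hy'
  have hh : pullA Fin.succ (consA 0 hle ha c') = dA P _ W' y' := by
    rw [hc', map_sub, map_sub, h2, consA_dA, map_sub, pullA_resW, pullA_extA, hy', map_sub,
      dA_pullA]
    abel
  set e := resW hle c' with he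
  have hde : dA P U W' e = 0 := by
    rw [he, dA_resW, hc', map_sub, hdc, dA_dA, sub_zero, map_zero]
  have hce : consA 0 hle ha c' = consA 0 le_rfl ha e := by
    ext t; simp [he, consA_apply, resW_apply]
  set z := consA 0 le_rfl ha e - dA P U W' (extA y') with hz
  have hdz : dA P U W' z = e := by
    have h := consA_dA 0 (W := W') (W' := W') le_rfl ha e
    rw [hde, map_zero, eq_comm, sub_eq_zero] at h
    rw [hz, map_sub, dA_dA, sub_zero, ← h]
    ext t; simp [resW_apply]
  have hzfree : pullA Fin.succ z = 0 := by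
    rw [hz, map_sub, ← dA_pullA, pullA_extA, ← hce, hh, sub_self]
  have hzres : pullA Fin.succ z = resW hle (0 : ACoch P (fun i : Fin n => U i.succ) W) := by
    rw [hzfree, map_zero]
  have hm : c' ∈ suppSub P U W m :=
    Submodule.sub_mem _ hc (by simpa using dA_supp (extA_supp hx))
  have hy'm : y' ∈ suppSub P _ W' (m - 2) := by
    refine Submodule.sub_mem _ ?_ hy
    have := pullA_supp Fin.succ (consA_supp 0 hle ha (extA_supp hx))
    rw [show m - 1 - 1 = m - 2 by ring] at this
    exact this
  refine ⟨glueA hW' 0 z + extA x, Submodule.add_mem _ (glueA_supp hW' (Submodule.zero_mem _) ?_)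
    (extA_supp hx), ?_⟩
  · refine Submodule.sub_mem _ (consA_supp 0 le_rfl ha (resW_supp hle hm)) ?_
    have := dA_supp (extA_supp hy'm)
    rwa [show m - 2 + 1 = m - 1 by ring] at this
  · have key : dA P U W (glueA hW' 0 z) = c' := by
      refine eq_of_resW_eq hW' ?_ ?_
      · rw [← dA_pullA, pullA_glueA, map_zero, hfree]
      · rw [← dA_resW, resW_glueA hW' 0 z hzres, hdz]
    rw [map_add, key, hc', sub_add_cancel]

end step

end Groth.KoszulCone
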