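import Groth.Agent.KoszulCone.AugCech

/-!
The augmented Čech complex is quasi-isomorphic to the stable Koszul complex.
-/

set_option linter.unusedSectionVars false

universe u

open CategoryTheory CategoryTheory.Limits CochainComplex TopologicalSpace Opposite

namespace Groth.KoszulCone

variable {A : Type u} [CommRing A] {T : TopCat.{u}}
variable (P : (Opens T)ᵒᵖ ⥤ ModuleCat.{u} A) (D : A → Opens T)

/-- the opens attached to a list -/
abbrev opensOf (fs : List A) : Fin fs.length → Opens T := fun i => D (fs.get i)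

/-- sign -/
def sgn (A : Type u) [CommRing A] (n : ℕ) : A := (-1) ^ n

@[simp] lemma sgn_mul_self (n : ℕ) : sgn A n * sgn A n = 1 := by
  rw [sgn, ← pow_add, ← two_mul, pow_mul]; simp

lemma sgn_succ (n : ℕ) : sgn A (n + 1) = - sgn A n := by simp [sgn, pow_succ]

lemma sgn_sgn_smul (n : ℕ) {N : Type*} [AddCommGroup N] [Module A N] (x : N) :
    sgn A n • sgn A n • x = x := by
  rw [← mul_smul, sgn_mul_self, one_smul]

/-- the differential between pieces -/
noncomputable def augD (fs : List A) (W : Opens T) (i j : ℤ) (h : i + 1 = j) :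
    suppSub P (opensOf D fs) W (i + fs.length) →ₗ[A] suppSub P (opensOf D fs) W (j + fs.length) :=
  LinearMap.codRestrict _
    ((sgn A fs.length • dA P (opensOf D fs) W) ∘ₗ Submodule.subtype _)
    fun x => Submodule.smul_mem _ _ (by
      have := dA_supp x.2
      rwa [show i + (fs.length : ℤ) + 1 = j + fs.length by omega] at this)

/-- the augmented Čech complex -/
noncomputable def aug (fs : List A) (W : Opens T) : CochainComplex (ModuleCat.{u} A) ℤ where
  X i := ModuleCat.of A (suppSub P (opensOf D fs) W (i + fs.length))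
  d i j := if h : i + 1 = j then ModuleCat.ofHom (augD P D fs W i j h) else 0
  shape i j hij := dif_neg (c := i + 1 = j) hij
  d_comp_d' i j k hij hjk := by
    rw [dif_pos (show i + 1 = j from hij), dif_pos (show j + 1 = k from hjk)]
    refine ModuleCat.hom_ext (LinearMap.ext fun x => Subtype.ext ?_)
    show sgn A fs.length • dA P _ W (sgn A fs.length • dA P _ W x.1) = 0
    rw [map_smul, dA_dA, smul_zero, smul_zero]

/-- underlying cochain -/
noncomputable def aval (fs : List A) (W : Opens T) (i : ℤ) :
    (aug P D fs W).X i →ₗ[A] ACoch P (opensOf D fs) W :=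
  Submodule.subtype _

variable {P D}

lemma aval_inj {fs : List A} {W : Opens T} {i : ℤ} {x y : (aug P D fs W).X i}
    (h : aval P D fs W i x = aval P D fs W i y) : x = y := Subtype.ext h

lemma aval_mem {fs : List A} {W : Opens T} {i : ℤ} (x : (aug P D fs W).X i) :
    aval P D fs W i x ∈ suppSub P (opensOf D fs) W (i + fs.length) := x.2

/-- constructor -/
noncomputable def amk {fs : List A} {W : Opens T} {i : ℤ} (c : ACoch P (opensOf D fs) W)
    (hc : c ∈ suppSub P (opensOf D fs) W (i + fs.length)) : (aug P D fs W).X i := ⟨c, hc⟩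

@[simp] lemma aval_amk {fs : List A} {W : Opens T} {i : ℤ} (c : ACoch P (opensOf D fs) W) (hc) :
    aval P D fs W i (amk c hc) = c := rfl

lemma aval_d {fs : List A} {W : Opens T} (i j : ℤ) (h : i + 1 = j) (x : (aug P D fs W).X i) :
    aval P D fs W j ((aug P D fs W).d i j x) =
      sgn A fs.length • dA P (opensOf D fs) W (aval P D fs W i x) := by
  show aval P D fs W j ((if h : i + 1 = j then _ else _ :
    ModuleCat.of A (suppSub P (opensOf D fs) W (i + fs.length)) ⟶
      ModuleCat.of A (suppSub P (opensOf D fs) W (j + fs.length))) x) = _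
  rw [dif_pos h]
  rfl

variable (P D)

/-- restriction -/
noncomputable def augMap (fs : List A) {V W : Opens T} (h : V ≤ W) : aug P D fs W ⟶ aug P D fs V where
  f i := ModuleCat.ofHom (LinearMap.codRestrict _ (resW h ∘ₗ aval P D fs W i)
    fun x => resW_supp h x.2)
  comm' i j hij := by
    refine ModuleCat.hom_ext (LinearMap.ext fun x => aval_inj ?_)
    refine (aval_d i j hij _).trans ?_
    show sgn A fs.length • dA P _ V (resW h (aval P D fs W i x)) =
      resW h (aval P D fs W j ((aug P D fs W).d i j x))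
    rw [aval_d i j hij, map_smul, dA_resW]

variable {P D}

lemma aval_augMap {fs : List A} {V W : Opens T} (h : V ≤ W) (i : ℤ) (x : (aug P D fs W).X i) :
    aval P D fs V i ((augMap P D fs h).f i x) = resW h (aval P D fs W i x) := rfl

variable (P D)

/-- drop the first open -/
noncomputable def pullS (f : A) (fs : List A) (W : Opens T) :
    ACoch P (opensOf D (f :: fs)) W →ₗ[A] ACoch P (opensOf D fs) W :=
  pullA (U := opensOf D (f :: fs)) Fin.succ

lemma pullS_apply (f : A) (fs : List A) (W : Opens T) (c : ACoch P (opensOf D (f :: fs)) W)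
    (x : List (Fin fs.length)) :
    ∃ h, pullS P D f fs W c x = pr P h (c (x.map Fin.succ)) :=
  ⟨_, rfl⟩

lemma pullS_supp (f : A) (fs : List A) {W : Opens T} {n : ℤ} {c : ACoch P (opensOf D (f :: fs)) W}
    (hc : c ∈ suppSub P (opensOf D (f :: fs)) W n) :
    pullS P D f fs W c ∈ suppSub P (opensOf D fs) W n :=
  pullA_supp (U := opensOf D (f :: fs)) Fin.succ hc

lemma dA_pullS (f : A) (fs : List A) (W : Opens T) (c : ACoch P (opensOf D (f :: fs)) W) :
    dA P (opensOf D fs) W (pullS P D f fs W c) =
      pullS P D f fs W (dA P (opensOf D (f :: fs)) W c) :=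
  dA_pullA (U := opensOf D (f :: fs)) Fin.succ c

lemma pullS_resW (f : A) (fs : List A) {W W' : Opens T} (h : W' ≤ W)
    (c : ACoch P (opensOf D (f :: fs)) W) :
    pullS P D f fs W' (resW h c) = resW h (pullS P D f fs W c) :=
  pullA_resW (U := opensOf D (f :: fs)) Fin.succ h c

/-- the part through the first open -/
noncomputable def consS (f : A) (fs : List A) (W : Opens T) :
    ACoch P (opensOf D (f :: fs)) W →ₗ[A] ACoch P (opensOf D fs) (W ⊓ D f) :=
  pullS P D f fs (W ⊓ D f) ∘ₗ
    consA (U := opensOf D (f :: fs)) (0 : Fin (f :: fs).length) inf_le_left inf_le_right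

lemma consS_supp (f : A) (fs : List A) {W : Opens T} {n : ℤ} {c : ACoch P (opensOf D (f :: fs)) W}
    (hc : c ∈ suppSub P (opensOf D (f :: fs)) W n) :
    consS P D f fs W c ∈ suppSub P (opensOf D fs) (W ⊓ D f) (n - 1) :=
  pullS_supp P D f fs (consA_supp (W := W) (W' := W ⊓ D f) (U := opensOf D (f :: fs))
    (0 : Fin (f :: fs).length) inf_le_left inf_le_right hc)

lemma consS_dA (f : A) (fs : List A) (W : Opens T) (c : ACoch P (opensOf D (f :: fs)) W) :
    consS P D f fs W (dA P (opensOf D (f :: fs)) W c) =
      resW (inf_le_left : W ⊓ D f ≤ W) (pullS P D f fs W c) -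
        dA P (opensOf D fs) (W ⊓ D f) (consS P D f fs W c) := by
  have h := congrArg (pullS P D f fs (W ⊓ D f))
    (consA_dA (W := W) (W' := W ⊓ D f) (U := opensOf D (f :: fs))
      (0 : Fin (f :: fs).length) inf_le_left inf_le_right c)
  rw [map_sub, pullS_resW] at h
  refine h.trans ?_
  rw [← dA_pullS]
  rfl

/-- first component of the step map -/
noncomputable def stepFst (f : A) (fs : List A) (W : Opens T) (i : ℤ) :
    (aug P D (f :: fs) W).X i →ₗ[A] (aug P D fs W).X (i + 1) :=
  LinearMap.codRestrict _ (pullS P D f fs W ∘ₗ aval P D (f :: fs) W i)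
    fun x => by
      have := pullS_supp P D f fs (aval_mem x)
      rw [show i + ((f :: fs).length : ℤ) = i + 1 + fs.length by simp; ring] at this
      exact this

/-- second component of the step map -/
noncomputable def stepSnd (f : A) (fs : List A) (W : Opens T) (i : ℤ) :
    (aug P D (f :: fs) W).X i →ₗ[A] (aug P D fs (W ⊓ D f)).X i :=
  LinearMap.codRestrict _ (sgn A (fs.length + 1) • (consS P D f fs W ∘ₗ aval P D (f :: fs) W i))
    fun x => Submodule.smul_mem _ _ (by
      have := consS_supp P D f fs (aval_mem x)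
      rw [show i + ((f :: fs).length : ℤ) - 1 = i + fs.length by simp; ring] at this
      exact this)

lemma stepFst_d (f : A) (fs : List A) (W : Opens T) (i j : ℤ) (hij : i + 1 = j) (x) :
    stepFst P D f fs W j ((aug P D (f :: fs) W).d i j x) =
      - (aug P D fs W).d (i + 1) (j + 1) (stepFst P D f fs W i x) := by
  refine aval_inj ?_
  rw [map_neg, aval_d (i + 1) (j + 1) (by omega)]
  show pullS P D f fs W (aval P D (f :: fs) W j _) =
    - (sgn A fs.length • dA P (opensOf D fs) W
      (pullS P D f fs W (aval P D (f :: fs) W i x)))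
  rw [aval_d i j hij, map_smul, dA_pullS, ← neg_smul, ← sgn_succ]
  rfl

lemma stepSnd_d (f : A) (fs : List A) (W : Opens T) (i j : ℤ) (hij : i + 1 = j) (x) :
    stepSnd P D f fs W j ((aug P D (f :: fs) W).d i j x) =
      (augMap P D fs (inf_le_left : W ⊓ D f ≤ W)).f j
          (hij ▸ stepFst P D f fs W i x) +
        (aug P D fs (W ⊓ D f)).d i j (stepSnd P D f fs W i x) := by
  subst hij
  refine aval_inj ?_
  rw [map_add, aval_d i (i + 1) rfl, aval_augMap]
  show sgn A (fs.length + 1) • consS P D f fs W
          (aval P D (f :: fs) W (i + 1) ((aug P D (f :: fs) W).d i (i + 1) x)) =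
    resW (inf_le_left : W ⊓ D f ≤ W)
        (pullS P D f fs W (aval P D (f :: fs) W i x)) +
      sgn A fs.length • dA P (opensOf D fs) (W ⊓ D f) (sgn A (fs.length + 1) •
        consS P D f fs W (aval P D (f :: fs) W i x))
  rw [aval_d i (i + 1) rfl, map_smul, consS_dA, map_smul,
    show sgn A (f :: fs).length = sgn A (fs.length + 1) from rfl, sgn_sgn_smul,
    sgn_succ, neg_smul, smul_neg, sgn_sgn_smul, ← sub_eq_add_neg]

/-- the step map into the cone -/
noncomputable def stepHom (f : A) (fs : List A) (W : Opens T) :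
    aug P D (f :: fs) W ⟶ mappingCone (augMap P D fs (inf_le_left : W ⊓ D f ≤ W)) where
  f i := ModuleCat.ofHom
    (((mappingCone.inl (augMap P D fs (inf_le_left : W ⊓ D f ≤ W))).v (i + 1) i (by omega)).hom
        ∘ₗ stepFst P D f fs W i +
      ((mappingCone.inr (augMap P D fs (inf_le_left : W ⊓ D f ≤ W))).f i).hom
        ∘ₗ stepSnd P D f fs W i)
  comm' i j hij := by
    refine ModuleCat.hom_ext (LinearMap.ext fun x => ?_)
    obtain rfl : i + 1 = j := hij
    set φ := augMap P D fs (inf_le_left : W ⊓ D f ≤ W)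
    show (mappingCone φ).d i (i + 1) (cmk φ i (i + 1) rfl (stepFst P D f fs W i x) (stepSnd P D f fs W i x)) =
      cmk φ (i + 1) (i + 1 + 1) rfl
        (stepFst P D f fs W (i + 1) ((aug P D (f :: fs) W).d i (i + 1) x))
        (stepSnd P D f fs W (i + 1) ((aug P D (f :: fs) W).d i (i + 1) x))
    refine cone_ext φ rfl ?_ ?_
    · rw [cfst_d φ i (i + 1) (i + 1 + 1) rfl rfl, cfst_cmk, cfst_cmk,
        stepFst_d P D f fs W i (i + 1) rfl]
    · rw [csnd_d φ i (i + 1) rfl, cfst_cmk, csnd_cmk, csnd_cmk,
        stepSnd_d P D f fs W i (i + 1) rfl]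

lemma stepHom_apply (f : A) (fs : List A) (W : Opens T) (i : ℤ) (x) :
    (stepHom P D f fs W).f i x = cmk (augMap P D fs (inf_le_left : W ⊓ D f ≤ W)) i (i + 1) rfl
      (stepFst P D f fs W i x) (stepSnd P D f fs W i x) := rfl

lemma cfst_stepHom (f : A) (fs : List A) (W : Opens T) (i : ℤ) (x) :
    cfst _ i (i + 1) rfl ((stepHom P D f fs W).f i x) = stepFst P D f fs W i x :=
  (congrArg _ (stepHom_apply P D f fs W i x)).trans
    (cfst_cmk (augMap P D fs (inf_le_left : W ⊓ D f ≤ W)) i (i + 1) rfl _ _)

lemma csnd_stepHom (f : A) (fs : List A) (W : Opens T) (i : ℤ) (x) :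
    csnd _ i ((stepHom P D f fs W).f i x) = stepSnd P D f fs W i x :=
  (congrArg _ (stepHom_apply P D f fs W i x)).trans
    (csnd_cmk (augMap P D fs (inf_le_left : W ⊓ D f ≤ W)) i (i + 1) rfl _ _)

lemma stepHom_eqi (f : A) (fs : List A) (W : Opens T) : EQI (stepHom P D f fs W) where
  surj i j k hij hjk := by
    subst hij hjk
    set φ := augMap P D fs (inf_le_left : W ⊓ D f ≤ W)
    intro z hz
    set xs := cfst φ (i + 1) (i + 1 + 1) rfl z
    set ys := csnd φ (i + 1) z
    have hdx : dA P (opensOf D fs) W (aval P D fs W _ xs) = 0 := by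
      have h := cfst_d φ (i + 1) (i + 1 + 1) (i + 1 + 1 + 1) rfl rfl z
      rw [hz, map_zero, eq_comm, neg_eq_zero] at h
      have h' := congrArg (aval P D fs W _) h
      rw [aval_d (i + 1 + 1) (i + 1 + 1 + 1) rfl, map_zero] at h'
      rw [← sgn_sgn_smul (A := A) fs.length (dA P (opensOf D fs) W (aval P D fs W _ xs)), h']
      exact smul_zero _
    have hxy : resW (inf_le_left : W ⊓ D f ≤ W) (aval P D fs W _ xs) =
        dA P (opensOf D fs) (W ⊓ D f) (sgn A (fs.length + 1) • aval P D fs _ _ ys) := by
      have h := csnd_d φ (i + 1) (i + 1 + 1) rfl z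
      rw [hz, map_zero] at h
      have h' := congrArg (aval P D fs _ _) h
      rw [map_zero, map_add, aval_augMap, aval_d (i + 1) (i + 1 + 1) rfl] at h'
      rw [map_smul, sgn_succ, neg_smul]
      exact eq_neg_of_add_eq_zero_left h'.symm
    obtain ⟨c, w, hc, hw, hdc, hcx, hcy⟩ :=
      step_surj (n := fs.length) (U := opensOf D (f :: fs)) (W := W) (W' := W ⊓ D f) rfl
        (m := i + 1 + 1 + fs.length) (aval P D fs W _ xs)
        (sgn A (fs.length + 1) • aval P D fs _ _ ys) (aval_mem xs)
        (Submodule.smul_mem _ _ (by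
          have := aval_mem ys
          rwa [show i + 1 + (fs.length : ℤ) = i + 1 + 1 + fs.length - 1 by ring] at this))
        hdx hxy
    refine ⟨amk c (by rw [show i + 1 + ((f :: fs).length : ℤ) = i + 1 + 1 + fs.length by simp; ring]; exact hc),
      cmk φ i (i + 1) rfl 0 (amk w (by rw [show i + (fs.length : ℤ) = i + 1 + 1 + fs.length - 2 by ring]; exact hw)),
      ?_, cone_ext φ rfl ?_ ?_⟩
    · refine aval_inj ?_
      rw [aval_d (i + 1) (i + 1 + 1) rfl, aval_amk, map_zero]
      erw [hdc]
      exact smul_zero _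
    · rw [map_add, cfst_stepHom, cfst_d φ i (i + 1) (i + 1 + 1) rfl rfl, cfst_cmk, map_zero,
        neg_zero, add_zero]
      exact aval_inj hcx
    · rw [map_add, csnd_stepHom, csnd_d φ i (i + 1) rfl, cfst_cmk, csnd_cmk, map_zero, zero_add]
      refine aval_inj ?_
      rw [map_add, aval_d i (i + 1) rfl, aval_amk]
      show sgn A (fs.length + 1) • pullS P D f fs (W ⊓ D f)
          (consA (U := opensOf D (f :: fs)) (0 : Fin (f :: fs).length) inf_le_left inf_le_right c) + _ =
        aval P D fs _ _ ys
      erw [hcy]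
      rw [smul_add, sgn_sgn_smul, sgn_succ, neg_smul, add_assoc]
      exact (congrArg _ (neg_add_cancel _)).trans (add_zero _)
  inj i j k hij hjk := by
    subst hij hjk
    set φ := augMap P D fs (inf_le_left : W ⊓ D f ≤ W)
    intro z hz w hw
    set p := cfst φ i (i + 1) rfl w
    set q := csnd φ i w
    have hdc : dA P (opensOf D (f :: fs)) W (aval P D (f :: fs) W _ z) = 0 := by
      have h' := congrArg (aval P D (f :: fs) W _) hz
      rw [aval_d (i + 1) (i + 1 + 1) rfl, map_zero] at h'
      rw [← sgn_sgn_smul (A := A) (f :: fs).length (dA P (opensOf D (f :: fs)) W (aval P D (f :: fs) W _ z)), h', smul_zero]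
    have h1 : pullA Fin.succ (aval P D (f :: fs) W _ z) =
        dA P (opensOf D fs) W (sgn A (fs.length + 1) • aval P D fs W _ p) := by
      have h := congrArg (cfst φ (i + 1) (i + 1 + 1) rfl) hw
      rw [cfst_stepHom, cfst_d φ i (i + 1) (i + 1 + 1) rfl rfl] at h
      have h' := congrArg (aval P D fs W _) h
      rw [map_neg, aval_d (i + 1) (i + 1 + 1) rfl] at h'
      rw [map_smul, sgn_succ, neg_smul]
      exact h'
    have h2 : pullA Fin.succ (consA (0 : Fin (f :: fs).length) inf_le_left inf_le_right
          (aval P D (f :: fs) W _ z)) =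
        resW (inf_le_left : W ⊓ D f ≤ W) (sgn A (fs.length + 1) • aval P D fs W _ p) -
          dA P (opensOf D fs) (W ⊓ D f) (aval P D fs _ _ q) := by
      have h := congrArg (csnd φ (i + 1)) hw
      rw [csnd_stepHom, csnd_d φ i (i + 1) rfl] at h
      have h' := congrArg (aval P D fs _ _) h
      rw [map_add, aval_augMap, aval_d i (i + 1) rfl] at h'
      replace h' := congrArg (sgn A (fs.length + 1) • ·) h'
      simp only [smul_add] at h'
      rw [map_smul, sub_eq_add_neg]
      refine ((sgn_sgn_smul (fs.length + 1) _).symm.trans h').trans ?_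
      congr 1
      rw [sgn_succ, neg_smul, sgn_sgn_smul]
    obtain ⟨b, hb, hdb⟩ := step_inj (n := fs.length) (U := opensOf D (f :: fs)) (W := W)
      (W' := W ⊓ D f) rfl (m := i + 1 + 1 + fs.length) (aval P D (f :: fs) W _ z)
      (sgn A (fs.length + 1) • aval P D fs W _ p) (aval P D fs _ _ q)
      (by
        have := aval_mem z
        rwa [show i + 1 + ((f :: fs).length : ℤ) = i + 1 + 1 + fs.length by simp; ring] at this)
      (Submodule.smul_mem _ _ (by
        have := aval_mem p
        rwa [show i + 1 + (fs.length : ℤ) = i + 1 + 1 + fs.length - 1 by ring] at this))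
      (by
        have := aval_mem q
        rwa [show i + (fs.length : ℤ) = i + 1 + 1 + fs.length - 2 by ring] at this)
      hdc h1 h2
    refine ⟨amk (sgn A (f :: fs).length • b) (Submodule.smul_mem _ _ (by
      rw [show i + ((f :: fs).length : ℤ) = i + 1 + 1 + fs.length - 1 by simp; ring]; exact hb)),
      aval_inj ?_⟩
    rw [aval_d i (i + 1) rfl, aval_amk, map_smul, sgn_sgn_smul]
    exact hdb

section base

variable (W : Opens T)

/-- evaluation at the empty list -/
noncomputable def nilEval : (aug P D [] W).X 0 →ₗ[A] P.obj (op W) :=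
  (pr P (le_inf le_rfl le_top : W ≤ W ⊓ linter (opensOf D ([] : List A)) [])) ∘ₗ
    LinearMap.proj ([] : List (Fin 0)) ∘ₗ aval P D [] W 0

lemma list_fin_zero : ∀ x : List (Fin 0), x = []
  | [] => rfl
  | a :: _ => a.elim0

lemma subsingleton_aug_nil (i : ℤ) (hi : i ≠ 0) : Subsingleton ((aug P D [] W).X i) :=
  ⟨fun x y => aval_inj (funext fun l => by
    obtain rfl := list_fin_zero l
    rw [aval_mem x [] (by simpa using Ne.symm hi), aval_mem y [] (by simpa using Ne.symm hi)])⟩

lemma nilEval_bijective : Function.Bijective (nilEval P D W) := by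
  constructor
  · intro x y h
    refine aval_inj (funext fun l => ?_)
    obtain rfl := list_fin_zero l
    exact pr_inj P (le_inf le_rfl le_top : W ≤ W ⊓ linter (opensOf D ([] : List A)) []) inf_le_left h
  · intro y
    refine ⟨amk (fun l => pr P inf_le_left y) (fun l hl => ?_), ?_⟩
    · obtain rfl := list_fin_zero l
      simp at hl
    · show pr P _ (pr P _ y) = y
      rw [pr_pr]; exact pr_self P y

/-- the comparison in the base case -/
noncomputable def nilHom : aug P D [] W ⟶ (stab P D []).obj (op W) :=
  HomologicalComplex.mkHomToSingle (ModuleCat.ofHom (nilEval P D W)) (fun i hi => by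
    have := subsingleton_aug_nil P D W i (by simp only [ComplexShape.up_Rel] at hi; omega)
    refine ModuleCat.hom_ext (LinearMap.ext fun x => ?_)
    rw [Subsingleton.elim x 0, map_zero, map_zero])

lemma snil_nilHom (x : (aug P D [] W).X 0) :
    snil W ((nilHom P D W).f 0 x) = nilEval P D W x := by
  show ((nilHom P D W).f 0 ≫
    (HomologicalComplex.singleObjXSelf (ComplexShape.up ℤ) 0 (P.obj (op W))).hom) x = _
  simp [nilHom, HomologicalComplex.mkHomToSingle]
  rfl

lemma nilHom_isIso : IsIso (nilHom P D W) := by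
  have : ∀ i, IsIso ((nilHom P D W).f i) := fun i => by
    by_cases hi : i = 0
    · subst hi
      have hb : Function.Bijective ((nilHom P D W).f 0) := by
        refine ⟨fun x y h => (nilEval_bijective P D W).1 ?_, fun y => ?_⟩
        · rw [← snil_nilHom, ← snil_nilHom, h]
        · obtain ⟨x, hx⟩ := (nilEval_bijective P D W).2 (snil W y)
          exact ⟨x, (snil W).injective ((snil_nilHom P D W x).trans hx)⟩
      have := (ModuleCat.mono_iff_injective ((nilHom P D W).f 0)).2 hb.1
      have := (ModuleCat.epi_iff_surjective ((nilHom P D W).f 0)).2 hb.2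
      exact isIso_of_mono_of_epi _
    · have := subsingleton_aug_nil P D W i hi
      have := subsingleton_stab_nil (P := P) (D := D) W i hi
      have := (ModuleCat.mono_iff_injective ((nilHom P D W).f i)).2 fun x y _ => Subsingleton.elim x y
      have := (ModuleCat.epi_iff_surjective ((nilHom P D W).f i)).2 fun y => ⟨0, Subsingleton.elim _ _⟩
      exact isIso_of_mono_of_epi _
  exact HomologicalComplex.Hom.isIso_of_components _

end base

/-- the comparison, natural in the open -/
lemma exists_augToStab : ∀ fs : List A, ∃ φ : ∀ W : Opens T, aug P D fs W ⟶ (stab P D fs).obj (op W),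
    (∀ W, EQI (φ W)) ∧ ∀ (V W : Opens T) (h : V ≤ W),
      augMap P D fs h ≫ φ V = φ W ≫ (stab P D fs).map (homOfLE h).op
  | [] => by
      refine ⟨nilHom P D, fun W => @EQI.of_iso _ _ _ _ _ (nilHom_isIso P D W), fun V W h => ?_⟩
      ext i x
      by_cases hi : i = 0
      · subst hi
        apply (snil V).injective
        rw [HomologicalComplex.comp_f, HomologicalComplex.comp_f, ConcreteCategory.comp_apply,
          ConcreteCategory.comp_apply, snil_nilHom]
        show _ = snil V (sres P D [] h 0 _)
        rw [snil_sres, snil_nilHom]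
        show pr P _ (pr P _ (aval P D [] W 0 x [])) = pr P h (pr P _ (aval P D [] W 0 x []))
        rw [pr_pr, pr_pr]
      · exact @Subsingleton.elim _ (subsingleton_stab_nil (P := P) (D := D) V i hi) _ _
  | f :: fs => by
      obtain ⟨φ, hφ, hnat⟩ := exists_augToStab fs
      have hc : ∀ W, augMap P D fs (inf_le_left : W ⊓ D f ≤ W) ≫ φ (W ⊓ D f) =
          φ W ≫ sφ f fs W := fun W => hnat _ _ _
      refine ⟨fun W => stepHom P D f fs W ≫ mappingCone.map _ (sφ f fs W) (φ W) (φ (W ⊓ D f)) (hc W),
        fun W => (stepHom_eqi P D f fs W).comp (EQI.cone_map (hc W) (hφ W) (hφ (W ⊓ D f))),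
        fun V W h => ?_⟩
      ext i x
      have n1 := LinearMap.congr_fun (congrArg ModuleCat.Hom.hom
        (congrArg (fun g => HomologicalComplex.Hom.f g (i + 1)) (hnat V W h)))
      have n2 := LinearMap.congr_fun (congrArg ModuleCat.Hom.hom
        (congrArg (fun g => HomologicalComplex.Hom.f g i) (hnat _ _ (inf_le_inf_right (D f) h))))
      refine sext ?_ ?_
      · refine (cfst_map (φ' := sφ f fs V) (hc V) i (i + 1) rfl _).trans ?_
        refine Eq.trans ?_ (sfst_sres f fs h i _).symm
        refine Eq.trans ?_ (congrArg (sres P D fs h (i + 1))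
          (cfst_map (φ' := sφ f fs W) (hc W) i (i + 1) rfl _)).symm
        erw [cfst_stepHom, cfst_stepHom]
        refine Eq.trans (congrArg ((φ V).f (i + 1)) ?_) (n1 (stepFst P D f fs W i x))
        refine aval_inj ?_
        show pullA Fin.succ (resW h _) = resW h (pullA Fin.succ _)
        rw [pullA_resW]
        rfl
      · refine (csnd_map (φ' := sφ f fs V) (hc V) i _).trans ?_
        refine Eq.trans ?_ (ssnd_sres f fs h i _).symm
        refine Eq.trans ?_ (congrArg (sres P D fs (inf_le_inf_right (D f) h) i)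
          (csnd_map (φ' := sφ f fs W) (hc W) i _)).symm
        erw [csnd_stepHom, csnd_stepHom]
        refine Eq.trans (congrArg ((φ (V ⊓ D f)).f i) ?_) (n2 (stepSnd P D f fs W i x))
        refine aval_inj ?_
        refine funext fun t => ?_
        show sgn A (fs.length + 1) • pr P _ (pr P _ (pr P _ (aval P D (f :: fs) W i x _))) =
          pr P _ (sgn A (fs.length + 1) • pr P _ (pr P _ (aval P D (f :: fs) W i x _)))
        simp only [map_smul, pr_pr]

/-- the colimit of Koszul cohomology is the augmented Čech cohomology -/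
theorem nonempty_koszulHLim_equiv_aug (hP : LocData P D) {M : ModuleCat.{u} A}
    (θ : M ⟶ P.obj (op ⊤)) (hθ : Function.Bijective θ) (fs : List A) (p : ℕ) :
    Nonempty (CohIII.koszulHLim fs M p ≃ₗ[A]
      (aug P D fs ⊤).homology ((p : ℤ) - fs.length)) := by
  obtain ⟨e⟩ := nonempty_koszulHLim_equiv hP θ hθ fs p
  obtain ⟨φ, hφ, -⟩ := exists_augToStab P D fs
  have := (hφ ⊤).isIso_homologyMap ((p : ℤ) - fs.length)
  exact ⟨e.trans (asIso (HomologicalComplex.homologyMap (φ ⊤) ((p : ℤ) - fs.length))).symm.toLinearEquiv⟩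

end Groth.KoszulCone
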