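import Groth.Agent.KoszulCone.CechCompare
import Groth.Agent.CohBase.CechDerived

/-!
Čech cohomology of a family of opens as the cohomology of the augmented complex.
-/

set_option linter.unusedSectionVars false

universe u

open CategoryTheory CategoryTheory.Limits TopologicalSpace Opposite

namespace Groth.KoszulCone

section abclass

variable (K : CochainComplex AddCommGrpCat.{u} ℕ) (j : ℕ)

/-- the class map of a complex of abelian groups -/
noncomputable def abCls : (K.d j (j + 1)).hom.ker →+ K.homology j :=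
  (K.liftCycles (AddCommGrpCat.ofHom (K.d j (j + 1)).hom.ker.subtype) (j + 1)
      ((ComplexShape.up ℕ).next_eq' rfl)
      (AddCommGrpCat.hom_ext (AddMonoidHom.ext fun x => x.2)) ≫ K.homologyπ j).hom

lemma abCls_surjective : Function.Surjective (abCls K j) := by
  intro y
  obtain ⟨z, rfl⟩ := (AddCommGrpCat.epi_iff_surjective (K.homologyπ j)).1 inferInstance y
  refine ⟨⟨K.iCycles j z, ConcreteCategory.congr_hom (K.iCycles_d j (j + 1)) z⟩, ?_⟩
  show K.homologyπ j (K.liftCycles _ _ _ _ _) = _
  congr 1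
  apply (AddCommGrpCat.mono_iff_injective (K.iCycles j)).1 inferInstance
  rw [← ConcreteCategory.comp_apply, HomologicalComplex.liftCycles_i]
  rfl

lemma abCls_eq_zero_iff (x : (K.d (j + 1) (j + 1 + 1)).hom.ker) :
    abCls K (j + 1) x = 0 ↔ ∃ w, K.d j (j + 1) w = x.1 := by
  have hex : (ShortComplex.mk _ _ (K.toCycles_comp_homologyπ j (j + 1))).Exact :=
    ShortComplex.exact_of_g_is_cokernel _
      (K.homologyIsCokernel j (j + 1) ((ComplexShape.up ℕ).prev_eq' rfl))
  have hmono := (AddCommGrpCat.mono_iff_injective (K.iCycles (j + 1))).1 inferInstance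
  let z : K.cycles (j + 1) := (K.liftCycles
    (AddCommGrpCat.ofHom (K.d (j + 1) (j + 1 + 1)).hom.ker.subtype) (j + 1 + 1)
    ((ComplexShape.up ℕ).next_eq' rfl)
    (AddCommGrpCat.hom_ext (AddMonoidHom.ext fun x => x.2))).hom x
  have hz : K.iCycles (j + 1) z = x.1 := by
    simp only [z]
    rw [← ConcreteCategory.comp_apply (X := AddCommGrpCat.of _), HomologicalComplex.liftCycles_i]
    rfl
  constructor
  · intro h
    obtain ⟨w, hw⟩ := (ShortComplex.ab_exact_iff _).1 hex z h
    refine ⟨w, ?_⟩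
    rw [← hz, ← hw]
    exact (ConcreteCategory.congr_hom (K.toCycles_i j (j + 1)) w).symm
  · rintro ⟨w, hw⟩
    have : K.toCycles j (j + 1) w = z :=
      hmono ((ConcreteCategory.congr_hom (K.toCycles_i j (j + 1)) w).trans (hw.trans hz.symm))
    show K.homologyπ (j + 1) z = 0
    rw [← this]
    exact ConcreteCategory.congr_hom (K.toCycles_comp_homologyπ j (j + 1)) w

end abclass

variable {A : Type u} [CommRing A] {T : TopCat.{u}}
variable (P : (Opens T)ᵒᵖ ⥤ ModuleCat.{u} A) (D : A → Opens T) (fs : List A)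

/-- the family of opens indexed by `ULift` -/
abbrev famOf : ULift.{u} (Fin fs.length) → Opens T := fun i => D (fs.get i.down)

/-- the underlying presheaf of abelian groups -/
noncomputable abbrev abP : TopCat.Presheaf AddCommGrpCat.{u} T :=
  P ⋙ forget₂ (ModuleCat.{u} A) AddCommGrpCat.{u}

lemma res_eq_pr {V W : Opens T} (h : V ≤ W) (x : P.obj (op W)) :
    CohBase.res (abP P) h x = pr P h x := rfl

section conversion

variable {D fs} {n : ℕ}

lemma inter_le_linter (x : Fin n → ULift.{u} (Fin fs.length)) :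
    CohBase.inter (famOf D fs) x ≤ ⊤ ⊓ linter (opensOf D fs) (List.ofFn fun a => (x a).down) :=
  le_inf le_top (le_linter _ fun b hb => by
    obtain ⟨a, rfl⟩ := List.mem_ofFn.1 hb
    exact CohBase.inter_le _ x a)

lemma linter_le_inter {l : List (Fin fs.length)} (h : l.length = n) :
    ⊤ ⊓ linter (opensOf D fs) l ≤
      CohBase.inter (famOf D fs) fun a => ULift.up (l.get (Fin.cast h.symm a)) :=
  le_iInf fun _ => inf_le_right.trans (linter_le _ (List.get_mem _ _))

lemma ofFn_get_cast {l : List (Fin fs.length)} (h : l.length = n) :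
    List.ofFn (fun a : Fin n => l.get (Fin.cast h.symm a)) = l := by
  subst h; exact List.ofFn_get l

lemma eraseIdx_ofFn {α : Type*} (y : Fin (n + 1) → α) (a : Fin (n + 1)) :
    (List.ofFn y).eraseIdx a = List.ofFn (y ∘ a.succAbove) := by
  refine List.ext_getElem (by simp [List.length_eraseIdx, Nat.le_of_lt_succ a.isLt]) fun i h1 h2 => ?_
  rw [List.getElem_eraseIdx]
  have hi : i < n := by simpa using h2
  simp only [List.getElem_ofFn, Function.comp_apply]
  split_ifs with h
  · rw [Fin.succAbove_of_castSucc_lt a ⟨i, hi⟩ h]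
    rfl
  · rw [Fin.succAbove_of_le_castSucc a ⟨i, hi⟩ (show (a : ℕ) ≤ i by omega)]
    rfl

variable {P}

/-- tuples to lists -/
noncomputable def toA (s : CohBase.Coch (famOf D fs) (abP P) n) : ACoch P (opensOf D fs) ⊤ :=
  fun l => if h : l.length = n + 1 then pr P (linter_le_inter h)
    (s fun a => ULift.up (l.get (Fin.cast h.symm a))) else 0

lemma toA_supp (s : CohBase.Coch (famOf D fs) (abP P) n) :
    toA s ∈ suppSub P (opensOf D fs) ⊤ ((n : ℤ) + 1) :=
  fun l hl => dif_neg fun h => hl (by rw [h]; push_cast; rfl)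

lemma toA_ofFn (s : CohBase.Coch (famOf D fs) (abP P) n) (y : Fin (n + 1) → Fin fs.length) :
    ∃ h, toA s (List.ofFn y) = pr P h (s fun a => ULift.up (y a)) := by
  have hl : (List.ofFn y).length = n + 1 := List.length_ofFn
  have he : (fun a : Fin (n + 1) => ULift.up.{u} ((List.ofFn y).get (Fin.cast hl.symm a))) =
      fun a => ULift.up.{u} (y a) := by funext a; simp [-List.ofFn_succ]
  refine ⟨le_iInf fun a => inf_le_right.trans (linter_le _ (List.mem_ofFn.2 ⟨a, rfl⟩)), ?_⟩
  rw [toA, dif_pos hl]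
  exact CohBase.Coch.congr_res (famOf D fs) (abP P) s he _ _

/-- lists to tuples -/
noncomputable def fromA (c : ACoch P (opensOf D fs) ⊤) : CohBase.Coch (famOf D fs) (abP P) n :=
  fun x => pr P (inter_le_linter x) (c (List.ofFn fun a => (x a).down))

lemma fromA_toA (s : CohBase.Coch (famOf D fs) (abP P) n) : fromA (toA s) = s := by
  funext x
  obtain ⟨h, e⟩ := toA_ofFn s (fun a => (x a).down)
  rw [fromA, e, pr_pr]
  exact pr_self P _

lemma ext_ofFn {c c' : ACoch P (opensOf D fs) ⊤}
    (hc : c ∈ suppSub P (opensOf D fs) ⊤ (n : ℤ)) (hc' : c' ∈ suppSub P (opensOf D fs) ⊤ (n : ℤ))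
    (h : ∀ y : Fin n → Fin fs.length, c (List.ofFn y) = c' (List.ofFn y)) : c = c' := by
  funext l
  by_cases hl : l.length = n
  · rw [← ofFn_get_cast hl]; exact h _
  · rw [hc l (by exact_mod_cast hl), hc' l (by exact_mod_cast hl)]

lemma toA_fromA {c : ACoch P (opensOf D fs) ⊤}
    (hc : c ∈ suppSub P (opensOf D fs) ⊤ ((n : ℤ) + 1)) :
    toA (fromA (n := n) c) = c := by
  funext l
  by_cases hl : l.length = n + 1
  · rw [toA, dif_pos hl, fromA, pr_pr]
    exact (acoch_congr c (ofFn_get_cast hl) _ le_rfl).trans (pr_self P _)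
  · rw [hc l (by exact_mod_cast hl)]
    exact dif_neg hl

lemma dA_toA (s : CohBase.Coch (famOf D fs) (abP P) n) :
    dA P (opensOf D fs) ⊤ (toA s) = toA (CohBase.dCoch (famOf D fs) (abP P) n s) := by
  refine ext_ofFn (n := n + 2) ?_ ?_ fun y => ?_
  · have := dA_supp (toA_supp s)
    rwa [show (n : ℤ) + 1 + 1 = ((n + 2 : ℕ) : ℤ) by push_cast; ring] at this
  · have := toA_supp (CohBase.dCoch (famOf D fs) (abP P) n s)
    rwa [show ((n + 1 : ℕ) : ℤ) + 1 = ((n + 2 : ℕ) : ℤ) by push_cast; ring] at this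
  · obtain ⟨hle, e⟩ := toA_ofFn (CohBase.dCoch (famOf D fs) (abP P) n s) y
    rw [e, CohBase.dCoch_apply, map_sum, dA_apply, List.length_ofFn, Finset.sum_range]
    refine Finset.sum_congr rfl fun a _ => ?_
    obtain ⟨h', e'⟩ := toA_ofFn s (y ∘ a.succAbove)
    rw [map_zsmul, ← Int.cast_smul_eq_zsmul A]
    push_cast
    congr 1
    rw [res_eq_pr, pr_pr]
    refine (acoch_congr (toA s) (eraseIdx_ofFn y a) _ (inf_le_inf_left _
      (le_linter _ fun b hb => linter_le _ ?_))).trans ?_
    · obtain ⟨c, rfl⟩ := List.mem_ofFn.1 hb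
      exact List.mem_ofFn.2 ⟨_, rfl⟩
    · rw [e', pr_pr]
      rfl

lemma toA_add (s t : CohBase.Coch (famOf D fs) (abP P) n) : toA (s + t) = toA s + toA t := by
  funext l
  simp only [toA, Pi.add_apply]
  split_ifs
  · exact map_add _ _ _
  · simp

lemma toA_zero : toA (0 : CohBase.Coch (famOf D fs) (abP P) n) = 0 := by
  funext l
  simp only [toA, Pi.zero_apply]
  split_ifs
  · exact map_zero _
  · rfl

lemma toA_injective :
    Function.Injective (toA : CohBase.Coch (famOf D fs) (abP P) n → _) :=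
  Function.LeftInverse.injective fromA_toA

variable (n) in
/-- Čech cochains inside the augmented complex -/
noncomputable def toAug (i : ℤ) (hi : i + fs.length = (n : ℤ) + 1) :
    CohBase.Coch (famOf D fs) (abP P) n →+ (aug P D fs ⊤).X i where
  toFun s := amk (toA s) (by rw [hi]; exact toA_supp s)
  map_zero' := aval_inj (by rw [aval_amk, toA_zero, map_zero])
  map_add' s t := aval_inj (by rw [aval_amk, toA_add, map_add, aval_amk, aval_amk])

lemma aval_toAug (i : ℤ) (hi) (s : CohBase.Coch (famOf D fs) (abP P) n) :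
    aval P D fs ⊤ i (toAug n i hi s) = toA s := rfl

lemma toAug_bijective (i : ℤ) (hi) :
    Function.Bijective (toAug (P := P) (D := D) (fs := fs) n i hi) := by
  refine ⟨fun s t h => toA_injective (by rw [← aval_toAug i hi, h, aval_toAug]), fun c => ?_⟩
  refine ⟨fromA (aval P D fs ⊤ i c), aval_inj ?_⟩
  rw [aval_toAug, toA_fromA]
  have := aval_mem c
  rwa [hi] at this

lemma d_toAug (i j : ℤ) (hij : i + 1 = j) (hi) (hj) (s : CohBase.Coch (famOf D fs) (abP P) n) :
    (aug P D fs ⊤).d i j (toAug n i hi s) =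
      sgn A fs.length • toAug (n + 1) j hj (CohBase.dCoch (famOf D fs) (abP P) n s) := by
  refine aval_inj ?_
  rw [aval_d i j hij, map_smul, aval_toAug, aval_toAug, dA_toA]

lemma sgn_smul_eq_zero_iff {N : Type*} [AddCommGroup N] [Module A N] (m : ℕ) (x : N) :
    sgn A m • x = 0 ↔ x = 0 :=
  ⟨fun h => by rw [← sgn_sgn_smul (A := A) m x, h, smul_zero], fun h => by rw [h, smul_zero]⟩

end conversion

variable {P D fs}

/-- two surjections with the same kernel -/
noncomputable def addEquivOfKer {G B C : Type*} [AddCommGroup G] [AddCommGroup B] [AddCommGroup C]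
    (f : G →+ B) (g : G →+ C) (hf : Function.Surjective f) (hg : Function.Surjective g)
    (h : ∀ x, f x = 0 ↔ g x = 0) : B ≃+ C :=
  (QuotientAddGroup.quotientKerEquivOfSurjective f hf).symm.trans
    ((QuotientAddGroup.quotientAddEquivOfEq (by ext x; exact h x)).trans
      (QuotientAddGroup.quotientKerEquivOfSurjective g hg))

/-- Čech cohomology in positive degrees -/
theorem nonempty_cech_equiv_aug (p : ℕ) :
    Nonempty (((CohBase.cechCx (famOf D fs) (abP P)).homology (p + 1) : Type u) ≃+
      (aug P D fs ⊤).homology (((p + 1 + 1 : ℕ) : ℤ) - fs.length)) := by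
  set i := ((p + 1 + 1 : ℕ) : ℤ) - fs.length with hi_def
  have hi : i + fs.length = ((p + 1 : ℕ) : ℤ) + 1 := by rw [hi_def]; push_cast; ring
  have hi0 : i - 1 + fs.length = (p : ℤ) + 1 := by rw [hi_def]; push_cast; ring
  have hi1 : i + 1 + fs.length = ((p + 1 + 1 : ℕ) : ℤ) + 1 := by rw [hi_def]; push_cast; ring
  let c := CohBase.cochIso (famOf D fs) (abP P)
  have hd : ∀ x, ((CohBase.cechCx (famOf D fs) (abP P)).d (p + 1) (p + 1 + 1)) x = 0 →
      (aug P D fs ⊤).d i (i + 1) (toAug (p + 1) i hi ((c (p + 1)).hom x)) = 0 := fun x hx => by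
    rw [d_toAug i (i + 1) rfl hi hi1, ← CohBase.cochIso_d, hx]
    erw [map_zero, map_zero, smul_zero]
  let g : ((CohBase.cechCx (famOf D fs) (abP P)).d (p + 1) (p + 1 + 1)).hom.ker →+
      (aug P D fs ⊤).homology i :=
    (hcls (aug P D fs ⊤) i (i + 1) rfl).toAddMonoidHom.comp
      { toFun := fun x => ⟨toAug (p + 1) i hi ((c (p + 1)).hom x.1), hd x.1 x.2⟩
        map_zero' := Subtype.ext (by simp)
        map_add' := fun x y => Subtype.ext (by simp) }
  refine ⟨addEquivOfKer (abCls _ (p + 1)) g (abCls_surjective _ _) ?_ fun x => ?_⟩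
  · intro y
    obtain ⟨⟨z, hz⟩, rfl⟩ := hcls_surjective i (i + 1) rfl y
    obtain ⟨s, rfl⟩ := (toAug_bijective i hi).2 z
    obtain ⟨x, rfl⟩ := CohBase.cochIso_surjective (famOf D fs) (abP P) (p + 1) s
    refine ⟨⟨x, ?_⟩, rfl⟩
    replace hz : (aug P D fs ⊤).d i (i + 1) (toAug (p + 1) i hi ((c (p + 1)).hom x)) = 0 := hz
    rw [d_toAug i (i + 1) rfl hi hi1, sgn_smul_eq_zero_iff, ← CohBase.cochIso_d] at hz
    exact CohBase.cochIso_injective (famOf D fs) (abP P) (p + 1 + 1)
      (((toAug_bijective (i + 1) hi1).1 (hz.trans (map_zero _).symm)).trans (map_zero _).symm)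
  · rw [abCls_eq_zero_iff]
    show _ ↔ hcls _ i (i + 1) rfl _ = 0
    rw [hcls_eq_zero_iff (i - 1) i (i + 1) (by omega) rfl]
    constructor
    · rintro ⟨w, hw⟩
      refine ⟨sgn A fs.length • toAug p (i - 1) hi0 ((c p).hom w), ?_⟩
      show _ = toAug (p + 1) i hi ((c (p + 1)).hom x.1)
      rw [map_smul, d_toAug (i - 1) i (by omega) hi0 hi, sgn_sgn_smul, ← CohBase.cochIso_d, hw]
    · rintro ⟨w, hw⟩
      obtain ⟨s, hs⟩ := (toAug_bijective (i - 1) hi0).2 (sgn A fs.length • w)
      obtain ⟨t, rfl⟩ := CohBase.cochIso_surjective (famOf D fs) (abP P) p s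
      refine ⟨t, CohBase.cochIso_injective (famOf D fs) (abP P) (p + 1) ?_⟩
      rw [CohBase.cochIso_d]
      refine (toAug_bijective i hi).1 (Eq.trans ?_ hw)
      have e := congrArg ((aug P D fs ⊤).d (i - 1) i) hs
      rw [map_smul, d_toAug (i - 1) i (by omega) hi0 hi] at e
      have e' := congrArg (sgn A fs.length • ·) e
      simp only [sgn_sgn_smul] at e'
      exact e'

section low

variable (F : CohBase.AbSheaf T) {ι : Type u} (U : ι → Opens T) (W : Opens T) (hle : ∀ i, U i ≤ W)
  (hcov : W ≤ ⨆ i, U i)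

include hcov in
/-- gluing of Čech cocycles in degree zero -/
lemma exists_augHom_eq (s : CohBase.Coch U F.obj 0) (hs : CohBase.dCoch U F.obj 0 s = 0) :
    ∃ t, CohBase.augHom U W hle F.obj t = s := by
  obtain ⟨x, rfl⟩ := CohBase.cochIso_surjective U F.obj 0 s
  rw [← CohBase.cochIso_d] at hs
  have hx : (CohBase.cechCx U F.obj).d 0 (0 + 1) x = 0 :=
    CohBase.cochIso_injective U F.obj 1 (hs.trans (map_zero _).symm)
  obtain ⟨t, ht⟩ := (CohBase.toH0_bijective U W hle F hcov).2 (abCls _ 0 ⟨x, hx⟩)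
  refine ⟨t, ?_⟩
  have hπ : Function.Bijective ((CohBase.cechCx U F.obj).homologyπ 0) :=
    ConcreteCategory.bijective_of_isIso _
  have h := congrArg ((CohBase.cechCx U F.obj).iCycles 0) (hπ.1 ht)
  erw [← ConcreteCategory.comp_apply, ← ConcreteCategory.comp_apply,
    HomologicalComplex.liftCycles_i, HomologicalComplex.liftCycles_i] at h
  rw [← CohBase.cochIso_aug U W hle F.obj t]
  exact congrArg _ h

include hcov in
lemma augHom_injective : Function.Injective (CohBase.augHom U W hle F.obj) := by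
  intro t t' h
  refine (CohBase.toH0_bijective U W hle F hcov).1 ?_
  have ha : CohBase.aug U W hle F.obj t = CohBase.aug U W hle F.obj t' :=
    CohBase.cochIso_injective U F.obj 0 (by rw [CohBase.cochIso_aug, CohBase.cochIso_aug, h])
  refine congrArg ((CohBase.cechCx U F.obj).homologyπ 0) ?_
  apply (AddCommGrpCat.mono_iff_injective ((CohBase.cechCx U F.obj).iCycles 0)).1 inferInstance
  erw [← ConcreteCategory.comp_apply, ← ConcreteCategory.comp_apply,
    HomologicalComplex.liftCycles_i]
  exact ha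

/-- sections over everything as cochains on the empty list -/
noncomputable def nilCoch : P.obj (op ⊤) →+ ACoch P (opensOf D fs) ⊤ where
  toFun m l := if l.length = 0 then pr P inf_le_left m else 0
  map_zero' := by
    funext l
    simp only [Pi.zero_apply]
    split_ifs
    · exact map_zero _
    · rfl
  map_add' a b := by
    funext l
    simp only [Pi.add_apply]
    split_ifs
    · exact map_add _ _ _
    · simp

lemma nilCoch_supp (m : P.obj (op ⊤)) : nilCoch m ∈ suppSub P (opensOf D fs) ⊤ (0 : ℤ) :=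
  fun l hl => if_neg fun h => hl (by rw [h]; rfl)

/-- the degree `-r` part -/
noncomputable def toAugNil (i : ℤ) (hi : i + fs.length = 0) :
    P.obj (op ⊤) →+ (aug P D fs ⊤).X i where
  toFun m := amk (nilCoch m) (by rw [hi]; exact nilCoch_supp m)
  map_zero' := aval_inj (by rw [aval_amk, map_zero, map_zero])
  map_add' a b := aval_inj (by rw [aval_amk, map_add, map_add, aval_amk, aval_amk])

lemma toAugNil_bijective (i : ℤ) (hi : i + fs.length = 0) :
    Function.Bijective (toAugNil (P := P) (D := D) (fs := fs) i hi) := by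
  constructor
  · intro a b h
    have e : pr P inf_le_left a = pr P inf_le_left b :=
      congrFun (congrArg (aval P D fs ⊤ i) h) []
    exact pr_inj P (inf_le_left : ⊤ ⊓ linter (opensOf D fs) [] ≤ ⊤) (le_inf le_rfl le_top) e
  · intro c
    refine ⟨pr P (le_inf le_rfl le_top : (⊤ : Opens T) ≤ ⊤ ⊓ linter (opensOf D fs) [])
      (aval P D fs ⊤ i c []), aval_inj (funext fun l => ?_)⟩
    show (if l.length = 0 then pr P _ (pr P _ _) else 0) = _
    have := aval_mem c
    rw [hi] at this
    split_ifs with hl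
    · obtain rfl := List.length_eq_zero_iff.1 hl
      rw [pr_pr, pr_self]
    · exact (this l (by simpa using hl)).symm

lemma subsingleton_aug_lt (i : ℤ) (hi : i + fs.length < 0) :
    Subsingleton ((aug P D fs ⊤).X i) :=
  ⟨fun x y => aval_inj (funext fun l => by
    rw [aval_mem x l (by omega), aval_mem y l (by omega)])⟩

variable (P D fs)

/-- restriction of a global section to the members of the family -/
noncomputable def resAll : P.obj (op ⊤) →+ CohBase.Coch (famOf D fs) (abP P) 0 where
  toFun m _ := pr P le_top m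
  map_zero' := by funext x; exact map_zero (pr P _)
  map_add' a b := by funext x; exact map_add (pr P _) a b

variable {P D fs}

lemma d_toAugNil (i j : ℤ) (hij : i + 1 = j) (hi) (hj) (m : P.obj (op ⊤)) :
    (aug P D fs ⊤).d i j (toAugNil i hi m) = sgn A fs.length • toAug 0 j hj (resAll P D fs m) := by
  refine aval_inj ?_
  rw [aval_d i j hij, map_smul, aval_toAug]
  congr 1
  refine ext_ofFn (n := 1) ?_ ?_ fun y => ?_
  · exact dA_supp (nilCoch_supp m)
  · simpa using toA_supp (resAll P D fs m)
  · obtain ⟨h, e⟩ := toA_ofFn (resAll P D fs m) y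
    rw [e, dA_apply, List.length_ofFn, Finset.sum_range_one, pow_zero, one_smul]
    show pr P _ (if ((List.ofFn y).eraseIdx 0).length = 0 then pr P inf_le_left m else 0) = pr P h (pr P _ m)
    rw [if_pos (by simp), pr_pr, pr_pr]

/-- the kernel and cokernel of restriction to the union -/
theorem nonempty_ker_coker_equiv_aug (hP : F.obj = abP P) (hW : ∀ i : ULift.{u} (Fin fs.length), famOf D fs i ≤ W)
    (hWcov : W ≤ ⨆ i, famOf D fs i) :
    Nonempty ((CohBase.res (abP P) (le_top : W ≤ ⊤)).ker ≃+
        (aug P D fs ⊤).homology (((0 : ℕ) : ℤ) - fs.length)) ∧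
      Nonempty (((abP P).obj (op W) ⧸ (CohBase.res (abP P) (le_top : W ≤ ⊤)).range) ≃+
        (aug P D fs ⊤).homology (((1 : ℕ) : ℤ) - fs.length)) := by
  obtain ⟨Fobj, hF⟩ := F
  obtain rfl : Fobj = abP P := hP
  let G : CohBase.AbSheaf T := ⟨abP P, hF⟩
  have hglue := exists_augHom_eq G (famOf D fs) W hW hWcov
  have hinj := augHom_injective G (famOf D fs) W hW hWcov
  have hr : ∀ m, CohBase.augHom (famOf D fs) W hW (abP P) (CohBase.res (abP P) (le_top : W ≤ ⊤) m) =
      resAll P D fs m := fun m => funext fun x => CohBase.res_res (abP P) _ _ m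
  set i : ℤ := ((0 : ℕ) : ℤ) - fs.length with hi_def
  set j : ℤ := ((1 : ℕ) : ℤ) - fs.length with hj_def
  have hi : i + fs.length = 0 := by rw [hi_def]; simp
  have hj : j + fs.length = ((0 : ℕ) : ℤ) + 1 := by rw [hj_def]; simp
  have hk : j + 1 + fs.length = ((0 + 1 : ℕ) : ℤ) + 1 := by rw [hj_def]; push_cast; ring
  constructor
  · have hz : ∀ m, CohBase.res (abP P) (le_top : W ≤ ⊤) m = 0 ↔
        (aug P D fs ⊤).d i j (toAugNil i hi m) = 0 := fun m => by
      rw [d_toAugNil i j (by omega) hi hj, sgn_smul_eq_zero_iff]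
      constructor
      · intro h; rw [← hr, h, map_zero, map_zero]
      · intro h
        refine hinj ?_
        rw [map_zero, hr]
        exact (toAug_bijective j hj).1 (h.trans (map_zero _).symm)
    let g : (CohBase.res (abP P) (le_top : W ≤ ⊤)).ker →+ (aug P D fs ⊤).homology i :=
      (hcls (aug P D fs ⊤) i j (by omega)).toAddMonoidHom.comp
        { toFun := fun m => ⟨toAugNil i hi m.1, (hz m.1).1 m.2⟩
          map_zero' := Subtype.ext (map_zero _)
          map_add' := fun a b => Subtype.ext (map_add _ _ _) }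
    refine ⟨AddEquiv.ofBijective g ⟨?_, fun y => ?_⟩⟩
    · rw [injective_iff_map_eq_zero]
      intro m hm
      obtain ⟨w, hw⟩ := (hcls_eq_zero_iff (i - 1) i j (by omega) (by omega) _).1 hm
      have := subsingleton_aug_lt (P := P) (D := D) (fs := fs) (i - 1) (by omega)
      rw [Subsingleton.elim w 0, map_zero] at hw
      exact Subtype.ext ((toAugNil_bijective i hi).1 (hw.symm.trans (map_zero _).symm))
    · obtain ⟨⟨z, hz'⟩, rfl⟩ := hcls_surjective i j (by omega) y
      obtain ⟨m, rfl⟩ := (toAugNil_bijective i hi).2 z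
      exact ⟨⟨m, (hz m).2 hz'⟩, rfl⟩
  · have hd : ∀ t, (aug P D fs ⊤).d j (j + 1)
        (toAug 0 j hj (CohBase.augHom (famOf D fs) W hW (abP P) t)) = 0 := fun t => by
      rw [d_toAug j (j + 1) rfl hj hk, sgn_smul_eq_zero_iff]
      have h := ConcreteCategory.congr_hom (CohBase.aug_d (famOf D fs) W hW (abP P)) t
      have h' := congrArg (CohBase.cochIso (famOf D fs) (abP P) 1).hom h
      erw [CohBase.cochIso_d, CohBase.cochIso_aug] at h'
      erw [h', map_zero, map_zero]
    let g : (abP P).obj (op W) →+ (aug P D fs ⊤).homology j :=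
      (hcls (aug P D fs ⊤) j (j + 1) rfl).toAddMonoidHom.comp
        { toFun := fun t => ⟨toAug 0 j hj (CohBase.augHom (famOf D fs) W hW (abP P) t), hd t⟩
          map_zero' := Subtype.ext (by simp)
          map_add' := fun a b => Subtype.ext (by simp) }
    refine ⟨addEquivOfKer (QuotientAddGroup.mk' _) g (QuotientAddGroup.mk'_surjective _) ?_ ?_⟩
    · intro y
      obtain ⟨⟨z, hz⟩, rfl⟩ := hcls_surjective j (j + 1) rfl y
      obtain ⟨s, rfl⟩ := (toAug_bijective j hj).2 z
      replace hz : (aug P D fs ⊤).d j (j + 1) (toAug 0 j hj s) = 0 := hz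
      rw [d_toAug j (j + 1) rfl hj hk, sgn_smul_eq_zero_iff] at hz
      obtain ⟨t, ht⟩ := hglue s ((toAug_bijective (j + 1) hk).1 (hz.trans (map_zero _).symm))
      exact ⟨t, congrArg (hcls _ j (j + 1) rfl) (Subtype.ext (congrArg (toAug 0 j hj) ht))⟩
    · intro t
      show QuotientAddGroup.mk' _ t = 0 ↔ hcls _ j (j + 1) rfl _ = 0
      rw [QuotientAddGroup.mk'_apply, QuotientAddGroup.eq_zero_iff,
        hcls_eq_zero_iff i j (j + 1) (by omega) rfl]
      constructor
      · rintro ⟨m, rfl⟩
        refine ⟨sgn A fs.length • toAugNil i hi m, ?_⟩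
        rw [map_smul, d_toAugNil i j (by omega) hi hj, sgn_sgn_smul]
        exact congrArg (toAug 0 j hj) (hr m).symm
      · rintro ⟨w, hw⟩
        obtain ⟨m, hm⟩ := (toAugNil_bijective i hi).2 (sgn A fs.length • w)
        refine ⟨m, hinj ?_⟩
        rw [hr]
        refine (toAug_bijective j hj).1 (Eq.trans ?_ hw)
        have e := congrArg (sgn A fs.length • ·) (congrArg ((aug P D fs ⊤).d i j) hm)
        rw [map_smul, d_toAugNil i j (by omega) hi hj] at e
        simp only [sgn_sgn_smul] at e
        exact e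

end low

end Groth.KoszulCone
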