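import Groth.Agent.KoszulCone.InjectiveAcyclic

/-!
The colimit Koszul complex, functorial in the module, and its long exact sequence.
-/

set_option linter.unusedSectionVars false

universe u

open CategoryTheory CategoryTheory.Limits

namespace Groth.KoszulCone

variable {A : Type u} [CommRing A]

/-- Koszul complex of the powers -/
noncomputable abbrev kc (fs : List A) (M : ModuleCat.{u} A) (n : ℕ) :
    CochainComplex (ModuleCat.{u} A) ℤ :=
  CohIII.koszulCx M (fs.map (· ^ n))

section trans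

variable {M N : ModuleCat.{u} A}

lemma trans_self : ∀ (fs : List A) (n : ℕ) (j : ℤ) (x : (kc fs M n).X j),
    (CohIII.koszulTrans M n n le_rfl fs).f j x = x
  | [], n, j, x => rfl
  | f :: fs, n, j, x => by
      refine kext ?_ ?_
      · rw [kfst_trans, trans_self fs]
      · rw [ksnd_trans, trans_self fs, Nat.sub_self, pow_zero, one_smul]

lemma kfst_koszulMap (f : A) (fs : List A) (g : M ⟶ N) (n : ℕ) (i : ℤ) (x) :
    kfst f fs n i ((koszulMap g ((f :: fs).map (· ^ n))).f i x) =
      (koszulMap g (fs.map (· ^ n))).f (i + 1) (kfst f fs n i x) :=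
  cfst_map (φ := kφ f fs n) (φ' := kφ f fs n) _ i (i + 1) rfl x

lemma ksnd_koszulMap (f : A) (fs : List A) (g : M ⟶ N) (n : ℕ) (i : ℤ) (x) :
    ksnd f fs n i ((koszulMap g ((f :: fs).map (· ^ n))).f i x) =
      (koszulMap g (fs.map (· ^ n))).f i (ksnd f fs n i x) :=
  csnd_map (φ := kφ f fs n) (φ' := kφ f fs n) _ i x

lemma koszulMap_trans (g : M ⟶ N) : ∀ (fs : List A) (n m : ℕ) (h : n ≤ m) (j : ℤ) (x),
    (CohIII.koszulTrans N n m h fs).f j ((koszulMap g (fs.map (· ^ n))).f j x) =
      (koszulMap g (fs.map (· ^ m))).f j ((CohIII.koszulTrans M n m h fs).f j x)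
  | [], n, m, h, j, x => rfl
  | f :: fs, n, m, h, j, x => by
      refine kext ?_ ?_
      · rw [kfst_trans, kfst_koszulMap, kfst_koszulMap, kfst_trans, koszulMap_trans g fs]
      · rw [ksnd_trans, ksnd_koszulMap, ksnd_koszulMap, ksnd_trans, koszulMap_trans g fs, map_smul]

end trans

section kinf

variable (fs : List A) (M : ModuleCat.{u} A)

/-- transition maps in one degree -/
noncomputable abbrev kt (j : ℤ) : ∀ n m : ℕ, n ≤ m → ((kc fs M n).X j : Type u) →ₗ[A] (kc fs M m).X j :=
  fun n m h => ((CohIII.koszulTrans M n m h fs).f j).hom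

instance directedSystem_kt (j : ℤ) :
    DirectedSystem (fun n => ((kc fs M n).X j : Type u)) (fun n m h => ⇑(kt fs M j n m h)) where
  map_self := fun n x => trans_self fs n j x
  map_map := fun _ _ _ h h' x => trans_trans _ _ _ h h' fs j x

/-- colimit in one degree -/
noncomputable abbrev KX (j : ℤ) : Type u :=
  Module.DirectLimit (fun n => ((kc fs M n).X j : Type u)) (kt fs M j)

/-- class in the colimit -/
noncomputable def kι (j : ℤ) (n : ℕ) : (kc fs M n).X j →ₗ[A] KX fs M j :=
  Module.DirectLimit.of A ℕ (fun n => ((kc fs M n).X j : Type u)) (kt fs M j) n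

variable {fs M}

lemma kι_trans {j : ℤ} {n m : ℕ} (h : n ≤ m) (x) :
    kι fs M j m ((CohIII.koszulTrans M n m h fs).f j x) = kι fs M j n x :=
  Module.DirectLimit.of_f

lemma kι_surj {j : ℤ} (y : KX fs M j) : ∃ n x, kι fs M j n x = y := by
  obtain ⟨n, x, h⟩ := Module.DirectLimit.exists_of y
  exact ⟨n, x, h⟩

lemma kι_eq_zero {j : ℤ} {n : ℕ} {x} (h : kι fs M j n x = 0) :
    ∃ m, ∃ hnm : n ≤ m, (CohIII.koszulTrans M n m hnm fs).f j x = 0 :=
  Module.DirectLimit.of.zero_exact h

variable (fs M)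

/-- differential of the colimit -/
noncomputable def kD (i j : ℤ) : KX fs M i →ₗ[A] KX fs M j :=
  Module.DirectLimit.lift A ℕ _ (kt fs M i) (fun n => kι fs M j n ∘ₗ ((kc fs M n).d i j).hom)
    fun n m h x => by
      show kι fs M j m ((kc fs M m).d i j ((CohIII.koszulTrans M n m h fs).f i x)) = _
      rw [← hom_d, kι_trans h]
      rfl

lemma kD_ι (i j : ℤ) (n : ℕ) (x) : kD fs M i j (kι fs M i n x) = kι fs M j n ((kc fs M n).d i j x) :=
  Module.DirectLimit.lift_of _ _ _

/-- the colimit complex -/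
noncomputable def Kinf : CochainComplex (ModuleCat.{u} A) ℤ where
  X j := ModuleCat.of A (KX fs M j)
  d i j := ModuleCat.ofHom (kD fs M i j)
  shape i j hij := by
    refine ModuleCat.hom_ext (LinearMap.ext fun x => ?_)
    obtain ⟨n, x, rfl⟩ := kι_surj x
    show kD fs M i j (kι fs M i n x) = 0
    rw [kD_ι, (kc fs M n).shape i j hij]
    exact map_zero _
  d_comp_d' i j k _ _ := by
    refine ModuleCat.hom_ext (LinearMap.ext fun x => ?_)
    obtain ⟨n, x, rfl⟩ := kι_surj x
    show kD fs M j k (kD fs M i j (kι fs M i n x)) = 0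
    rw [kD_ι, kD_ι, d_d, map_zero]

/-- the map from a stage -/
noncomputable def kψ (n : ℕ) : kc fs M n ⟶ Kinf fs M where
  f j := ModuleCat.ofHom (kι fs M j n)
  comm' i j _ := ModuleCat.hom_ext (LinearMap.ext fun x => kD_ι fs M i j n x)

/-- colimit of cohomology -/
theorem nonempty_koszulHLim_equiv_Kinf (p : ℕ) :
    Nonempty (CohIII.koszulHLim fs M p ≃ₗ[A] (Kinf fs M).homology ((p : ℤ) - fs.length)) :=
  nonempty_directLimit_homology_equiv (fun n => kc fs M n)
    (fun n m h => CohIII.koszulTrans M n m h fs) _ (kψ fs M)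
    (fun _ _ h _ x => kι_trans h x) (fun n m l h h' j x => trans_trans n m l h h' fs j x)
    (fun _ y => kι_surj y) (fun _ _ _ hx => kι_eq_zero hx) _

variable {M} {N P : ModuleCat.{u} A}

/-- functoriality -/
noncomputable def kmapF (g : M ⟶ N) (j : ℤ) : KX fs M j →ₗ[A] KX fs N j :=
  Module.DirectLimit.lift A ℕ _ (kt fs M j)
    (fun n => kι fs N j n ∘ₗ ((koszulMap g (fs.map (· ^ n))).f j).hom) fun n m h x => by
      show kι fs N j m ((koszulMap g (fs.map (· ^ m))).f j ((CohIII.koszulTrans M n m h fs).f j x)) = _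
      rw [← koszulMap_trans, kι_trans h]
      rfl

lemma kmapF_ι (g : M ⟶ N) (j : ℤ) (n : ℕ) (x) :
    kmapF fs g j (kι fs M j n x) = kι fs N j n ((koszulMap g (fs.map (· ^ n))).f j x) :=
  Module.DirectLimit.lift_of _ _ _

/-- functoriality of the colimit complex -/
noncomputable def KinfMap (g : M ⟶ N) : Kinf fs M ⟶ Kinf fs N where
  f j := ModuleCat.ofHom (kmapF fs g j)
  comm' i j _ := by
    refine ModuleCat.hom_ext (LinearMap.ext fun x => ?_)
    obtain ⟨n, x, rfl⟩ := kι_surj x
    show kD fs N i j (kmapF fs g i (kι fs M i n x)) = kmapF fs g j (kD fs M i j (kι fs M i n x))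
    rw [kmapF_ι, kD_ι, kD_ι, kmapF_ι, hom_d]

variable (g : M ⟶ N) (g' : N ⟶ P) (w : g ≫ g' = 0)

/-- short complex of colimit complexes -/
noncomputable def KinfSC : ShortComplex (CochainComplex (ModuleCat.{u} A) ℤ) :=
  ShortComplex.mk (KinfMap fs g) (KinfMap fs g') (by
    ext j x
    obtain ⟨n, x, rfl⟩ := kι_surj x
    show kmapF fs g' j (kmapF fs g j (kι fs M j n x)) = 0
    rw [kmapF_ι, kmapF_ι, ← ConcreteCategory.comp_apply, ← HomologicalComplex.comp_f,
      ← koszulMap_comp, w, koszulMap_zero]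
    exact map_zero _)

lemma KinfSC_shortExact (hg : Function.Injective g) (hex : Function.Exact g g')
    (hg' : Function.Surjective g') : (KinfSC fs g g' w).ShortExact := by
  have hse := fun n => koszulMap_shortExact g g' hg hex hg' (fs.map (· ^ n))
  refine HomologicalComplex.shortExact_of_degreewise_shortExact _ fun j => ?_
  refine
    { exact := (ShortComplex.ShortExact.moduleCat_exact_iff_function_exact _).2 fun y => ⟨fun hy => ?_, ?_⟩
      mono_f := (ModuleCat.mono_iff_injective _).2 ((injective_iff_map_eq_zero _).2 fun x hx => ?_)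
      epi_g := (ModuleCat.epi_iff_surjective _).2 fun z => ?_ }
  · obtain ⟨n, y, rfl⟩ := kι_surj y
    replace hy : kmapF fs g' j (kι fs N j n y) = 0 := hy
    rw [kmapF_ι] at hy
    obtain ⟨m, hm, h0⟩ := kι_eq_zero hy
    rw [koszulMap_trans] at h0
    obtain ⟨x, hx⟩ := ((hse m j).2.1 _).1 h0
    refine ⟨kι fs M j m x, ?_⟩
    show kmapF fs g j (kι fs M j m x) = _
    rw [kmapF_ι, hx, kι_trans]
  · rintro ⟨x, rfl⟩
    obtain ⟨n, x, rfl⟩ := kι_surj x
    show kmapF fs g' j (kmapF fs g j (kι fs M j n x)) = 0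
    rw [kmapF_ι, kmapF_ι, ((hse n j).2.1 _).2 ⟨_, rfl⟩, map_zero]
  · obtain ⟨n, x, rfl⟩ := kι_surj x
    replace hx : kmapF fs g j (kι fs M j n x) = 0 := hx
    rw [kmapF_ι] at hx
    obtain ⟨m, hm, h0⟩ := kι_eq_zero hx
    rw [koszulMap_trans] at h0
    rw [← kι_trans hm, (hse m j).1 (h0.trans (map_zero _).symm), map_zero]
    rfl
  · obtain ⟨n, z, rfl⟩ := kι_surj z
    obtain ⟨y, rfl⟩ := (hse n j).2.2 z
    exact ⟨kι fs N j n y, kmapF_ι fs g' j n y⟩

end kinf

section bottom

variable {M N : ModuleCat.{u} A}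

/-- the bottom coordinate -/
noncomputable def bot : ∀ (fs : List A) (n : ℕ) (i : ℤ), i + fs.length = 0 →
    ((kc fs M n).X i →ₗ[A] M)
  | [], _, i, hi =>
    (HomologicalComplex.singleObjXIsoOfEq (ComplexShape.up ℤ) 0 M i (by simpa using hi)).hom.hom
  | f :: fs, n, i, hi =>
    bot fs n (i + 1) (by simp at hi; omega) ∘ₗ kfst f fs n i

lemma bot_cons (f : A) (fs : List A) (n : ℕ) (i : ℤ) (hi) (hi') (x) :
    bot (M := M) (f :: fs) n i hi x = bot fs n (i + 1) hi' (kfst f fs n i x) := rfl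

lemma bot_bijective : ∀ (fs : List A) (n : ℕ) (i : ℤ) (hi : i + fs.length = 0),
    Function.Bijective (bot (M := M) fs n i hi)
  | [], n, i, hi => ConcreteCategory.bijective_of_isIso _
  | f :: fs, n, i, hi => by
      have hi' : i + 1 + fs.length = 0 := by simp at hi; omega
      exact (bot_bijective fs n (i + 1) hi').comp ⟨fun x y h => kext h
        (@Subsingleton.elim _ (subsingleton_kX fs n i (Or.inr (by omega))) _ _),
        fun a => ⟨kmk f fs n i a 0, kfst_kmk _ _ _ _ _ _⟩⟩

lemma bot_trans : ∀ (fs : List A) (n m : ℕ) (h : n ≤ m) (i : ℤ) (hi : i + fs.length = 0) (x),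
    bot (M := M) fs m i hi ((CohIII.koszulTrans M n m h fs).f i x) = bot fs n i hi x
  | [], n, m, h, i, hi, x => rfl
  | f :: fs, n, m, h, i, hi, x => by
      have hi' : i + 1 + fs.length = 0 := by simp at hi; omega
      rw [bot_cons f fs m i hi hi', bot_cons f fs n i hi hi', kfst_trans, bot_trans fs]

lemma bot_map (g : M ⟶ N) : ∀ (fs : List A) (n : ℕ) (i : ℤ) (hi : i + fs.length = 0) (x),
    bot fs n i hi ((koszulMap g (fs.map (· ^ n))).f i x) = g (bot fs n i hi x)
  | [], n, i, hi, x => by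
      obtain rfl : i = 0 := by simpa using hi
      show (((HomologicalComplex.single _ (ComplexShape.up ℤ) 0).map g).f 0 ≫
        (HomologicalComplex.singleObjXSelf (ComplexShape.up ℤ) 0 N).hom) x =
        ((HomologicalComplex.singleObjXSelf (ComplexShape.up ℤ) 0 M).hom ≫ g) x
      rw [HomologicalComplex.single_map_f_self]
      simp
  | f :: fs, n, i, hi, x => by
      have hi' : i + 1 + fs.length = 0 := by simp at hi; omega
      rw [bot_cons f fs n i hi hi', bot_cons f fs n i hi hi', kfst_koszulMap, bot_map g fs]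

lemma bot_cocycle : ∀ (fs : List A) (n : ℕ) (i : ℤ) (hi : i + fs.length = 0) (x),
    (kc fs M n).d i (i + 1) x = 0 ↔ ∀ g ∈ fs, g ^ n • bot fs n i hi x = 0
  | [], n, i, hi, x => by
      have := subsingleton_kX (M := M) [] n (i + 1) (Or.inl (by simp at hi; omega))
      simp only [List.not_mem_nil, IsEmpty.forall_iff, implies_true, iff_true]
      exact Subsingleton.elim _ _
  | f :: fs, n, i, hi, x => by
      have hi' : i + 1 + fs.length = 0 := by simp at hi; omega
      have hs : ksnd f fs n i x = 0 :=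
        @Subsingleton.elim _ (subsingleton_kX fs n i (Or.inr (by omega))) _ _
      have h1 := kfst_d f fs n i (i + 1) rfl x
      have h2 := ksnd_d f fs n i x
      rw [hs, map_zero, add_zero] at h2
      simp only [List.forall_mem_cons, bot_cons f fs n i hi hi']
      constructor
      · intro h
        refine ⟨?_, (bot_cocycle fs n _ hi' _).1 ?_⟩
        · rw [← map_smul, ← h2, h, map_zero, map_zero]
        · rw [h, map_zero] at h1
          exact neg_eq_zero.1 h1.symm
      · rintro ⟨h3, h4⟩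
        refine kext ?_ ?_
        · rw [h1, (bot_cocycle fs n _ hi' _).2 h4, neg_zero, map_zero]
        · rw [h2, map_zero]
          exact (bot_bijective fs n _ hi').1 (by rw [map_smul, h3, map_zero])

variable (fs : List A) (M) (i : ℤ) (hi : i + fs.length = 0)

/-- bottom coordinate of the colimit -/
noncomputable def botInf : (Kinf fs M).X i →ₗ[A] M :=
  Module.DirectLimit.lift A ℕ _ (kt fs M i) (fun n => bot fs n i hi)
    fun n m h x => bot_trans fs n m h i hi x

lemma botInf_ι (n : ℕ) (x) : botInf M fs i hi (kι fs M i n x) = bot fs n i hi x :=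
  Module.DirectLimit.lift_of _ _ _

lemma botInf_bijective : Function.Bijective (botInf M fs i hi) := by
  refine ⟨(injective_iff_map_eq_zero _).2 fun x hx => ?_, fun a => ?_⟩
  · obtain ⟨n, x, rfl⟩ := kι_surj x
    rw [botInf_ι] at hx
    rw [(bot_bijective fs n i hi).1 (hx.trans (map_zero _).symm), map_zero]
    rfl
  · obtain ⟨x, hx⟩ := (bot_bijective (M := M) fs 0 i hi).2 a
    exact ⟨kι fs M i 0 x, by rw [botInf_ι, hx]⟩

variable {fs M i}

lemma botInf_map (g : M ⟶ N) (x) :
    botInf N fs i hi ((KinfMap fs g).f i x) = g (botInf M fs i hi x) := by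
  obtain ⟨n, x, rfl⟩ := kι_surj x
  show botInf N fs i hi (kmapF fs g i (kι fs M i n x)) = _
  rw [kmapF_ι, botInf_ι, bot_map g fs n i hi x, botInf_ι]

/-- cohomology in the bottom degree -/
lemma exists_botH (fs : List A) (hi : i + fs.length = 0) :
    ∃ Φ : ∀ M : ModuleCat.{u} A, (Kinf fs M).homology i →ₗ[A] M,
      (∀ M, Function.Injective (Φ M)) ∧
      (∀ M m, m ∈ LinearMap.range (Φ M) ↔ ∃ n : ℕ, ∀ g ∈ fs, g ^ n • m = 0) ∧
      ∀ (M N : ModuleCat.{u} A) (g : M ⟶ N) (x),
        Φ N (HomologicalComplex.homologyMap (KinfMap fs g) i x) = g (Φ M x) := by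
  have hsub : ∀ M : ModuleCat.{u} A, Subsingleton ((Kinf fs M).X (i - 1)) := fun M =>
    subsingleton_of_forall_eq 0 fun x => by
      obtain ⟨n, x, rfl⟩ := kι_surj (fs := fs) (M := M) (j := i - 1) x
      rw [@Subsingleton.elim _ (subsingleton_kX fs n (i - 1) (Or.inr (by omega))) x 0, map_zero]
      rfl
  have hbij : ∀ M : ModuleCat.{u} A, Function.Bijective (hcls (Kinf fs M) i (i + 1) rfl) := fun M =>
    ⟨(injective_iff_map_eq_zero _).2 fun x hx => by
      obtain ⟨w, hw⟩ := (hcls_eq_zero_iff (i - 1) i (i + 1) (by omega) rfl x).1 hx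
      rw [@Subsingleton.elim _ (hsub M) w 0, map_zero] at hw
      exact Subtype.ext hw.symm, hcls_surjective _ _ _⟩
  refine ⟨fun M => botInf M fs i hi ∘ₗ (Submodule.subtype _) ∘ₗ
      (LinearEquiv.ofBijective _ (hbij M)).symm.toLinearMap,
    fun M => (botInf_bijective M fs i hi).1.comp
      (Subtype.val_injective.comp (LinearEquiv.injective _)),
    fun M m => ⟨?_, ?_⟩, fun M N g x => ?_⟩
  · rintro ⟨x, rfl⟩
    generalize hy : (LinearEquiv.ofBijective _ (hbij M)).symm x = y
    obtain ⟨y, hy'⟩ := y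
    obtain ⟨n, z, rfl⟩ := kι_surj y
    replace hy' : kD fs M i (i + 1) (kι fs M i n z) = 0 := hy'
    rw [kD_ι] at hy'
    obtain ⟨k, hk, h0⟩ := kι_eq_zero hy'
    rw [hom_d, bot_cocycle fs k i hi] at h0
    refine ⟨k, fun g hg => ?_⟩
    have := h0 g hg
    rw [bot_trans fs n k hk i hi] at this
    show g ^ k • botInf M fs i hi ((LinearEquiv.ofBijective _ (hbij M)).symm x).1 = 0
    rw [hy, botInf_ι]
    exact this
  · rintro ⟨n, hn⟩
    obtain ⟨z, rfl⟩ := (bot_bijective (M := M) fs n i hi).2 m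
    have hz : (Kinf fs M).d i (i + 1) (kι fs M i n z) = 0 := by
      show kD fs M i (i + 1) (kι fs M i n z) = 0
      rw [kD_ι, (bot_cocycle fs n i hi z).2 hn, map_zero]
    refine ⟨hcls (Kinf fs M) i (i + 1) rfl ⟨_, hz⟩, ?_⟩
    show botInf M fs i hi ((LinearEquiv.ofBijective _ (hbij M)).symm
      (hcls (Kinf fs M) i (i + 1) rfl ⟨_, hz⟩)).1 = _
    rw [show (LinearEquiv.ofBijective _ (hbij M)).symm (hcls (Kinf fs M) i (i + 1) rfl ⟨_, hz⟩) =
      ⟨_, hz⟩ from (LinearEquiv.ofBijective _ (hbij M)).symm_apply_apply _, botInf_ι]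
  · obtain ⟨y, rfl⟩ := (hbij M).2 x
    rw [hcls_map]
    show botInf N fs i hi ((LinearEquiv.ofBijective _ (hbij N)).symm (hcls _ i (i + 1) rfl _)).1 =
      g (botInf M fs i hi ((LinearEquiv.ofBijective _ (hbij M)).symm (hcls _ i (i + 1) rfl y)).1)
    rw [show ∀ z, (LinearEquiv.ofBijective _ (hbij N)).symm (hcls _ i (i + 1) rfl z) = z from
        (LinearEquiv.ofBijective _ (hbij N)).symm_apply_apply,
      show ∀ z, (LinearEquiv.ofBijective _ (hbij M)).symm (hcls _ i (i + 1) rfl z) = z from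
        (LinearEquiv.ofBijective _ (hbij M)).symm_apply_apply]
    exact botInf_map hi g y.1

end bottom

end Groth.KoszulCone
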