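import Groth.Agent.KoszulCone.Stable
import Mathlib.RingTheory.Filtration
import Mathlib.Algebra.Module.Injective
import Mathlib.RingTheory.Noetherian.Basic

/-!
Injective modules over Noetherian rings have no stable Koszul cohomology in positive degrees.
-/

set_option linter.unusedSectionVars false

universe u

open CategoryTheory CategoryTheory.Limits

namespace Groth.KoszulCone

variable {A : Type u} [CommRing A]

section algebra

variable [IsNoetherianRing A] {M : Type u} [AddCommGroup M] [Module A M]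

/-- dividing by `f ^ n` inside the torsion of an injective module -/
lemma exists_div_pow_torsion (hM : Module.Injective A M) (gs : List A) (f : A) (n : ℕ) (b : M)
    (hb : ∀ g ∈ gs, g ^ n • b = 0) :
    ∃ (k N : ℕ) (a : M), (∀ g ∈ gs, g ^ N • a = 0) ∧ f ^ (n + k) • a = f ^ k • b := by
  set I := Ideal.span {g : A | g ∈ gs}
  obtain ⟨n', hn'⟩ : ∃ n', I ^ n' ≤ LinearMap.ker (LinearMap.toSpanSingleton A M b) := by
    refine Ideal.exists_pow_le_of_le_radical_of_fg ?_ (IsNoetherian.noetherian _)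
    rw [Ideal.span_le]
    exact fun g hg => ⟨n, hb g hg⟩
  obtain ⟨k, hk⟩ : ∃ k, ∀ (l : ℕ) (r : A), k ≤ l → r * f ^ l = 0 → r * f ^ k = 0 := by
    let K : ℕ →o Submodule A A :=
      ⟨fun l => LinearMap.ker (LinearMap.toSpanSingleton A A (f ^ l)), fun l m h r hr => by
        simp only [LinearMap.mem_ker, LinearMap.toSpanSingleton_apply, smul_eq_mul] at hr ⊢
        rw [← Nat.sub_add_cancel h, pow_add, mul_left_comm, hr, mul_zero]⟩
    obtain ⟨k, hk⟩ := monotone_stabilizes_iff_noetherian.2 (inferInstance : IsNoetherian A A) K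
    refine ⟨k, fun l r hl hr => ?_⟩
    have : r ∈ K l := by simpa [K] using hr
    rw [← hk l hl] at this
    simpa [K] using this
  obtain ⟨c, hc⟩ := Ideal.exists_pow_inf_eq_pow_smul I (Submodule.span A {f ^ (n + k)} : Submodule A A)
  set N := n' + c
  set J := Ideal.span ((fun g => g ^ N) '' {g : A | g ∈ gs})
  have hJ : J ≤ I ^ N := by
    rw [Ideal.span_le]
    rintro _ ⟨g, hg, rfl⟩
    exact Ideal.pow_mem_pow (Ideal.subset_span hg) N
  let u : A →ₗ[A] A ⧸ J := LinearMap.toSpanSingleton A _ (Ideal.Quotient.mk J (f ^ (n + k)))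
  let v : A →ₗ[A] M := LinearMap.toSpanSingleton A _ (f ^ k • b)
  have huv : LinearMap.ker u ≤ LinearMap.ker v := by
    intro r hr
    have hr' : r * f ^ (n + k) ∈ J := by
      rw [← Ideal.Quotient.eq_zero_iff_mem]
      exact hr
    have hmem : r * f ^ (n + k) ∈ I ^ N • (⊤ : Submodule A A) ⊓ Submodule.span A {f ^ (n + k)} :=
      ⟨by rw [smul_eq_mul, Ideal.mul_top]; exact hJ hr', Submodule.mem_span_singleton.2 ⟨r, rfl⟩⟩
    rw [hc N (by omega), show N - c = n' by omega] at hmem
    have h2 : r * f ^ (n + k) ∈ I ^ n' * Ideal.span {f ^ (n + k)} :=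
      (Submodule.smul_mono le_rfl inf_le_right : _ ≤ I ^ n' • Submodule.span A {f ^ (n + k)}) hmem
    obtain ⟨t, ht, e⟩ := Ideal.mem_mul_span_singleton.1 h2
    have hz := hk (n + k) (r - t) (by omega) (by rw [sub_mul, e, sub_self])
    rw [sub_mul, sub_eq_zero] at hz
    rw [LinearMap.mem_ker]
    show r • f ^ k • b = 0
    rw [← mul_smul, hz, mul_comm, mul_smul, show t • b = 0 from hn' ht, smul_zero]
  obtain ⟨ψ, hψ⟩ := hM.out ((LinearMap.ker u).liftQ u le_rfl)
    (LinearMap.ker_eq_bot.1 (Submodule.ker_liftQ_eq_bot _ _ _ le_rfl))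
    ((LinearMap.ker u).liftQ v huv)
  refine ⟨k, N, ψ (Ideal.Quotient.mk J 1), fun g hg => ?_, ?_⟩
  · rw [← map_smul, show g ^ N • Ideal.Quotient.mk J 1 = 0 from ?_, map_zero]
    show Ideal.Quotient.mk J (g ^ N * 1) = 0
    rw [mul_one, Ideal.Quotient.eq_zero_iff_mem]
    exact Ideal.subset_span ⟨g, hg, rfl⟩
  · have h1 := hψ (Submodule.Quotient.mk 1)
    simp only [u, v, Submodule.liftQ_apply, LinearMap.toSpanSingleton_apply, one_smul] at h1
    rw [← map_smul, ← h1]
    congr 1
    show Ideal.Quotient.mk J (f ^ (n + k) * 1) = _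
    rw [mul_one]

end algebra

variable {M : ModuleCat.{u} A}

lemma kfst_d (f : A) (fs : List A) (n : ℕ) (i j : ℤ) (hij : i + 1 = j) (x) :
    kfst (M := M) f fs n j ((CohIII.koszulCx M ((f :: fs).map (· ^ n))).d i j x) =
      - (CohIII.koszulCx M (fs.map (· ^ n))).d (i + 1) (j + 1) (kfst f fs n i x) := by
  subst hij
  exact cfst_d (kφ f fs n) i (i + 1) (i + 1 + 1) rfl rfl x

lemma ksnd_d (f : A) (fs : List A) (n : ℕ) (i : ℤ) (x) :
    ksnd (M := M) f fs n (i + 1) ((CohIII.koszulCx M ((f :: fs).map (· ^ n))).d i (i + 1) x) =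
      f ^ n • kfst f fs n i x +
        (CohIII.koszulCx M (fs.map (· ^ n))).d i (i + 1) (ksnd f fs n i x) :=
  csnd_d (kφ f fs n) i (i + 1) rfl x

lemma subsingleton_kX : ∀ (fs : List A) (n : ℕ) (i : ℤ), (0 < i ∨ i + fs.length < 0) →
    Subsingleton ((CohIII.koszulCx M (fs.map (· ^ n))).X i)
  | [], n, i, hi => ModuleCat.subsingleton_of_isZero
      (HomologicalComplex.isZero_single_obj_X _ _ _ _ (by simp at hi; omega))
  | f :: fs, n, i, hi => by
      have := subsingleton_kX fs n (i + 1) (by simp at hi; omega)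
      have := subsingleton_kX fs n i (by simp at hi; omega)
      exact ⟨fun x y => kext (Subsingleton.elim _ _) (Subsingleton.elim _ _)⟩

/-- the bottom degree of the Koszul complex is the module -/
lemma exists_bot : ∀ (fs : List A) (i : ℤ), i + fs.length = 0 →
    ∃ β : ∀ n : ℕ, (CohIII.koszulCx M (fs.map (· ^ n))).X i →ₗ[A] M,
      (∀ n, Function.Bijective (β n)) ∧
      (∀ n m (h : n ≤ m) (x), β m ((CohIII.koszulTrans M n m h fs).f i x) = β n x) ∧
      ∀ n x, (CohIII.koszulCx M (fs.map (· ^ n))).d i (i + 1) x = 0 ↔ ∀ g ∈ fs, g ^ n • β n x = 0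
  | [], i, hi => by
      obtain rfl : i = 0 := by simpa using hi
      refine ⟨fun n => (HomologicalComplex.singleObjXSelf (ComplexShape.up ℤ) 0 M).hom.hom,
        fun n => ConcreteCategory.bijective_of_isIso _, fun n m h x => rfl, fun n x => ?_⟩
      have := subsingleton_kX (M := M) [] n ((0 : ℤ) + 1) (Or.inl (by omega))
      simp only [List.not_mem_nil, IsEmpty.forall_iff, implies_true, iff_true]
      exact Subsingleton.elim _ _
  | f :: fs, i, hi => by
      have hi' : i + 1 + fs.length = 0 := by simp at hi; omega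
      obtain ⟨β, hb, ht, hd⟩ := exists_bot fs (i + 1) hi'
      refine ⟨fun n => β n ∘ₗ kfst f fs n i, fun n => (hb n).comp ⟨fun x y h => kext h ?_, fun a => ?_⟩,
        fun n m h x => ?_, fun n x => ?_⟩
      · exact @Subsingleton.elim _ (subsingleton_kX fs n i (Or.inr (by omega))) _ _
      · exact ⟨kmk f fs n i a 0, kfst_kmk _ _ _ _ _ _⟩
      · show β m (kfst f fs m i _) = _
        rw [kfst_trans, ht]
        rfl
      · have hs : ksnd f fs n i x = 0 :=
          @Subsingleton.elim _ (subsingleton_kX fs n i (Or.inr (by omega))) _ _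
        have h2 := ksnd_d f fs n i x
        rw [hs, map_zero, add_zero] at h2
        simp only [List.forall_mem_cons, LinearMap.comp_apply]
        constructor
        · intro h
          refine ⟨?_, (hd n _).1 ?_⟩
          · rw [h, map_zero] at h2
            rw [← map_smul, ← h2, map_zero]
          · have h1 := kfst_d f fs n i (i + 1) rfl x
            rw [h, map_zero] at h1
            exact neg_eq_zero.1 h1.symm
        · rintro ⟨h3, h4⟩
          refine kext ?_ ?_
          · rw [kfst_d f fs n i (i + 1) rfl, (hd n _).2 h4, neg_zero, map_zero]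
          · rw [h2, map_zero]
            exact (hb n).1 (by rw [map_smul, h3, map_zero])

variable [IsNoetherianRing A]

/-- positive degree cocycles become boundaries -/
theorem exists_trans_eq_d (hM : Module.Injective A M) : ∀ (fs : List A) (n : ℕ) (i : ℤ),
    0 < i + 1 + fs.length → ∀ x, (CohIII.koszulCx M (fs.map (· ^ n))).d (i + 1) (i + 1 + 1) x = 0 →
    ∃ m, ∃ h : n ≤ m, ∃ w, (CohIII.koszulTrans M n m h fs).f (i + 1) x =
      (CohIII.koszulCx M (fs.map (· ^ m))).d i (i + 1) w
  | [], n, i, hj, x, hx => by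
      refine ⟨n, le_rfl, 0, @Subsingleton.elim _ (subsingleton_kX [] n (i + 1) (Or.inl ?_)) _ _⟩
      simpa using hj
  | f :: fs, n, i, hj, x, hx => by
      have hlen : 0 < i + 1 + 1 + fs.length := by simp at hj; omega
      obtain ⟨m₁, h₁, p, hp⟩ := exists_trans_eq_d hM fs n (i + 1) hlen (kfst f fs n (i + 1) x) (by
        have h := kfst_d f fs n (i + 1) (i + 1 + 1) rfl x
        rw [hx, map_zero] at h
        exact neg_eq_zero.1 h.symm)
      set y := (CohIII.koszulTrans M n m₁ h₁ (f :: fs)).f (i + 1) x +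
        (CohIII.koszulCx M ((f :: fs).map (· ^ m₁))).d i (i + 1) (kmk f fs m₁ i p 0) with hy
      have hyf : kfst f fs m₁ (i + 1) y = 0 := by
        rw [hy, map_add, kfst_trans, hp, kfst_d f fs m₁ i (i + 1) rfl, kfst_kmk, add_neg_cancel]
      have hdy : (CohIII.koszulCx M ((f :: fs).map (· ^ m₁))).d (i + 1) (i + 1 + 1) y = 0 := by
        rw [hy, map_add, ← hom_d, hx, map_zero, zero_add]
        exact d_d _ _ _ _
      set b := ksnd f fs m₁ (i + 1) y
      have hdb : (CohIII.koszulCx M (fs.map (· ^ m₁))).d (i + 1) (i + 1 + 1) b = 0 := by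
        have h := ksnd_d f fs m₁ (i + 1) y
        rw [hdy, map_zero, hyf, smul_zero, zero_add] at h
        exact h.symm
      suffices h : ∃ m, ∃ h : m₁ ≤ m, ∃ w, (CohIII.koszulTrans M m₁ m h (f :: fs)).f (i + 1) y =
          (CohIII.koszulCx M ((f :: fs).map (· ^ m))).d i (i + 1) w by
        obtain ⟨m, hm, w, hw⟩ := h
        refine ⟨m, h₁.trans hm, w - (CohIII.koszulTrans M m₁ m hm (f :: fs)).f i (kmk f fs m₁ i p 0), ?_⟩
        rw [hy, map_add, trans_trans, hom_d] at hw
        rw [map_sub, ← hw, add_sub_cancel_right]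
      rcases lt_or_ge 0 (i + 1 + fs.length) with hpos | hneg
      · obtain ⟨m, hm, w, hw⟩ := exists_trans_eq_d hM fs m₁ i hpos b hdb
        refine ⟨m, hm, kmk f fs m i 0 (f ^ (m - m₁) • w), kext ?_ ?_⟩
        · rw [kfst_trans, hyf, map_zero, kfst_d f fs m i (i + 1) rfl, kfst_kmk, map_zero, neg_zero]
        · rw [ksnd_trans, ksnd_d, kfst_kmk, ksnd_kmk, smul_zero, zero_add, map_smul, hw]
      · obtain ⟨β, hb, ht, hd⟩ := exists_bot (M := M) fs (i + 1) (by omega)
        obtain ⟨k, N, a, ha, hfa⟩ := exists_div_pow_torsion hM fs f m₁ (β m₁ b) ((hd m₁ b).1 hdb)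
        obtain ⟨m, hm', hN⟩ : ∃ m, m₁ + k ≤ m ∧ N ≤ m :=
          ⟨max (m₁ + k) N, le_max_left _ _, le_max_right _ _⟩
        obtain ⟨c, hc⟩ := (hb m).2 a
        refine ⟨m, (Nat.le_add_right _ _).trans hm', kmk f fs m i c 0, kext ?_ ?_⟩
        · rw [kfst_trans, hyf, map_zero, kfst_d f fs m i (i + 1) rfl, kfst_kmk,
            (hd m c).2 fun g hg => ?_, neg_zero]
          rw [hc, ← Nat.sub_add_cancel hN, pow_add, mul_smul, ha g hg, smul_zero]
        · rw [ksnd_trans, ksnd_d, kfst_kmk, ksnd_kmk, map_zero, add_zero]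
          refine (hb m).1 ?_
          rw [map_smul, map_smul, ht, hc]
          rw [show m - m₁ = (m - (m₁ + k)) + k by omega, pow_add, mul_smul, ← hfa, ← mul_smul,
            ← pow_add, Nat.sub_add_cancel hm']

/-- vanishing for injective modules -/
theorem subsingleton_koszulHLim_of_injective (hM : Module.Injective A M) (fs : List A) (p : ℕ)
    (hp : 0 < p) : Subsingleton (CohIII.koszulHLim fs M p) := by
  refine subsingleton_of_forall_eq 0 fun e => ?_
  obtain ⟨i, hi⟩ : ∃ i : ℤ, (p : ℤ) - fs.length = i + 1 := ⟨(p : ℤ) - fs.length - 1, by ring⟩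
  change Module.DirectLimit (fun n : ℕ => ((CohIII.koszulCx M (fs.map (· ^ n))).homology
    ((p : ℤ) - fs.length) : Type u))
    (fun n m h => (HomologicalComplex.homologyMap (CohIII.koszulTrans M n m h fs) _).hom) at e
  show e = 0
  revert e
  rw [hi]
  intro e
  obtain ⟨n, z, rfl⟩ := Module.DirectLimit.exists_of e
  obtain ⟨⟨x, hx⟩, rfl⟩ := hcls_surjective (i + 1) (i + 1 + 1) rfl z
  obtain ⟨m, hm, w, hw⟩ := exists_trans_eq_d hM fs n i (by omega) x hx
  rw [← Module.DirectLimit.of_f (hij := hm)]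
  show Module.DirectLimit.of A ℕ (fun n : ℕ => ((CohIII.koszulCx M (fs.map (· ^ n))).homology
    (i + 1) : Type u))
    (fun n m h => (HomologicalComplex.homologyMap (CohIII.koszulTrans M n m h fs) (i + 1)).hom) m
    (HomologicalComplex.homologyMap (CohIII.koszulTrans M n m hm fs) (i + 1)
      (hcls _ (i + 1) (i + 1 + 1) rfl ⟨x, hx⟩)) = 0
  rw [hcls_map, (hcls_eq_zero_iff i (i + 1) (i + 1 + 1) rfl rfl _).2 ⟨w, hw.symm⟩, map_zero]

end Groth.KoszulCone
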