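import Groth.Agent.KoszulCone.CechLink
import Groth.Agent.QCohMod.QCQS
import Groth.Agent.CohBase.Modules
import Groth.Agent.CohBase.AffineVanishing
import Groth.Prelude.Def_CohB1
import Groth.Prelude.Def_ega3
import Mathlib.AlgebraicGeometry.Morphisms.Separated

/-!
Koszul cohomology of the global sections of a quasi-coherent module and Čech cohomology.
-/

set_option linter.unusedSectionVars false

universe u

open CategoryTheory CategoryTheory.Limits AlgebraicGeometry TopologicalSpace Opposite

namespace Groth.KoszulCone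

variable {X : Scheme.{u}} (F : X.Modules)

/-- the sections as modules over the global functions -/
noncomputable def modP : (Opens X.toTopCat)ᵒᵖ ⥤ ModuleCat.{u} Γ(X, ⊤) where
  obj U := (ModuleCat.restrictScalars (Coh.resTop X U)).obj (F.val.obj U)
  map {U V} h := ModuleCat.ofHom
    (X := (ModuleCat.restrictScalars (Coh.resTop X U)).obj (F.val.obj U))
    (Y := (ModuleCat.restrictScalars (Coh.resTop X V)).obj (F.val.obj V))
    { toFun := fun x => F.val.map h x
      map_add' := fun x y => map_add _ _ _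
      map_smul' := fun r x => by
        change F.val.map h (Coh.resTop X U r • x) = Coh.resTop X V r • F.val.map h x
        rw [← Coh.resTop_comp U V h r]
        exact F.val.map_smul h (Coh.resTop X U r) x }
  map_id U := by
    ext x
    exact ConcreteCategory.congr_hom (F.presheaf.map_id U) x
  map_comp {U V W} g h := by
    ext x
    exact ConcreteCategory.congr_hom (F.presheaf.map_comp g h) x

/-- the identification at the top -/
noncomputable def modθ :
    ModuleCat.of Γ(X, ⊤) (F.val.obj (op ⊤)) ⟶ (modP F).obj (op ⊤) :=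
  ModuleCat.ofHom (R := Coh.Γtop X) (X := F.val.obj (op ⊤))
    (Y := (ModuleCat.restrictScalars (Coh.resTop X (op ⊤))).obj (F.val.obj (op ⊤)))
    { toFun := fun x => x
      map_add' := fun _ _ => rfl
      map_smul' := fun r x => by
        change r • x = Coh.resTop X (op ⊤) r • x
        rw [show Coh.resTop X (op ⊤) r = r from
          congrArg (fun k => k.hom r) (X.ringCatSheaf.obj.map_id (op ⊤))] }

lemma modθ_bijective : Function.Bijective (modθ F) :=
  ⟨fun _ _ h => h, fun y => ⟨y, rfl⟩⟩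

lemma abP_modP : abP (modP F) = F.presheaf := rfl

lemma isCompact_inf_basicOpen {W : X.Opens} (hW : IsCompact (W : Set X)) (f : Γ(X, ⊤)) :
    IsCompact ((W ⊓ X.basicOpen f : X.Opens) : Set X) := by
  refine compact_open_induction_on (P := fun W => IsCompact ((W ⊓ X.basicOpen f : X.Opens) : Set X))
    W hW (by simp) fun S _ U hS => ?_
  rw [inf_sup_right, Opens.coe_sup, ← QCohMod.basicOpen_resFun (le_top : U.1 ≤ ⊤) f]
  exact hS.union (U.2.basicOpen _).isCompact

variable [CompactSpace X] [QuasiSeparatedSpace X] [F.IsQuasicoherent]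

/-- sections of a quasi-coherent module localise -/
noncomputable def locData : LocData (modP F) (fun f : Γ(X, ⊤) => X.basicOpen f) where
  inv f V hV := by
    have hu : IsUnit (QCohMod.resFun X (le_top : V ≤ ⊤) f) := by
      have h := (X.toLocallyRingedSpace.toRingedSpace.isUnit_res_basicOpen f).map
        (QCohMod.resFun X hV)
      erw [QCohMod.resFun_resFun] at h
      exact h
    obtain ⟨w, hw⟩ := hu
    show Function.Bijective (fun x : Γ(F, V) => QCohMod.resFun X (le_top : V ≤ ⊤) f • x)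
    rw [← hw]
    exact (MulAction.toPerm w).bijective
  good := fun W : X.Opens => IsCompact (W : Set X)
  good_top := isCompact_univ
  good_inf W f hW := isCompact_inf_basicOpen hW f
  zero W hW f x hx := by
    obtain ⟨n, hn⟩ := QCohMod.exists_pow_smul_eq_zero_of_isCompact F hW
      (QCohMod.resFun X (le_top : W ≤ ⊤) f) x (by
        have hle : X.basicOpen (QCohMod.resFun X (le_top : W ≤ ⊤) f) ≤ W ⊓ X.basicOpen f := by
          rw [QCohMod.basicOpen_resFun]
        have e := congrArg (QCohMod.res F hle) (show QCohMod.res F inf_le_left x = 0 from hx)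
        erw [QCohMod.res_res, map_zero] at e
        exact e)
    refine ⟨n, ?_⟩
    show QCohMod.resFun X (le_top : W ≤ ⊤) (f ^ n) • (show Γ(F, W) from x) = 0
    rw [map_pow]; exact hn
  extend W hW f s := by
    have hle : X.basicOpen (QCohMod.resFun X (le_top : W ≤ ⊤) f) ≤ W ⊓ X.basicOpen f := by
      rw [QCohMod.basicOpen_resFun]
    have hge : W ⊓ X.basicOpen f ≤ X.basicOpen (QCohMod.resFun X (le_top : W ≤ ⊤) f) := by
      rw [QCohMod.basicOpen_resFun]
    obtain ⟨n, t, ht⟩ := QCohMod.exists_pow_smul_eq_res_of_qcqs F hW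
      (isQuasiSeparated_univ.of_subset (Set.subset_univ _))
      (QCohMod.resFun X (le_top : W ≤ ⊤) f) (QCohMod.res F hle s)
    refine ⟨n, t, ?_⟩
    show QCohMod.res F (inf_le_left : W ⊓ X.basicOpen f ≤ W) t =
      QCohMod.resFun X (le_top : W ⊓ X.basicOpen f ≤ ⊤) (f ^ n) •
        (show Γ(F, W ⊓ X.basicOpen f) from s)
    have e := congrArg (QCohMod.res F hge) ht
    erw [QCohMod.res_res, QCohMod.res_smul, QCohMod.res_res, QCohMod.res_self] at e
    erw [e, map_pow, map_pow, QCohMod.resFun_resFun, QCohMod.resFun_resFun]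

/-- the colimit of Koszul cohomology as augmented Čech cohomology -/
theorem nonempty_koszulHLim_equiv_scheme (fs : List Γ(X, ⊤)) (p : ℕ) :
    Nonempty (CohIII.koszulHLim fs (ModuleCat.of Γ(X, ⊤) (F.val.obj (op ⊤))) p ≃ₗ[Γ(X, ⊤)]
      (aug (modP F) (fun f => X.basicOpen f) fs ⊤).homology ((p : ℤ) - fs.length)) :=
  nonempty_koszulHLim_equiv_aug (modP F) _ (locData F) (modθ F) (modθ_bijective F) fs p

/-- Čech cohomology of basic opens -/
theorem nonempty_cechH_equiv_koszulHLim (fs : List Γ(X, ⊤)) (p : ℕ) (hp : 1 ≤ p) :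
    Nonempty (↑(CohB1.cechH (fun i : ULift.{u} (Fin fs.length) => X.basicOpen (fs.get i.down)) F p)
      ≃+ CohIII.koszulHLim fs (ModuleCat.of Γ(X, ⊤) (F.val.obj (op ⊤))) (p + 1)) := by
  obtain ⟨q, rfl⟩ : ∃ q, p = q + 1 := ⟨p - 1, by omega⟩
  obtain ⟨e⟩ := nonempty_koszulHLim_equiv_scheme F fs (q + 1 + 1)
  obtain ⟨e'⟩ := nonempty_cech_equiv_aug (P := modP F) (D := fun f => X.basicOpen f) (fs := fs) q
  exact ⟨e'.trans e.toAddEquiv.symm⟩

/-- kernel and cokernel of restriction to a union of basic opens -/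
theorem nonempty_ker_coker_equiv_koszulHLim (fs : List Γ(X, ⊤)) (W : X.Opens)
    (hW : W = ⨆ i : Fin fs.length, X.basicOpen (fs.get i)) :
    Nonempty (((Coh.toAb F).obj.map (homOfLE (le_top : W ≤ ⊤)).op).hom.ker ≃+
        CohIII.koszulHLim fs (ModuleCat.of Γ(X, ⊤) (F.val.obj (op ⊤))) 0) ∧
    Nonempty (↑((Coh.toAb F).obj.obj (op W)) ⧸
        ((Coh.toAb F).obj.map (homOfLE (le_top : W ≤ ⊤)).op).hom.range ≃+
        CohIII.koszulHLim fs (ModuleCat.of Γ(X, ⊤) (F.val.obj (op ⊤))) 1) := by
  obtain ⟨e0⟩ := nonempty_koszulHLim_equiv_scheme F fs 0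
  obtain ⟨e1⟩ := nonempty_koszulHLim_equiv_scheme F fs 1
  have hle : ∀ i, famOf (fun f => X.basicOpen f) fs i ≤ W := fun i => by
    rw [hW]; exact le_iSup (fun i : Fin fs.length => X.basicOpen (fs.get i)) i.down
  have hcov : W ≤ ⨆ i, famOf (fun f => X.basicOpen f) fs i := by
    rw [hW]
    exact iSup_le fun i => le_iSup (famOf (fun f => X.basicOpen f) fs) ⟨i⟩
  obtain ⟨⟨a⟩, ⟨b⟩⟩ := nonempty_ker_coker_equiv_aug (P := modP F) (D := fun f => X.basicOpen f)
    (fs := fs) (Coh.toAb F) W rfl hle hcov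
  exact ⟨⟨a.trans e0.toAddEquiv.symm⟩, ⟨b.trans e1.toAddEquiv.symm⟩⟩

/-- cohomology of a union of affine basic opens -/
theorem nonempty_HHon_equiv_koszulHLim [X.IsSeparated] (fs : List Γ(X, ⊤))
    (haff : ∀ i : Fin fs.length, IsAffineOpen (X.basicOpen (fs.get i))) (q : ℕ) (hq : 1 ≤ q) :
    Nonempty (Coh.HHon X F (⨆ i : Fin fs.length, X.basicOpen (fs.get i)) q ≃+
      CohIII.koszulHLim fs (ModuleCat.of Γ(X, ⊤) (F.val.obj (op ⊤))) (q + 1)) := by
  let U : ULift.{u} (Fin fs.length) → X.Opens := fun i => X.basicOpen (fs.get i.down)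
  let W : X.Opens := ⨆ i : Fin fs.length, X.basicOpen (fs.get i)
  have hU : ∀ (n : ℕ) (x : Fin (n + 1) → ULift.{u} (Fin fs.length)),
      IsAffineOpen (CohBase.inter (X := X.toTopCat) U x) := by
    intro n
    induction n with
    | zero => intro x; rw [CohBase.inter_one]; exact haff _
    | succ n ih =>
      intro x
      rw [← Fin.cons_self_tail x, CohBase.inter_cons]
      exact (haff _).inf (ih _)
  obtain ⟨e⟩ := CohBase.nonempty_cech_equiv_H' (X := X.toTopCat) U W
    (fun i => le_iSup (fun i : Fin fs.length => X.basicOpen (fs.get i)) i.down)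
    (iSup_le fun i => le_iSup U ⟨i⟩) q (CohBase.abSheaf F)
    fun n x k => CohBase.hVanish_of_isAffineOpen F (hU n x) k
  obtain ⟨e'⟩ := CohBase.nonempty_equiv_HHon F W q
  obtain ⟨e''⟩ := nonempty_cechH_equiv_koszulHLim F fs q hq
  exact ⟨e'.trans (e.symm.trans e'')⟩

end Groth.KoszulCone
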