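import Groth.Agent.KoszulCone.ConeElem

/-!
The stable Koszul complex of a presheaf of modules, as the colimit of the Koszul complexes.
-/

set_option linter.unusedSectionVars false

universe u

open CategoryTheory CategoryTheory.Limits CochainComplex TopologicalSpace Opposite

namespace Groth.KoszulCone

variable {A : Type u} [CommRing A]

section classes

variable {K L : CochainComplex (ModuleCat.{u} A) ℤ}

/-- the cohomology class of a cocycle -/
noncomputable def hcls (K : CochainComplex (ModuleCat.{u} A) ℤ) (j k : ℤ) (hjk : j + 1 = k) :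
    LinearMap.ker (K.d j k).hom →ₗ[A] K.homology j :=
  (K.liftCycles (ModuleCat.ofHom (LinearMap.ker (K.d j k).hom).subtype) k
      ((ComplexShape.up ℤ).next_eq' hjk)
      (ModuleCat.hom_ext (LinearMap.ext fun x => x.2)) ≫ K.homologyπ j).hom

lemma hcls_cycle (j k : ℤ) (hjk : j + 1 = k) (z : K.cycles j) :
    ∃ h : K.iCycles j z ∈ LinearMap.ker (K.d j k).hom,
      hcls K j k hjk ⟨K.iCycles j z, h⟩ = K.homologyπ j z := by
  refine ⟨LinearMap.congr_fun (congrArg ModuleCat.Hom.hom (K.iCycles_d j k)) z, ?_⟩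
  show K.homologyπ j (K.liftCycles _ k _ _ _) = _
  congr 1
  apply (ModuleCat.mono_iff_injective (K.iCycles j)).1 inferInstance
  rw [← ConcreteCategory.comp_apply, HomologicalComplex.liftCycles_i]
  rfl

lemma hcls_surjective (j k : ℤ) (hjk : j + 1 = k) : Function.Surjective (hcls K j k hjk) := by
  intro y
  obtain ⟨z, rfl⟩ := (ModuleCat.epi_iff_surjective (K.homologyπ j)).1 inferInstance y
  obtain ⟨h, hz⟩ := hcls_cycle (K := K) j k hjk z
  exact ⟨_, hz⟩

lemma hcls_eq_zero_iff (i j k : ℤ) (hij : i + 1 = j) (hjk : j + 1 = k)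
    (x : LinearMap.ker (K.d j k).hom) : hcls K j k hjk x = 0 ↔ ∃ w, K.d i j w = x.1 := by
  have hp : (ComplexShape.up ℤ).prev j = i := (ComplexShape.up ℤ).prev_eq' hij
  have hex : (ShortComplex.mk _ _ (K.toCycles_comp_homologyπ i j)).Exact :=
    ShortComplex.exact_of_g_is_cokernel _ (K.homologyIsCokernel i j hp)
  have hmono := (ModuleCat.mono_iff_injective (K.iCycles j)).1 inferInstance
  let l : ModuleCat.of A (LinearMap.ker (K.d j k).hom) ⟶ K.cycles j :=
    K.liftCycles (ModuleCat.ofHom (LinearMap.ker (K.d j k).hom).subtype) k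
      ((ComplexShape.up ℤ).next_eq' hjk) (ModuleCat.hom_ext (LinearMap.ext fun x => x.2))
  let z : K.cycles j := l.hom x
  have hz : K.iCycles j z = x.1 := by
    show (l ≫ K.iCycles j).hom x = _
    simp only [l, HomologicalComplex.liftCycles_i]
    rfl
  refine ((ShortComplex.ShortExact.moduleCat_exact_iff_function_exact _).1 hex z).trans ?_
  constructor
  · rintro ⟨w, hw⟩
    refine ⟨w, ?_⟩
    rw [← hz, ← hw]
    exact (LinearMap.congr_fun (congrArg ModuleCat.Hom.hom (K.toCycles_i i j)) w).symm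
  · rintro ⟨w, hw⟩
    exact ⟨w, hmono ((LinearMap.congr_fun (congrArg ModuleCat.Hom.hom (K.toCycles_i i j)) w).trans
      (hw.trans hz.symm))⟩

lemma hcls_spec (j k : ℤ) (hjk : j + 1 = k) (x : LinearMap.ker (K.d j k).hom) :
    ∃ z : K.cycles j, K.iCycles j z = x.1 ∧ hcls K j k hjk x = K.homologyπ j z := by
  let l : ModuleCat.of A (LinearMap.ker (K.d j k).hom) ⟶ K.cycles j :=
    K.liftCycles (ModuleCat.ofHom (LinearMap.ker (K.d j k).hom).subtype) k
      ((ComplexShape.up ℤ).next_eq' hjk) (ModuleCat.hom_ext (LinearMap.ext fun x => x.2))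
  refine ⟨l.hom x, ?_, rfl⟩
  show (l ≫ K.iCycles j).hom x = _
  simp only [l, HomologicalComplex.liftCycles_i]
  rfl

lemma hcls_map (g : K ⟶ L) (j k : ℤ) (hjk : j + 1 = k) (x : LinearMap.ker (K.d j k).hom) :
    HomologicalComplex.homologyMap g j (hcls K j k hjk x) =
      hcls L j k hjk ⟨g.f j x.1, show L.d j k (g.f j x.1) = 0 by
        rw [← hom_d, show K.d j k x.1 = 0 from x.2, map_zero]⟩ := by
  obtain ⟨z, hz, hx⟩ := hcls_spec j k hjk x
  obtain ⟨w, hw, hgx⟩ := hcls_spec (K := L) j k hjk ⟨g.f j x.1, show L.d j k (g.f j x.1) = 0 by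
        rw [← hom_d, show K.d j k x.1 = 0 from x.2, map_zero]⟩
  rw [hx, hgx, ← ConcreteCategory.comp_apply (K.homologyπ j),
    HomologicalComplex.homologyπ_naturality, ConcreteCategory.comp_apply]
  congr 1
  apply (ModuleCat.mono_iff_injective (L.iCycles j)).1 inferInstance
  rw [hw, ← ConcreteCategory.comp_apply, HomologicalComplex.cyclesMap_i,
    ConcreteCategory.comp_apply, hz]

/-- cohomology commutes with a degreewise colimit along `ℕ` -/
lemma nonempty_directLimit_homology_equiv (K : ℕ → CochainComplex (ModuleCat.{u} A) ℤ)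
    (t : ∀ n m, n ≤ m → (K n ⟶ K m)) (S : CochainComplex (ModuleCat.{u} A) ℤ)
    (ψ : ∀ n, K n ⟶ S) (hψ : ∀ n m (h : n ≤ m) j x, (ψ m).f j ((t n m h).f j x) = (ψ n).f j x)
    (ht : ∀ n m l (h : n ≤ m) (h' : m ≤ l) j x,
      (t m l h').f j ((t n m h).f j x) = (t n l (h.trans h')).f j x)
    (hsurj : ∀ j (y : S.X j), ∃ n x, (ψ n).f j x = y)
    (hinj : ∀ j n (x : (K n).X j), (ψ n).f j x = 0 → ∃ m, ∃ h : n ≤ m, (t n m h).f j x = 0)
    (j : ℤ) :
    Nonempty (Module.DirectLimit (fun n => ((K n).homology j : Type u))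
      (fun n m h => (HomologicalComplex.homologyMap (t n m h) j).hom) ≃ₗ[A] S.homology j) := by
  let Φ := Module.DirectLimit.lift A ℕ (fun n => ((K n).homology j : Type u))
    (fun n m h => (HomologicalComplex.homologyMap (t n m h) j).hom)
    (fun n => (HomologicalComplex.homologyMap (ψ n) j).hom) (fun n m h x => by
      obtain ⟨x, rfl⟩ := hcls_surjective j (j + 1) rfl x
      show HomologicalComplex.homologyMap (ψ m) j (HomologicalComplex.homologyMap (t n m h) j _) =
        HomologicalComplex.homologyMap (ψ n) j _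
      rw [hcls_map, hcls_map, hcls_map]
      congr 2
      exact hψ n m h j x.1)
  refine ⟨LinearEquiv.ofBijective Φ ⟨?_, ?_⟩⟩
  · rw [injective_iff_map_eq_zero]
    intro e he
    obtain ⟨n, x, rfl⟩ := Module.DirectLimit.exists_of e
    rw [Module.DirectLimit.lift_of] at he
    obtain ⟨⟨x, hx⟩, rfl⟩ := hcls_surjective j (j + 1) rfl x
    replace he : HomologicalComplex.homologyMap (ψ n) j (hcls (K n) j (j + 1) rfl ⟨x, hx⟩) = 0 := he
    rw [hcls_map, hcls_eq_zero_iff (j - 1) j (j + 1) (by omega) rfl] at he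
    obtain ⟨w, hw⟩ := he
    obtain ⟨n', w', hw'⟩ := hsurj (j - 1) w
    let m := max n n'
    obtain ⟨l, hl, hzero⟩ := hinj j m
      ((t n m (le_max_left _ _)).f j x -
        (K m).d (j - 1) j ((t n' m (le_max_right _ _)).f (j - 1) w')) (by
      rw [map_sub, hom_d, hψ, hψ, hw', hw, sub_self])
    rw [← Module.DirectLimit.of_f (hij := (le_max_left n n').trans hl)]
    show Module.DirectLimit.of A ℕ (fun n => ((K n).homology j : Type u))
      (fun n m h => (HomologicalComplex.homologyMap (t n m h) j).hom) l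
      (HomologicalComplex.homologyMap (t n l _) j (hcls (K n) j (j + 1) rfl ⟨x, hx⟩)) = 0
    rw [hcls_map, (hcls_eq_zero_iff (j - 1) j (j + 1) (by omega) rfl _).2
      ⟨(t n' l ((le_max_right _ _).trans hl)).f (j - 1) w', ?_⟩, map_zero]
    rw [map_sub, hom_d, ht, ht, sub_eq_zero] at hzero
    exact hzero.symm
  · intro y
    obtain ⟨⟨y, hy⟩, rfl⟩ := hcls_surjective j (j + 1) rfl y
    obtain ⟨n, x, rfl⟩ := hsurj j y
    obtain ⟨m, hm, hzero⟩ := hinj (j + 1) n ((K n).d j (j + 1) x) (by rw [hom_d]; exact hy)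
    have hx : (K m).d j (j + 1) ((t n m hm).f j x) = 0 := by rw [← hom_d]; exact hzero
    refine ⟨Module.DirectLimit.of A ℕ _ _ m (hcls (K m) j (j + 1) rfl ⟨_, hx⟩), ?_⟩
    rw [Module.DirectLimit.lift_of]
    show HomologicalComplex.homologyMap (ψ m) j _ = _
    rw [hcls_map]
    congr 2
    exact hψ n m hm j x

end classes

section stable

variable {T : TopCat.{u}}

/-- cone of a restriction, functorially -/
noncomputable def coneFun (F : (Opens T)ᵒᵖ ⥤ CochainComplex (ModuleCat.{u} A) ℤ) (U : Opens T) :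
    (Opens T)ᵒᵖ ⥤ CochainComplex (ModuleCat.{u} A) ℤ where
  obj V := mappingCone (F.map (homOfLE (inf_le_left : V.unop ⊓ U ≤ V.unop)).op)
  map {V W} g := mappingCone.map _ _ (F.map g)
    (F.map (homOfLE (inf_le_inf_right U g.unop.le : W.unop ⊓ U ≤ V.unop ⊓ U)).op)
    (by rw [← F.map_comp, ← F.map_comp]; congr 1)
  map_id V := by
    ext i x
    refine cone_ext _ (rfl : i + 1 = i + 1) ?_ ?_
    · rw [cfst_map, F.map_id]; rfl
    · rw [csnd_map]
      rw [show (homOfLE (inf_le_inf_right U (𝟙 V : V ⟶ V).unop.le)).op = 𝟙 _ from rfl, F.map_id]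
      rfl
  map_comp {V W Z} g h := by
    ext i x
    rw [HomologicalComplex.comp_f, ConcreteCategory.comp_apply]
    refine cone_ext _ (rfl : i + 1 = i + 1) ?_ ?_
    · rw [cfst_map, cfst_map, cfst_map, F.map_comp]; rfl
    · rw [csnd_map, csnd_map, csnd_map, ← ConcreteCategory.comp_apply, ← HomologicalComplex.comp_f,
        ← F.map_comp]
      rfl

variable (P : (Opens T)ᵒᵖ ⥤ ModuleCat.{u} A) (D : A → Opens T)

/-- the stable Koszul complex, functorial in the open -/
noncomputable def stab : List A → ((Opens T)ᵒᵖ ⥤ CochainComplex (ModuleCat.{u} A) ℤ)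
  | [] => P ⋙ HomologicalComplex.single (ModuleCat.{u} A) (ComplexShape.up ℤ) 0
  | f :: fs => coneFun (stab fs) (D f)

/-- restriction of sections -/
noncomputable def sres (fs : List A) {V W : Opens T} (h : V ≤ W) (i : ℤ) :
    ((stab P D fs).obj (op W)).X i →ₗ[A] ((stab P D fs).obj (op V)).X i :=
  (((stab P D fs).map (homOfLE h).op).f i).hom

lemma sres_sres (fs : List A) {V W Z : Opens T} (h : V ≤ W) (h' : W ≤ Z) (i : ℤ) (x) :
    sres P D fs h i (sres P D fs h' i x) = sres P D fs (h.trans h') i x :=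
  (LinearMap.congr_fun (congrArg ModuleCat.Hom.hom (congrArg (fun k => HomologicalComplex.Hom.f k i)
    ((stab P D fs).map_comp (homOfLE h').op (homOfLE h).op))) x).symm

/-- sections localise along the `D f` -/
structure LocData : Type (u + 1) where
  inv : ∀ (f : A) (V : Opens T), V ≤ D f → Function.Bijective (fun x : P.obj (op V) => f • x)
  good : Opens T → Prop
  good_top : good ⊤
  good_inf : ∀ W f, good W → good (W ⊓ D f)
  zero : ∀ W, good W → ∀ (f : A) (x : P.obj (op W)),
    P.map (homOfLE (inf_le_left : W ⊓ D f ≤ W)).op x = 0 → ∃ k : ℕ, f ^ k • x = 0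
  extend : ∀ W, good W → ∀ (f : A) (s : P.obj (op (W ⊓ D f))),
    ∃ (k : ℕ) (y : P.obj (op W)), P.map (homOfLE (inf_le_left : W ⊓ D f ≤ W)).op y = f ^ k • s

section wrappers

variable {P D}
variable (f : A) (fs : List A)

/-- the map defining the cone -/
noncomputable abbrev sφ (V : Opens T) :
    (stab P D fs).obj (op V) ⟶ (stab P D fs).obj (op (V ⊓ D f)) :=
  (stab P D fs).map (homOfLE (inf_le_left : V ⊓ D f ≤ V)).op

/-- first coordinate -/
noncomputable def sfst (V : Opens T) (i : ℤ) :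
    ((stab P D (f :: fs)).obj (op V)).X i →ₗ[A] ((stab P D fs).obj (op V)).X (i + 1) :=
  cfst (sφ f fs V) i (i + 1) rfl

/-- second coordinate -/
noncomputable def ssnd (V : Opens T) (i : ℤ) :
    ((stab P D (f :: fs)).obj (op V)).X i →ₗ[A] ((stab P D fs).obj (op (V ⊓ D f))).X i :=
  csnd (sφ f fs V) i

/-- pairing -/
noncomputable def smk (V : Opens T) (i : ℤ) (a : ((stab P D fs).obj (op V)).X (i + 1))
    (b : ((stab P D fs).obj (op (V ⊓ D f))).X i) : ((stab P D (f :: fs)).obj (op V)).X i :=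
  cmk (sφ f fs V) i (i + 1) rfl a b

@[simp] lemma sfst_smk (V : Opens T) (i : ℤ) (a b) :
    sfst f fs V i (smk (P := P) (D := D) f fs V i a b) = a := cfst_cmk _ _ _ _ _ _

@[simp] lemma ssnd_smk (V : Opens T) (i : ℤ) (a b) :
    ssnd f fs V i (smk (P := P) (D := D) f fs V i a b) = b := csnd_cmk _ _ _ _ _ _

variable {f fs}

lemma sext {V : Opens T} {i : ℤ} {x y : ((stab P D (f :: fs)).obj (op V)).X i}
    (h1 : sfst f fs V i x = sfst f fs V i y) (h2 : ssnd f fs V i x = ssnd f fs V i y) : x = y :=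
  cone_ext (sφ f fs V) (rfl : i + 1 = i + 1) h1 h2

variable (f fs)

lemma sfst_sres {V W : Opens T} (h : V ≤ W) (i : ℤ) (x) :
    sfst f fs V i (sres P D (f :: fs) h i x) = sres P D fs h (i + 1) (sfst f fs W i x) :=
  cfst_map (φ := sφ f fs W) (φ' := sφ f fs V) (by rw [← Functor.map_comp, ← Functor.map_comp]; rfl) i (i + 1) rfl x

lemma ssnd_sres {V W : Opens T} (h : V ≤ W) (i : ℤ) (x) :
    ssnd f fs V i (sres P D (f :: fs) h i x) =
      sres P D fs (inf_le_inf_right (D f) h) i (ssnd f fs W i x) :=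
  csnd_map (φ := sφ f fs W) (φ' := sφ f fs V) (by rw [← Functor.map_comp, ← Functor.map_comp]; rfl) i x

variable {M : ModuleCat.{u} A}

/-- the map defining the Koszul cone -/
noncomputable abbrev kφ (n : ℕ) :
    CohIII.koszulCx M (fs.map (· ^ n)) ⟶ CohIII.koszulCx M (fs.map (· ^ n)) :=
  f ^ n • 𝟙 _

/-- first coordinate of the Koszul complex -/
noncomputable def kfst (n : ℕ) (i : ℤ) :
    (CohIII.koszulCx M ((f :: fs).map (· ^ n))).X i →ₗ[A]
      (CohIII.koszulCx M (fs.map (· ^ n))).X (i + 1) :=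
  cfst (kφ f fs n) i (i + 1) rfl

/-- second coordinate of the Koszul complex -/
noncomputable def ksnd (n : ℕ) (i : ℤ) :
    (CohIII.koszulCx M ((f :: fs).map (· ^ n))).X i →ₗ[A]
      (CohIII.koszulCx M (fs.map (· ^ n))).X i :=
  csnd (kφ f fs n) i

/-- pairing -/
noncomputable def kmk (n : ℕ) (i : ℤ) (a : (CohIII.koszulCx M (fs.map (· ^ n))).X (i + 1))
    (b : (CohIII.koszulCx M (fs.map (· ^ n))).X i) :
    (CohIII.koszulCx M ((f :: fs).map (· ^ n))).X i :=
  cmk (kφ f fs n) i (i + 1) rfl a b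

@[simp] lemma kfst_kmk (n : ℕ) (i : ℤ) (a b) :
    kfst (M := M) f fs n i (kmk f fs n i a b) = a := cfst_cmk _ _ _ _ _ _

@[simp] lemma ksnd_kmk (n : ℕ) (i : ℤ) (a b) :
    ksnd (M := M) f fs n i (kmk f fs n i a b) = b := csnd_cmk _ _ _ _ _ _

variable {f fs}

lemma kext {n : ℕ} {i : ℤ} {x y : (CohIII.koszulCx M ((f :: fs).map (· ^ n))).X i}
    (h1 : kfst f fs n i x = kfst f fs n i y) (h2 : ksnd f fs n i x = ksnd f fs n i y) : x = y :=
  cone_ext (kφ f fs n) (rfl : i + 1 = i + 1) h1 h2

variable (f fs)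

lemma kfst_trans (n m : ℕ) (h : n ≤ m) (i : ℤ) (x) :
    kfst (M := M) f fs m i ((CohIII.koszulTrans M n m h (f :: fs)).f i x) =
      (CohIII.koszulTrans M n m h fs).f (i + 1) (kfst f fs n i x) :=
  cfst_map (φ := kφ f fs n) (φ' := kφ f fs m) _ i (i + 1) rfl x

lemma ksnd_trans (n m : ℕ) (h : n ≤ m) (i : ℤ) (x) :
    ksnd (M := M) f fs m i ((CohIII.koszulTrans M n m h (f :: fs)).f i x) =
      f ^ (m - n) • (CohIII.koszulTrans M n m h fs).f i (ksnd f fs n i x) :=
  csnd_map (φ := kφ f fs n) (φ' := kφ f fs m) _ i x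

lemma trans_trans (n m l : ℕ) (h : n ≤ m) (h' : m ≤ l) : ∀ (fs : List A) (j : ℤ) (x),
    (CohIII.koszulTrans M m l h' fs).f j ((CohIII.koszulTrans M n m h fs).f j x) =
      (CohIII.koszulTrans M n l (h.trans h') fs).f j x
  | [], j, x => rfl
  | f :: fs, j, x => by
      refine kext ?_ ?_
      · rw [kfst_trans, kfst_trans, kfst_trans, trans_trans n m l h h' fs]
      · rw [ksnd_trans, ksnd_trans, ksnd_trans, map_smul, trans_trans n m l h h' fs, ← mul_smul,
          ← pow_add, show l - m + (m - n) = l - n by omega]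

end wrappers

variable {P D}

/-- coordinate on the degree-zero stable complex -/
noncomputable def snil (V : Opens T) :
    ((stab P D ([] : List A)).obj (op V)).X 0 ≃ₗ[A] P.obj (op V) :=
  (HomologicalComplex.singleObjXSelf (ComplexShape.up ℤ) 0 (P.obj (op V))).toLinearEquiv

lemma snil_sres {V W : Opens T} (h : V ≤ W) (x) :
    snil (P := P) (D := D) V (sres P D [] h 0 x) = P.map (homOfLE h).op (snil (P := P) (D := D) W x) := by
  show ((((HomologicalComplex.single (ModuleCat.{u} A) (ComplexShape.up ℤ) 0).map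
    (P.map (homOfLE h).op)).f 0) ≫
      (HomologicalComplex.singleObjXSelf (ComplexShape.up ℤ) 0 (P.obj (op V))).hom).hom x = _
  rw [HomologicalComplex.single_map_f_self]
  simp [snil]
  rfl

lemma subsingleton_stab_nil (V : Opens T) (i : ℤ) (hi : i ≠ 0) :
    Subsingleton (((stab P D ([] : List A)).obj (op V)).X i) :=
  ModuleCat.subsingleton_of_isZero (HomologicalComplex.isZero_single_obj_X _ _ _ _ hi)

variable (hP : LocData P D)
include hP

lemma stab_smul_bijective : ∀ (fs : List A) (f : A) (V : Opens T), V ≤ D f → ∀ i : ℤ,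
    Function.Bijective (fun x : ((stab P D fs).obj (op V)).X i => f • x)
  | [], f, V, hV, i => by
      by_cases hi : i = 0
      · subst hi
        refine ⟨fun x y h => (snil (P := P) (D := D) V).injective ((hP.inv f V hV).1 ?_), fun y => ?_⟩
        · show f • snil (P := P) (D := D) V x = f • snil (P := P) (D := D) V y
          rw [← map_smul, ← map_smul]
          exact congrArg (snil (P := P) (D := D) V) h
        · obtain ⟨x, hx⟩ := (hP.inv f V hV).2 (snil (P := P) (D := D) V y)
          refine ⟨(snil (P := P) (D := D) V).symm x, (snil (P := P) (D := D) V).injective ?_⟩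
          rw [map_smul, LinearEquiv.apply_symm_apply]
          exact hx
      · have := subsingleton_stab_nil (P := P) (D := D) V i hi
        exact ⟨fun x y _ => Subsingleton.elim x y, fun y => ⟨0, Subsingleton.elim _ _⟩⟩
  | g :: fs, f, V, hV, i => by
      have h1 := stab_smul_bijective fs f V hV (i + 1)
      have h2 := stab_smul_bijective fs f (V ⊓ D g) (inf_le_left.trans hV) i
      refine ⟨fun x y h => sext (h1.1 ?_) (h2.1 ?_), fun y => ?_⟩
      · show f • _ = f • _
        rw [← map_smul, ← map_smul]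
        exact congrArg _ h
      · show f • _ = f • _
        rw [← map_smul, ← map_smul]
        exact congrArg _ h
      · obtain ⟨a, ha⟩ := h1.2 (sfst g fs V i y)
        obtain ⟨b, hb⟩ := h2.2 (ssnd g fs V i y)
        refine ⟨smk g fs V i a b, sext ?_ ?_⟩
        · rw [map_smul, sfst_smk]; exact ha
        · rw [map_smul, ssnd_smk]; exact hb

lemma stab_smul_pow_bijective (fs : List A) (f : A) (V : Opens T) (hV : V ≤ D f) (i : ℤ) (n : ℕ) :
    Function.Bijective (fun x : ((stab P D fs).obj (op V)).X i => f ^ n • x) := by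
  induction n with
  | zero =>
    have : (fun x : ((stab P D fs).obj (op V)).X i => f ^ 0 • x) = id := by funext x; simp
    rw [this]; exact Function.bijective_id
  | succ n ih =>
    have := (stab_smul_bijective hP fs f V hV i).comp ih
    simpa [Function.comp_def, ← mul_smul, pow_succ'] using this

lemma stab_zero : ∀ (fs : List A) (W : Opens T), hP.good W → ∀ (f : A) (V : Opens T)
    (hV : V ≤ W), W ⊓ D f ≤ V → ∀ (i : ℤ) (x), sres P D fs hV i x = 0 →
    ∃ k : ℕ, f ^ k • x = 0
  | [], W, hW, f, V, hV, hfV, i, x, hx => by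
      by_cases hi : i = 0
      · subst hi
        have hn := snil_sres hV x
        rw [hx, map_zero] at hn
        obtain ⟨k, hk⟩ := hP.zero W hW f (snil (P := P) (D := D) W x) (by
          rw [show (homOfLE (inf_le_left : W ⊓ D f ≤ W)).op =
              (homOfLE hV).op ≫ (homOfLE hfV).op from rfl, P.map_comp, ConcreteCategory.comp_apply,
            ← hn, map_zero])
        exact ⟨k, (snil (P := P) (D := D) W).injective (by rw [map_smul, hk, map_zero])⟩
      · have := subsingleton_stab_nil (P := P) (D := D) W i hi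
        exact ⟨0, Subsingleton.elim _ _⟩
  | g :: fs, W, hW, f, V, hV, hfV, i, x, hx => by
      obtain ⟨k₁, hk₁⟩ := stab_zero fs W hW f V hV hfV (i + 1) (sfst g fs W i x)
        (by rw [← sfst_sres, hx, map_zero])
      obtain ⟨k₂, hk₂⟩ := stab_zero fs (W ⊓ D g) (hP.good_inf W g hW) f (V ⊓ D g)
        (inf_le_inf_right _ hV)
        (by rw [inf_right_comm]; exact inf_le_inf_right _ hfV) i (ssnd g fs W i x)
        (by rw [← ssnd_sres g fs hV, hx, map_zero])
      refine ⟨k₂ + k₁, sext ?_ ?_⟩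
      · rw [map_smul, pow_add, mul_smul, hk₁, smul_zero, map_zero]
      · rw [map_smul, add_comm, pow_add, mul_smul, hk₂, smul_zero, map_zero]

lemma stab_extend : ∀ (fs : List A) (W : Opens T), hP.good W → ∀ (f : A) (V : Opens T)
    (hV : V ≤ W), V = W ⊓ D f → ∀ (i : ℤ) (s),
    ∃ (k : ℕ) (y : ((stab P D fs).obj (op W)).X i), sres P D fs hV i y = f ^ k • s
  | [], W, hW, f, V, hV, hfV, i, s => by
      subst hfV
      by_cases hi : i = 0
      · subst hi
        obtain ⟨k, y, hy⟩ := hP.extend W hW f (snil (P := P) (D := D) _ s)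
        refine ⟨k, (snil (P := P) (D := D) W).symm y, (snil (P := P) (D := D) _).injective ?_⟩
        rw [map_smul, ← hy, snil_sres, LinearEquiv.apply_symm_apply]
      · have := subsingleton_stab_nil (P := P) (D := D) (W ⊓ D f) i hi
        exact ⟨0, 0, Subsingleton.elim _ _⟩
  | g :: fs, W, hW, f, V, hV, hfV, i, s => by
      obtain ⟨k₁, y₁, hy₁⟩ := stab_extend fs W hW f V hV hfV (i + 1) (sfst g fs V i s)
      obtain ⟨k₂, y₂, hy₂⟩ := stab_extend fs (W ⊓ D g) (hP.good_inf W g hW) f (V ⊓ D g)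
        (inf_le_inf_right _ hV) (by rw [hfV, inf_right_comm]) i (ssnd g fs V i s)
      refine ⟨k₂ + k₁, smk g fs W i (f ^ k₂ • y₁) (f ^ k₁ • y₂), sext ?_ ?_⟩
      · rw [sfst_sres, sfst_smk, map_smul, map_smul, hy₁, ← mul_smul, ← pow_add]
      · rw [ssnd_sres, ssnd_smk, map_smul, map_smul, hy₂, ← mul_smul, ← pow_add, add_comm k₁]

/-- inverse of `f ^ n` on the sections over `V ≤ D f` -/
lemma exists_invPow (fs : List A) (f : A) (V : Opens T) (hV : V ≤ D f) (n : ℕ) :
    ∃ g : (stab P D fs).obj (op V) ⟶ (stab P D fs).obj (op V),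
      (f ^ n • 𝟙 ((stab P D fs).obj (op V))) ≫ g = 𝟙 _ ∧ ∀ i x, f ^ n • g.f i x = x := by
  have : IsIso (f ^ n • 𝟙 ((stab P D fs).obj (op V))) := by
    have : ∀ i, IsIso ((f ^ n • 𝟙 ((stab P D fs).obj (op V))).f i) := fun i => by
      have hb := stab_smul_pow_bijective hP fs f V hV i n
      have := (ModuleCat.mono_iff_injective ((f ^ n • 𝟙 ((stab P D fs).obj (op V))).f i)).2 hb.1
      have := (ModuleCat.epi_iff_surjective ((f ^ n • 𝟙 ((stab P D fs).obj (op V))).f i)).2 hb.2
      exact isIso_of_mono_of_epi _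
    exact HomologicalComplex.Hom.isIso_of_components _
  refine ⟨inv (f ^ n • 𝟙 ((stab P D fs).obj (op V))), IsIso.hom_inv_id _, fun i x => ?_⟩
  exact LinearMap.congr_fun (congrArg ModuleCat.Hom.hom
    (congrArg (fun k => HomologicalComplex.Hom.f k i)
      (IsIso.inv_hom_id (f ^ n • 𝟙 ((stab P D fs).obj (op V)))))) x

/-- the chosen inverse -/
noncomputable def invPow (fs : List A) (f : A) (n : ℕ) :
    (stab P D fs).obj (op (⊤ ⊓ D f)) ⟶ (stab P D fs).obj (op (⊤ ⊓ D f)) :=
  (exists_invPow hP fs f (⊤ ⊓ D f) inf_le_right n).choose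

lemma invPow_spec (fs : List A) (f : A) (n : ℕ) (i : ℤ) (x) :
    f ^ n • (invPow hP fs f n).f i x = x :=
  (exists_invPow hP fs f (⊤ ⊓ D f) inf_le_right n).choose_spec.2 i x

lemma invPow_comp (fs : List A) (f : A) (n : ℕ) :
    (f ^ n • 𝟙 ((stab P D fs).obj (op (⊤ ⊓ D f)))) ≫ invPow hP fs f n = 𝟙 _ :=
  (exists_invPow hP fs f (⊤ ⊓ D f) inf_le_right n).choose_spec.1

variable {M : ModuleCat.{u} A} (θ : M ⟶ P.obj (op ⊤))

/-- the comparison map at level `n` -/
noncomputable def toStab : ∀ (fs : List A) (n : ℕ),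
    CohIII.koszulCx M (fs.map (· ^ n)) ⟶ (stab P D fs).obj (op ⊤)
  | [], _ => (HomologicalComplex.single (ModuleCat.{u} A) (ComplexShape.up ℤ) 0).map θ
  | f :: fs, n => mappingCone.map (kφ f fs n) (sφ f fs ⊤) (toStab fs n)
      (toStab fs n ≫ sφ f fs ⊤ ≫ invPow hP fs f n) (by
        have h := invPow_comp hP fs f n
        rw [Linear.smul_comp, Category.id_comp] at h
        rw [kφ, Linear.smul_comp, Category.id_comp, ← Linear.comp_smul, ← Linear.comp_smul, h,
          Category.comp_id])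

lemma sfst_toStab (f : A) (fs : List A) (n : ℕ) (i : ℤ) (x) :
    sfst f fs ⊤ i ((toStab hP θ (f :: fs) n).f i x) =
      (toStab hP θ fs n).f (i + 1) (kfst f fs n i x) :=
  cfst_map (φ := kφ f fs n) (φ' := sφ f fs ⊤) _ i (i + 1) rfl x

lemma pow_smul_ssnd_toStab (f : A) (fs : List A) (n : ℕ) (i : ℤ) (x) :
    f ^ n • ssnd f fs ⊤ i ((toStab hP θ (f :: fs) n).f i x) =
      sres P D fs inf_le_left i ((toStab hP θ fs n).f i (ksnd f fs n i x)) := by
  have h : ssnd f fs ⊤ i ((toStab hP θ (f :: fs) n).f i x) =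
      (invPow hP fs f n).f i (sres P D fs inf_le_left i ((toStab hP θ fs n).f i (ksnd f fs n i x))) :=
    csnd_map (φ := kφ f fs n) (φ' := sφ f fs ⊤) _ i x
  rw [h, invPow_spec]

lemma toStab_trans : ∀ (fs : List A) (n m : ℕ) (h : n ≤ m) (i : ℤ) (x),
    (toStab hP θ fs m).f i ((CohIII.koszulTrans M n m h fs).f i x) = (toStab hP θ fs n).f i x
  | [], n, m, h, i, x => rfl
  | f :: fs, n, m, h, i, x => by
      refine sext ?_ ((stab_smul_pow_bijective hP fs f _ inf_le_right i m).1 ?_)
      · rw [sfst_toStab, sfst_toStab, kfst_trans, toStab_trans fs n m h]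
      · show f ^ m • _ = f ^ m • _
        rw [pow_smul_ssnd_toStab, ksnd_trans, map_smul, map_smul, toStab_trans fs n m h,
          ← pow_smul_ssnd_toStab, ← mul_smul, ← pow_add, Nat.sub_add_cancel h]

variable (hθ : Function.Bijective θ)
include hθ

lemma toStab_surj : ∀ (fs : List A) (i : ℤ) (y : ((stab P D fs).obj (op ⊤)).X i),
    ∃ n x, (toStab hP θ fs n).f i x = y
  | [], i, y => by
      have : IsIso θ := by
        have := (ModuleCat.mono_iff_injective θ).2 hθ.1
        have := (ModuleCat.epi_iff_surjective θ).2 hθ.2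
        exact isIso_of_mono_of_epi _
      obtain ⟨x, hx⟩ := (ModuleCat.epi_iff_surjective
        (((HomologicalComplex.single (ModuleCat.{u} A) (ComplexShape.up ℤ) 0).map θ).f i)).1
        inferInstance y
      exact ⟨0, x, hx⟩
  | f :: fs, i, y => by
      obtain ⟨n₁, x₁, hx₁⟩ := toStab_surj fs (i + 1) (sfst f fs ⊤ i y)
      obtain ⟨k, b, hb⟩ := stab_extend hP fs ⊤ hP.good_top f (⊤ ⊓ D f) inf_le_left rfl i
        (ssnd f fs ⊤ i y)
      obtain ⟨n₂, x₂, hx₂⟩ := toStab_surj fs i b
      let m := max (max n₁ n₂) k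
      refine ⟨m, kmk f fs m i
        ((CohIII.koszulTrans M n₁ m (by omega) fs).f (i + 1) x₁)
        (f ^ (m - k) • (CohIII.koszulTrans M n₂ m (by omega) fs).f i x₂),
        sext ?_ ((stab_smul_pow_bijective hP fs f _ inf_le_right i m).1 ?_)⟩
      · rw [sfst_toStab, kfst_kmk, toStab_trans, hx₁]
      · show f ^ m • _ = f ^ m • _
        rw [pow_smul_ssnd_toStab, ksnd_kmk, map_smul, map_smul, toStab_trans, hx₂, hb, ← mul_smul,
          ← pow_add, Nat.sub_add_cancel (le_max_right _ _)]

lemma toStab_inj : ∀ (fs : List A) (i : ℤ) (n : ℕ) (x),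
    (toStab hP θ fs n).f i x = 0 → ∃ m, ∃ h : n ≤ m, (CohIII.koszulTrans M n m h fs).f i x = 0
  | [], i, n, x, hx => by
      have : IsIso θ := by
        have := (ModuleCat.mono_iff_injective θ).2 hθ.1
        have := (ModuleCat.epi_iff_surjective θ).2 hθ.2
        exact isIso_of_mono_of_epi _
      have hinj := (ModuleCat.mono_iff_injective
        (((HomologicalComplex.single (ModuleCat.{u} A) (ComplexShape.up ℤ) 0).map θ).f i)).1
        inferInstance
      exact ⟨n, le_rfl, hinj (hx.trans (map_zero _).symm)⟩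
  | f :: fs, i, n, z, hz => by
      obtain ⟨m₁, hm₁, h1⟩ := toStab_inj fs (i + 1) n (kfst f fs n i z)
        (by rw [← sfst_toStab, hz, map_zero])
      obtain ⟨k, hk⟩ := stab_zero hP fs ⊤ hP.good_top f (⊤ ⊓ D f) inf_le_left le_rfl i
        ((toStab hP θ fs n).f i (ksnd f fs n i z))
        (by rw [← pow_smul_ssnd_toStab, hz, map_zero, smul_zero])
      obtain ⟨m₂, hm₂, h2⟩ := toStab_inj fs i n (f ^ k • ksnd f fs n i z) (by rw [map_smul, hk])
      let m := max (max m₁ m₂) (n + k)
      refine ⟨m, by omega, kext ?_ ?_⟩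
      · rw [kfst_trans, ← trans_trans n m₁ m hm₁ (by omega), h1, map_zero, map_zero]
      · rw [ksnd_trans, show m - n = (m - n - k) + k by omega, pow_add, mul_smul, ← map_smul,
          ← trans_trans n m₂ m hm₂ (by omega), h2, map_zero, smul_zero, map_zero]

/-- the colimit of Koszul cohomology is the cohomology of the stable complex -/
theorem nonempty_koszulHLim_equiv (fs : List A) (p : ℕ) :
    Nonempty (CohIII.koszulHLim fs M p ≃ₗ[A]
      ((stab P D fs).obj (op ⊤)).homology ((p : ℤ) - fs.length)) :=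
  nonempty_directLimit_homology_equiv (fun n => CohIII.koszulCx M (fs.map (· ^ n)))
    (fun n m h => CohIII.koszulTrans M n m h fs) _ (toStab hP θ fs)
    (fun n m h j x => toStab_trans hP θ fs n m h j x)
    (fun n m l h h' j x => trans_trans n m l h h' fs j x)
    (fun j y => toStab_surj hP θ hθ fs j y) (fun j n x hx => toStab_inj hP θ hθ fs j n x hx) _

end stable

end Groth.KoszulCone
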