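import Groth.Agent.KoszulCone.SchemeCase
import Groth.Agent.LocCohZBase.ExtSeq
import Groth.Prelude.Def_Wider
import Mathlib.AlgebraicGeometry.Modules.Tilde

/-!
Koszul cohomology and cohomology with supports on an affine scheme.
-/

set_option linter.unusedSectionVars false

universe u

open CategoryTheory CategoryTheory.Limits AlgebraicGeometry TopologicalSpace Opposite

namespace Groth.KoszulCone

variable {R : CommRingCat.{u}} (F : (Spec R).Modules) [F.IsQuasicoherent]

/-- global function of an element -/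
noncomputable abbrev specFn (f : R) : Γ(Spec R, ⊤) := (Scheme.ΓSpecIso R).inv f

/-- localisation of the sections over the base ring -/
noncomputable def specLocData :
    LocData (T := (Spec R).toTopCat) (modulesSpecToSheaf.obj F).presheaf
      (fun f : R => (Spec R).basicOpen (specFn f)) where
  inv f V hV := (locData F).inv (specFn f) V hV
  good := (locData F).good
  good_top := (locData F).good_top
  good_inf W f := (locData F).good_inf W (specFn f)
  zero W hW f x hx := by
    obtain ⟨k, hk⟩ := (locData F).zero W hW (specFn f) x hx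
    refine ⟨k, ?_⟩
    rw [← map_pow] at hk
    exact hk
  extend W hW f s := by
    obtain ⟨k, y, hy⟩ := (locData F).extend W hW (specFn f) s
    refine ⟨k, y, ?_⟩
    rw [← map_pow] at hy
    exact hy

variable {T : TopCat.{u}} (G : CohTop.Ab T) {W : Opens T}

/-- sections as degree zero cohomology on an open -/
noncomputable def huEquiv (V : Opens T) : CohTop.HU G 0 V ≃+ G.obj.obj (op V) :=
  Abelian.Ext.addEquiv₀.trans (CohBase.homFreeOpen (X := T) V G)

lemma huEquiv_res {V V' : Opens T} (h : V' ≤ V) (x : CohTop.HU G 0 V) :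
    huEquiv G V' (CohTop.res G 0 h x) = G.obj.map (homOfLE h).op (huEquiv G V x) := by
  obtain ⟨a, rfl⟩ := (Abelian.Ext.mk₀_bijective _ _).2 x
  show CohBase.homFreeOpen (X := T) V' G (Abelian.Ext.addEquiv₀
    ((Abelian.Ext.mk₀ _).comp (Abelian.Ext.mk₀ a) (zero_add 0))) =
    G.obj.map (homOfLE h).op (CohBase.homFreeOpen (X := T) V G
      (Abelian.Ext.addEquiv₀ (Abelian.Ext.mk₀ a)))
  rw [Abelian.Ext.mk₀_comp_mk₀, ← Abelian.Ext.addEquiv₀_symm_apply,
    ← Abelian.Ext.addEquiv₀_symm_apply, AddEquiv.apply_symm_apply, AddEquiv.apply_symm_apply]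
  exact CohFree.evalGen_freeSheafMap_comp _ _ _ _

/-- degree one with supports from sections -/
noncomputable def secDelta (h : W ≤ ⊤) : G.obj.obj (op W) →+ LocCohZ.HZ G 1 h :=
  (LocCohZ.delta G 0 h).comp (huEquiv G W).symm.toAddMonoidHom

lemma secDelta_surjective (h : W ≤ ⊤) [Subsingleton (CohTop.HU G 1 ⊤)] :
    Function.Surjective (secDelta G h) :=
  (LocCohZBase.delta_surjective G h 0).comp (huEquiv G W).symm.surjective

lemma secDelta_eq_zero_iff (h : W ≤ ⊤) (t : G.obj.obj (op W)) :
    secDelta G h t = 0 ↔ t ∈ (G.obj.map (homOfLE h).op).hom.range := by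
  constructor
  · intro ht
    obtain ⟨y, hy⟩ := LocCohZBase.exact_res_delta G h 0 _ ht
    refine ⟨huEquiv G ⊤ y, ((huEquiv_res G h y).symm.trans ?_)⟩
    rw [hy]
    exact (huEquiv G W).apply_symm_apply t
  · rintro ⟨s, hs⟩
    obtain ⟨y, rfl⟩ := (huEquiv G ⊤).surjective s
    have e : (huEquiv G W).symm t = CohTop.res G 0 h y := by
      exact ((huEquiv G W).symm_apply_eq).2 (hs.symm.trans (huEquiv_res G h y).symm)
    show LocCohZ.delta G 0 h ((huEquiv G W).symm t) = 0
    rw [e]
    exact LocCohZBase.delta_res G h 0 y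

variable {A : Type u} [CommRing A] (M : ModuleCat.{u} A)

lemma puncturedOpen_span (fs : List A) :
    LocCoh.puncturedOpen A (Ideal.span {a | a ∈ fs}) =
      ⨆ i : Fin fs.length, (Spec (CommRingCat.of A)).basicOpen (specFn (R := CommRingCat.of A) (fs.get i)) := by
  simp_rw [basicOpen_eq_of_affine]
  refine Opens.ext (Set.ext fun (p : PrimeSpectrum A) => ?_)
  refine Iff.trans ?_ Opens.mem_iSup.symm
  show p ∉ PrimeSpectrum.zeroLocus _ ↔ ∃ i, fs.get i ∉ p.asIdeal
  rw [PrimeSpectrum.zeroLocus_span, PrimeSpectrum.mem_zeroLocus, Set.not_subset]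
  constructor
  · rintro ⟨a, ha, hp⟩
    obtain ⟨i, rfl⟩ := List.mem_iff_get.1 ha
    exact ⟨i, hp⟩
  · rintro ⟨i, hp⟩
    exact ⟨_, List.get_mem _ _, hp⟩

/-- Koszul cohomology as cohomology with supports -/
theorem nonempty_koszulHLim_equiv_HZM (fs : List A) (i : ℕ) :
    Nonempty (CohIII.koszulHLim fs M i ≃+
      LocCohZ.HZM (Spec (CommRingCat.of A)) (tilde (R := CommRingCat.of A) M) i
        (LocCoh.puncturedOpen A (Ideal.span {a | a ∈ fs}))) := by
  rw [puncturedOpen_span]
  set X := Spec (CommRingCat.of A)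
  set F := tilde (R := CommRingCat.of A) M
  set P := (modulesSpecToSheaf.obj F).presheaf
  set D := fun f : A => X.basicOpen (specFn (R := CommRingCat.of A) f)
  set W : X.Opens := ⨆ i : Fin fs.length, D (fs.get i)
  obtain ⟨e⟩ := nonempty_koszulHLim_equiv_aug (A := A) (T := X.toTopCat) P D (specLocData F)
    (tilde.isoTop (R := CommRingCat.of A) M).hom (ConcreteCategory.bijective_of_isIso _) fs i
  have hle : ∀ j, famOf (T := X.toTopCat) D fs j ≤ W := fun j =>
    le_iSup (fun i : Fin fs.length => D (fs.get i)) j.down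
  have hcov : W ≤ ⨆ j, famOf (T := X.toTopCat) D fs j :=
    iSup_le fun j => le_iSup (famOf (T := X.toTopCat) D fs) ⟨j⟩
  have hv : ∀ n : ℕ, Subsingleton (CohTop.HU (X := X.toTopCat) (Coh.toAb F) (n + 1) ⊤) := fun n =>
    CohBase.hVanish_of_isAffineOpen F (isAffineOpen_top X) n
  match i with
  | 0 =>
    obtain ⟨⟨a⟩, -⟩ := nonempty_ker_coker_equiv_aug (P := P) (D := D) (fs := fs)
      (Coh.toAb F) W rfl hle hcov
    exact ⟨e.toAddEquiv.trans (a.symm.trans (LocCohZ.sect0Equiv (X := X.toTopCat) (Coh.toAb F) le_top).symm)⟩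
  | 1 =>
    obtain ⟨-, ⟨b⟩⟩ := nonempty_ker_coker_equiv_aug (P := P) (D := D) (fs := fs)
      (Coh.toAb F) W rfl hle hcov
    have := hv 0
    refine ⟨e.toAddEquiv.trans (b.symm.trans (addEquivOfKer (QuotientAddGroup.mk' _)
      (secDelta (T := X.toTopCat) (Coh.toAb F) (le_top : W ≤ ⊤)) (QuotientAddGroup.mk'_surjective _)
      (secDelta_surjective _ _) fun t => ?_))⟩
    rw [QuotientAddGroup.mk'_apply, QuotientAddGroup.eq_zero_iff]
    exact (secDelta_eq_zero_iff (T := X.toTopCat) (Coh.toAb F) le_top t).symm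
  | j + 2 =>
    obtain ⟨e'⟩ := nonempty_cech_equiv_aug (P := P) (D := D) (fs := fs) j
    have hU : ∀ (n : ℕ) (x : Fin (n + 1) → ULift.{u} (Fin fs.length)),
        IsAffineOpen (X := X) (CohBase.inter (X := X.toTopCat) (famOf (T := X.toTopCat) D fs) x) := by
      intro n
      induction n with
      | zero => intro x; rw [CohBase.inter_one]; exact (isAffineOpen_top X).basicOpen _
      | succ n ih =>
        intro x
        rw [← Fin.cons_self_tail x, CohBase.inter_cons]
        exact IsAffineOpen.inf ((isAffineOpen_top X).basicOpen _) (ih _)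
    obtain ⟨e''⟩ := CohBase.nonempty_cech_equiv_H' (X := X.toTopCat) (famOf (T := X.toTopCat) D fs) W
      hle hcov (j + 1) (CohBase.abSheaf F) fun n x k => CohBase.hVanish_of_isAffineOpen F (hU n x) k
    have := hv j
    have := hv (j + 1)
    let d : CohTop.HU (X := X.toTopCat) (Coh.toAb F) (j + 1) W ≃+ LocCohZ.HZM X F (j + 1 + 1) W :=
      AddEquiv.ofBijective (LocCohZ.delta (Coh.toAb F) (j + 1) (le_top : W ≤ ⊤))
        ⟨LocCohZBase.delta_injective _ _ _, LocCohZBase.delta_surjective _ _ _⟩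
    exact ⟨e.toAddEquiv.trans (e'.symm.trans (e''.trans d))⟩

end Groth.KoszulCone
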