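import Groth.Agent.KoszulCone.Colim

/-!
The top degree of the colimit Koszul complex.
-/

set_option linter.unusedSectionVars false

universe u

open CategoryTheory CategoryTheory.Limits

namespace Groth.KoszulCone

variable {A : Type u} [CommRing A] {M : ModuleCat.{u} A}

/-- the top coordinate -/
noncomputable def top : ∀ (fs : List A) (n : ℕ), (kc fs M n).X 0 →ₗ[A] M
  | [], _ => (HomologicalComplex.singleObjXSelf (ComplexShape.up ℤ) 0 M).hom.hom
  | f :: fs, n => top fs n ∘ₗ ksnd f fs n 0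

lemma top_cons (f : A) (fs : List A) (n : ℕ) (x) :
    top (M := M) (f :: fs) n x = top fs n (ksnd f fs n 0 x) := rfl

lemma top_bijective : ∀ (fs : List A) (n : ℕ), Function.Bijective (top (M := M) fs n)
  | [], _ => ConcreteCategory.bijective_of_isIso _
  | f :: fs, n => (top_bijective fs n).comp ⟨fun x y h =>
      kext (@Subsingleton.elim _ (subsingleton_kX fs n ((0 : ℤ) + 1) (Or.inl (by omega))) _ _) h,
      fun b => ⟨kmk f fs n 0 0 b, ksnd_kmk _ _ _ _ _ _⟩⟩

lemma top_trans : ∀ (fs : List A) (n m : ℕ) (h : n ≤ m) (x),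
    top (M := M) fs m ((CohIII.koszulTrans M n m h fs).f 0 x) = fs.prod ^ (m - n) • top fs n x
  | [], n, m, h, x => by
      rw [List.prod_nil, one_pow, one_smul]
      rfl
  | f :: fs, n, m, h, x => by
      rw [top_cons, top_cons, ksnd_trans, map_smul, top_trans fs, List.prod_cons, mul_pow, mul_smul]

lemma top_boundary : ∀ (fs : List A) (n : ℕ) (i : ℤ) (hi : i + 1 = 0) (m : M),
    (∃ w, top fs n ((kc fs M n).d i 0 w) = m) ↔
      m ∈ Ideal.ofList (fs.map (· ^ n)) • (⊤ : Submodule A M)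
  | [], n, i, hi, m => by
      rw [List.map_nil, Ideal.ofList_nil, Submodule.bot_smul, Submodule.mem_bot]
      have := subsingleton_kX (M := M) [] n i (Or.inr (by simp; omega))
      constructor
      · rintro ⟨w, rfl⟩
        rw [Subsingleton.elim w 0, map_zero, map_zero]
      · rintro rfl
        exact ⟨0, by rw [map_zero, map_zero]⟩
  | f :: fs, n, i, hi, m => by
      obtain rfl : i = -1 := by omega
      rw [List.map_cons, Ideal.ofList_cons, Submodule.sup_smul, Submodule.mem_sup]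
      have hd : ∀ w, top (f :: fs) n ((kc (f :: fs) M n).d (-1) ((-1 : ℤ) + 1) w) =
          f ^ n • top fs n (kfst f fs n (-1) w) +
            top fs n ((kc fs M n).d (-1) ((-1 : ℤ) + 1) (ksnd f fs n (-1) w)) := fun w => by
        refine (congrArg (top fs n) (ksnd_d f fs n (-1) w)).trans ?_
        rw [map_add, map_smul]
      constructor
      · rintro ⟨w, rfl⟩
        refine ⟨_, ?_, _, (top_boundary fs n (-1) hi _).1 ⟨ksnd f fs n (-1) w, rfl⟩, (hd w).symm⟩
        exact Submodule.smul_mem_smul (Ideal.mem_span_singleton_self _) Submodule.mem_top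
      · rintro ⟨a, ha, b, hb, rfl⟩
        rw [Submodule.ideal_span_singleton_smul, Submodule.mem_smul_pointwise_iff_exists] at ha
        obtain ⟨y, -, rfl⟩ := ha
        obtain ⟨p, rfl⟩ := (top_bijective (M := M) fs n).2 y
        obtain ⟨q, rfl⟩ := (top_boundary fs n (-1) hi b).2 hb
        refine ⟨kmk f fs n (-1) p q, (hd _).trans ?_⟩
        rw [kfst_kmk, ksnd_kmk]
        rfl

variable (M) in
/-- classes in the top degree -/
lemma exists_topH (fs : List A) :
    ∃ c : ℕ → (M →ₗ[A] (Kinf fs M).homology 0), (∀ y, ∃ n m, c n m = y) ∧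
      (∀ n k (h : n ≤ k) (m : M), c k (fs.prod ^ (k - n) • m) = c n m) ∧
      ∀ n (m : M), c n m = 0 ↔ ∃ k, n ≤ k ∧
        fs.prod ^ (k - n) • m ∈ Ideal.ofList (fs.map (· ^ k)) • (⊤ : Submodule A M) := by
  have hcyc : ∀ (n : ℕ) (x : (kc fs M n).X 0), (Kinf fs M).d 0 1 (kι fs M 0 n x) = 0 := by
    intro n x
    show kD fs M 0 1 (kι fs M 0 n x) = 0
    rw [kD_ι, @Subsingleton.elim _ (subsingleton_kX fs n 1 (Or.inl one_pos)) ((kc fs M n).d 0 1 x) 0,
      map_zero]
  let c : ℕ → (M →ₗ[A] (Kinf fs M).homology 0) := fun n =>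
    hcls (Kinf fs M) 0 1 rfl ∘ₗ LinearMap.codRestrict _
      (kι fs M 0 n ∘ₗ (LinearEquiv.ofBijective (top (M := M) fs n) (top_bijective fs n)).symm.toLinearMap)
      fun m => hcyc n _
  have hc : ∀ n x, c n (top fs n x) = hcls (Kinf fs M) 0 1 rfl ⟨kι fs M 0 n x, hcyc n x⟩ := fun n x => by
    refine congrArg (hcls (Kinf fs M) 0 1 rfl) (Subtype.ext (congrArg (kι fs M 0 n) ?_))
    exact (LinearEquiv.ofBijective (top (M := M) fs n) (top_bijective fs n)).symm_apply_apply x
  refine ⟨c, fun y => ?_, fun n k h m => ?_, fun n m => ?_⟩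
  · obtain ⟨⟨y, hy⟩, rfl⟩ := hcls_surjective (K := Kinf fs M) 0 1 rfl y
    obtain ⟨n, x, rfl⟩ := kι_surj y
    exact ⟨n, top fs n x, hc n x⟩
  · obtain ⟨x, rfl⟩ := (top_bijective (M := M) fs n).2 m
    rw [← top_trans fs n k h, hc, hc]
    exact congrArg (hcls (Kinf fs M) 0 1 rfl) (Subtype.ext (kι_trans h x))
  · obtain ⟨x, rfl⟩ := (top_bijective (M := M) fs n).2 m
    rw [hc, hcls_eq_zero_iff (-1) 0 1 (by norm_num) rfl]
    constructor
    · rintro ⟨w, hw⟩
      obtain ⟨k₀, w, rfl⟩ := kι_surj w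
      replace hw : kD fs M (-1) 0 (kι fs M (-1) k₀ w) = kι fs M 0 n x := hw
      rw [kD_ι, ← kι_trans (le_max_left k₀ n), ← kι_trans (le_max_right k₀ n), ← sub_eq_zero,
        ← map_sub] at hw
      obtain ⟨k, hk, h0⟩ := kι_eq_zero hw
      rw [map_sub, trans_trans, trans_trans, hom_d, sub_eq_zero] at h0
      refine ⟨k, (le_max_right _ _).trans hk, (top_boundary fs k (-1) (by norm_num) _).1
        ⟨(CohIII.koszulTrans M k₀ k ((le_max_left _ _).trans hk) fs).f (-1) w, ?_⟩⟩
      rw [h0, top_trans]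
    · rintro ⟨k, hk, hm⟩
      obtain ⟨w, hw⟩ := (top_boundary fs k (-1) (by norm_num) _).2 hm
      refine ⟨kι fs M (-1) k w, ?_⟩
      show kD fs M (-1) 0 (kι fs M (-1) k w) = kι fs M 0 n x
      rw [kD_ι, ← kι_trans hk x]
      congr 1
      exact (top_bijective fs k).1 (hw.trans (top_trans fs n k hk x).symm)

end Groth.KoszulCone
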